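import Mathlib
import Cfsg.Agent.Herm.Conj
import Cfsg.Agent.Herm.SU

/-!
Block subgroups of the special unitary group of the standard Hermitian form.
-/

set_option autoImplicit false
set_option backward.isDefEq.respectTransparency false

namespace Cfsg.Agent.Phan

open Matrix Herm

variable {F : Type*} [Field F] {σ : F →+* F} {ι κ μ : Type*} [Fintype ι] [DecidableEq ι]
  [Fintype κ] [DecidableEq κ] [Fintype μ] [DecidableEq μ]

variable (σ ι) in
/-- the special unitary group -/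
def SU : Subgroup (SpecialLinearGroup ι F) where
  carrier := {A | ct σ A.1 * A.1 = 1}
  one_mem' := by simp
  mul_mem' {A B} hA hB := by
    change ct σ (A.1 * B.1) * (A.1 * B.1) = 1
    rw [ct_mul, Matrix.mul_assoc, ← Matrix.mul_assoc (ct σ A.1), hA, Matrix.one_mul, hB]
  inv_mem' {A} hA := by
    have h1 : A.1 * (A⁻¹).1 = 1 := congrArg Subtype.val (mul_inv_cancel A)
    have h2 : ct σ A.1 = (A⁻¹).1 := by
      rw [← Matrix.mul_one (ct σ A.1), ← h1, ← Matrix.mul_assoc, hA, Matrix.one_mul]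
    change ct σ (A⁻¹).1 * (A⁻¹).1 = 1
    rw [← h2, ← ct_mul, mul_eq_one_comm.1 hA, ct_one]

theorem SU.prop (g : SU σ ι) : ct σ g.1.1 * g.1.1 = 1 := g.2

theorem SU.inv_val (g : SU σ ι) : (g⁻¹).1.1 = ct σ g.1.1 := by
  have h1 : g.1.1 * (g⁻¹).1.1 = 1 := congrArg (fun x : SU σ ι => x.1.1) (mul_inv_cancel g)
  rw [← Matrix.mul_one (ct σ g.1.1), ← h1, ← Matrix.mul_assoc, SU.prop, Matrix.one_mul]

theorem SU.mul_val (g h : SU σ ι) : (g * h).1.1 = g.1.1 * h.1.1 := rfl

theorem SU.ext {g h : SU σ ι} (H : g.1.1 = h.1.1) : g = h := Subtype.ext (Subtype.ext H)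

theorem SU.smul_def (g : SU σ ι) (v : ι → F) : g • v = g.1.1 *ᵥ v := rfl

theorem SU.ext' {g h : SU σ ι} (H : ∀ k, g • (Pi.single k 1 : ι → F) = h • Pi.single k 1) :
    g = h := SU.ext (by
  ext i j
  simpa [SU.smul_def] using congrFun (H j) i)

theorem SU.b_smul (g : SU σ ι) (u v : ι → F) : stdB σ ι (g • u) (g • v) = stdB σ ι u v := by
  rw [SU.smul_def, SU.smul_def, stdB_mulVec_left, mulVec_mulVec, SU.prop, one_mulVec]

theorem SU.smul_c (g : SU σ ι) (c : F) (v : ι → F) : g • c • v = c • g • v := by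
  rw [SU.smul_def, mulVec_smul]; rfl

/-- the inclusion matrix -/
def inc (F : Type*) [Field F] (f : κ ↪ ι) : Matrix ι κ F := of fun i k => if f k = i then 1 else 0

theorem inc_mul (f : κ ↪ ι) : (inc F f)ᵀ * inc F f = 1 := by
  ext i j
  simp [inc, mul_apply, one_apply, eq_comm]

theorem inc_map (f : κ ↪ ι) : (inc F f).map σ = inc F f := by
  ext i j; simp [inc, apply_ite]

/-- extension of a matrix by the identity -/
def embM (f : κ ↪ ι) (A : Matrix κ κ F) : Matrix ι ι F := 1 + inc F f * (A - 1) * (inc F f)ᵀ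

theorem embM_mul (f : κ ↪ ι) (A B : Matrix κ κ F) : embM f (A * B) = embM f A * embM f B := by
  have : inc F f * (A - 1) * (inc F f)ᵀ * (inc F f * (B - 1) * (inc F f)ᵀ) =
      inc F f * ((A - 1) * (B - 1)) * (inc F f)ᵀ := by
    simp only [Matrix.mul_assoc]
    rw [← Matrix.mul_assoc (inc F f)ᵀ, inc_mul, Matrix.one_mul]
  rw [embM, embM, embM, Matrix.mul_add, Matrix.add_mul, Matrix.add_mul, this,
    show A * B - 1 = (A - 1) + (B - 1) + (A - 1) * (B - 1) by noncomm_ring]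
  simp only [Matrix.mul_add, Matrix.add_mul, Matrix.mul_one, Matrix.one_mul]
  abel

theorem embM_one (f : κ ↪ ι) : embM f (1 : Matrix κ κ F) = 1 := by simp [embM]

theorem embM_ct (f : κ ↪ ι) (A : Matrix κ κ F) : ct σ (embM f A) = embM f (ct σ A) := by
  have : ct σ A - 1 = ((A - 1).map σ)ᵀ := by rw [← ct_apply, map_sub, ct_one]
  rw [embM, embM, map_add, ct_one, this, ct_apply,
    Matrix.map_mul, Matrix.map_mul, transpose_mul, transpose_mul, transpose_map, inc_map,
    transpose_transpose, Matrix.mul_assoc]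

theorem embM_det (f : κ ↪ ι) (A : Matrix κ κ F) : (embM f A).det = A.det := by
  rw [embM, Matrix.mul_assoc, det_one_add_mul_comm, Matrix.mul_assoc, inc_mul]; simp

theorem embM_apply (f : κ ↪ ι) (A : Matrix κ κ F) (i j : κ) : embM f A (f i) (f j) = A i j := by
  simp [embM, inc, mul_apply, one_apply]

theorem embM_left (f : κ ↪ ι) (A : Matrix κ κ F) {i : ι} (hi : i ∉ Set.range f) (j : ι) :
    embM f A i j = (1 : Matrix ι ι F) i j := by
  have : ∀ k, f k ≠ i := fun k h => hi ⟨k, h⟩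
  simp [embM, inc, mul_apply, this]

theorem embM_right (f : κ ↪ ι) (A : Matrix κ κ F) (i : ι) {j : ι} (hj : j ∉ Set.range f) :
    embM f A i j = (1 : Matrix ι ι F) i j := by
  have : ∀ k, f k ≠ j := fun k h => hj ⟨k, h⟩
  simp [embM, inc, mul_apply, this]

theorem embM_ext {f : κ ↪ ι} {A : Matrix κ κ F} {g : Matrix ι ι F}
    (h1 : ∀ i j, g (f i) (f j) = A i j)
    (h2 : ∀ i ∉ Set.range f, ∀ j, g i j = (1 : Matrix ι ι F) i j ∧ g j i = (1 : Matrix ι ι F) j i) :
    embM f A = g := by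
  ext i j
  by_cases hi : i ∈ Set.range f
  · by_cases hj : j ∈ Set.range f
    · obtain ⟨i, rfl⟩ := hi
      obtain ⟨j, rfl⟩ := hj
      rw [embM_apply, h1]
    · rw [embM_right _ _ _ hj, (h2 j hj i).2]
  · rw [embM_left _ _ hi, (h2 i hi j).1]

theorem embM_inj (f : κ ↪ ι) {A B : Matrix κ κ F} (h : embM f A = embM f B) : A = B := by
  ext i j; rw [← embM_apply f A, h, embM_apply]

variable (σ) in
/-- the block embedding -/
def emb (f : κ ↪ ι) : SU σ κ →* SU σ ι where
  toFun A := ⟨⟨embM f A.1.1, by rw [embM_det, A.1.2]⟩, by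
    change ct σ (embM f _) * embM f _ = 1
    rw [embM_ct, ← embM_mul, SU.prop, embM_one]⟩
  map_one' := SU.ext (embM_one f)
  map_mul' A B := SU.ext (embM_mul f _ _)

theorem emb_val (f : κ ↪ ι) (A : SU σ κ) : (emb σ f A).1.1 = embM f A.1.1 := rfl

theorem emb_inj (f : κ ↪ ι) : Function.Injective (emb σ f) := fun _ _ h =>
  SU.ext (embM_inj f (congrArg (fun x : SU σ ι => x.1.1) h))

theorem emb_emb (f : κ ↪ ι) (g : μ ↪ κ) (A : SU σ μ) :
    emb σ f (emb σ g A) = emb σ (g.trans f) A := by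
  refine SU.ext (embM_ext (fun i j => ?_) fun i hi j => ?_).symm
  · simp only [emb_val, Function.Embedding.trans_apply, embM_apply]
  · by_cases h : i ∈ Set.range f
    · obtain ⟨i, rfl⟩ := h
      have hi' : i ∉ Set.range g := fun ⟨k, hk⟩ => hi ⟨k, congrArg f hk⟩
      by_cases h : j ∈ Set.range f
      · obtain ⟨j, rfl⟩ := h
        simp [emb_val, embM_apply, embM_left _ _ hi', embM_right _ _ _ hi', one_apply]
      · simp [emb_val, embM_left _ _ h, embM_right _ _ _ h]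
    · simp [emb_val, embM_left _ _ h, embM_right _ _ _ h]

variable (σ) in
/-- block subgroups -/
def Blk (T : Set ι) : Subgroup (SU σ ι) where
  carrier := {g | ∀ k ∉ T, g • (Pi.single k 1 : ι → F) = Pi.single k 1}
  one_mem' k _ := one_smul _ _
  mul_mem' hA hB k hk := by rw [mul_smul, hB k hk, hA k hk]
  inv_mem' hA k hk := by rw [inv_smul_eq_iff, hA k hk]

theorem Blk.mono {S T : Set ι} (h : S ⊆ T) : Blk σ S ≤ Blk σ T := fun _ hg k hk =>
  hg k fun h' => hk (h h')

theorem Blk.col {T : Set ι} {g : SU σ ι} (hg : g ∈ Blk σ T) {k : ι} (hk : k ∉ T) (i : ι) :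
    g.1.1 i k = (1 : Matrix ι ι F) i k := by
  simpa [SU.smul_def, one_apply, Pi.single_apply] using congrFun (hg k hk) i

theorem Blk.row {T : Set ι} {g : SU σ ι} (hg : g ∈ Blk σ T) {k : ι} (hk : k ∉ T) (i : ι) :
    g.1.1 k i = (1 : Matrix ι ι F) k i := by
  have := Blk.col (inv_mem hg) hk i
  rw [SU.inv_val] at this
  refine σ.injective (this.trans ?_)
  simp [one_apply, eq_comm, apply_ite]

theorem mem_Blk {T : Set ι} {g : SU σ ι} (h : ∀ k ∉ T, ∀ i, g.1.1 i k = (1 : Matrix ι ι F) i k) :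
    g ∈ Blk σ T := fun k hk => by
  ext i; simp [SU.smul_def, h k hk, one_apply, Pi.single_apply]

theorem range_emb (f : κ ↪ ι) : (emb σ f).range = Blk σ (Set.range f) := by
  refine le_antisymm ?_ fun g hg => ?_
  · rintro _ ⟨A, rfl⟩
    exact mem_Blk fun k hk i => embM_right _ _ _ hk
  · have h : embM f (g.1.1.submatrix f f) = g.1.1 :=
      embM_ext (fun _ _ => rfl) fun i hi j => ⟨Blk.row hg hi j, Blk.col hg hi j⟩
    refine ⟨⟨⟨g.1.1.submatrix f f, by rw [← embM_det f, h, g.1.2]⟩, embM_inj f ?_⟩, SU.ext h⟩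
    rw [embM_mul, ← embM_ct, h, SU.prop, embM_one]

theorem emb_mem (f : κ ↪ ι) (A : SU σ κ) : emb σ f A ∈ Blk σ (Set.range f) :=
  (range_emb f).le ⟨A, rfl⟩

theorem Blk.apply {T : Set ι} {g : SU σ ι} (hg : g ∈ Blk σ T) (v : ι → F) {k : ι} (hk : k ∉ T) :
    (g • v) k = v k := by
  simp [SU.smul_def, mulVec, dotProduct, Blk.row hg hk, one_apply]

theorem Blk.fix {T : Set ι} {g : SU σ ι} (hg : g ∈ Blk σ T) {v : ι → F} (hv : ∀ k ∈ T, v k = 0) :
    g • v = v := by
  ext i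
  rw [SU.smul_def, ← one_mulVec v, mulVec_mulVec, Matrix.mul_one]
  refine Finset.sum_congr rfl fun k _ => ?_
  by_cases hk : k ∈ T
  · simp [hv k hk]
  · simp only [Blk.col hg hk]

theorem Blk.comm {T : Set ι} {g h : SU σ ι} (hg : g ∈ Blk σ T) (hh : h ∈ Blk σ Tᶜ) :
    g * h = h * g := SU.ext' fun k => by
  rw [mul_smul, mul_smul]
  by_cases hk : k ∈ T
  · rw [hh k (not_not.2 hk), Blk.fix hh fun i hi => ?_]
    rw [Blk.apply hg _ hi, Pi.single_eq_of_ne (by rintro rfl; exact hi hk)]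
  · rw [hg k hk, Blk.fix hg fun i hi => ?_]
    rw [Blk.apply hh _ (not_not.2 hi), Pi.single_eq_of_ne (by rintro rfl; exact hk hi)]

theorem emb_smul (f : κ ↪ ι) (A : SU σ κ) (v : ι → F) (k : κ) :
    (emb σ f A • v) (f k) = (A • (v ∘ f)) k := by
  refine (Finset.sum_of_injOn f f.injective.injOn (by simp) (fun i _ hi => ?_) fun _ _ => ?_).symm
  · have hi' : i ∉ Set.range f := by simpa using hi
    simp only [emb_val, embM_right _ _ _ hi']
    rw [one_apply_ne (by rintro rfl; exact hi' ⟨k, rfl⟩), zero_mul]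
  · simp only [emb_val, embM_apply]; rfl

theorem stdB_comp (f : κ ↪ ι) {u : ι → F} (hu : ∀ k ∉ Set.range f, u k = 0) (v : ι → F) :
    stdB σ κ (u ∘ f) (v ∘ f) = stdB σ ι u v := by
  rw [stdB_apply, stdB_apply]
  refine Finset.sum_of_injOn f f.injective.injOn (by simp) (fun i _ hi => ?_) fun _ _ => rfl
  rw [hu i (by simpa using hi), map_zero, zero_mul]

theorem SU_trans [Finite F] (hσ : Inv σ) [Nontrivial ι] {u v : ι → F} (hu : stdB σ ι u u ≠ 0)
    (h : stdB σ ι u u = stdB σ ι v v) : ∃ g : SU σ ι, g • u = v := by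
  obtain ⟨g, hg, rfl⟩ := (hσ.hf_stdB ι).SUG_trans (by
    rw [Module.finrank_fintype_fun_eq_card]; exact Fintype.one_lt_card) hu h
  refine ⟨⟨⟨LinearMap.toMatrix' (g.1 : (ι → F) →ₗ[F] (ι → F)), ?_⟩, (hσ.isom_iff _).1 fun u v => ?_⟩,
    ?_⟩
  · rw [LinearMap.det_toMatrix', ← detU_apply]; exact mem_SUG.1 hg
  · simp
  · simp [SU.smul_def]

theorem Blk.trans [Finite F] (hσ : Inv σ) {T : Set ι} (hT : T.Nontrivial) {u v : ι → F}
    (hu : ∀ k ∉ T, u k = 0) (hv : ∀ k ∉ T, v k = 0) (h0 : stdB σ ι u u ≠ 0)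
    (h : stdB σ ι u u = stdB σ ι v v) : ∃ g ∈ Blk σ T, g • u = v := by
  classical
  have := hT.coe_sort
  let f := Function.Embedding.subtype (· ∈ T)
  have hf : Set.range f = T := Subtype.range_coe
  rw [← hf] at hu hv
  rw [← stdB_comp f hu, ← stdB_comp f hv] at h
  rw [← stdB_comp f hu] at h0
  obtain ⟨g, hg⟩ := SU_trans hσ h0 h
  refine ⟨emb σ f g, Blk.mono hf.le (emb_mem f g), funext fun k => ?_⟩
  by_cases hk : k ∈ Set.range f
  · obtain ⟨k, rfl⟩ := hk
    rw [emb_smul, hg]; rfl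
  · rw [Blk.apply (emb_mem f g) _ hk, hu k hk, hv k hk]

end Cfsg.Agent.Phan
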