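import Mathlib
import Cfsg.Agent.Phan.Blk
import Cfsg.Agent.Classical.AutPSL2

/-!
Automorphisms of `SL₂(q)` and `SU₂(q)`.
-/

set_option autoImplicit false
set_option backward.isDefEq.respectTransparency false

namespace Cfsg.Agent.Phan

open Matrix Herm Classical.AutPSL Classical.AutPSL2 Classical.Transv Classical.SLBasic
open scoped MatrixGroups

theorem tv_pow {K ι : Type*} [Field K] [Fintype ι] [DecidableEq ι] {i j : ι} (h : i ≠ j) (c : K)
    (n : ℕ) : SpecialLinearGroup.transvection h c ^ n =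
      SpecialLinearGroup.transvection h (n * c) := by
  induction n with
  | zero => simp
  | succ n ih =>
    rw [pow_succ, ih]
    ext1
    simp [SpecialLinearGroup.transvection_coe, mul_add, add_mul, h.symm, single_add]
    abel

theorem autQ_inj {K ι : Type*} [Field K] [Finite K] [Fintype ι] [DecidableEq ι] :
    Function.Injective (autQ (SpecialLinearGroup ι K)) := by
  obtain ⟨p, hp⟩ := CharP.exists K
  have : Fact p.Prime := ⟨CharP.char_is_prime K p⟩
  refine (injective_iff_map_eq_one _).2 fun e he => MulEquiv.ext fun x =>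
    ((eq_top_of_transvection_mem (e.toMonoidHom.eqLocus (MonoidHom.id _)) fun i j h c => ?_).ge
      (Subgroup.mem_top x) :)
  have h1 := QuotientGroup.eq.1 (DFunLike.congr_fun he
    (QuotientGroup.mk (SpecialLinearGroup.transvection h c)))
  have h2 : SpecialLinearGroup.transvection h c ^ p = 1 := by simp [tv_pow]
  change e _ = _
  rw [MonoidHom.id_apply]
  generalize SpecialLinearGroup.transvection h c = x at *
  replace h1 : (e x)⁻¹ * x ∈ Subgroup.center _ := h1
  have h3 : ((e x)⁻¹ * x) ^ p = 1 := by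
    have : Commute (e x) ((e x)⁻¹ * x) := Subgroup.mem_center_iff.1 h1 _
    have := this.mul_pow p
    rwa [mul_inv_cancel_left, h2, ← map_pow, h2, map_one, one_mul, eq_comm] at this
  obtain ⟨r, -, hr⟩ := Matrix.SpecialLinearGroup.mem_center_iff.1 h1
  have h4 : (((e x)⁻¹ * x).1 ^ p) i i = (1 : Matrix ι ι K) i i :=
    congrArg (fun A : SpecialLinearGroup ι K => A.1 i i) h3
  rw [← hr, ← map_pow] at h4
  have h5 : r = 1 := frobenius_inj K p (by simpa [frobenius_def] using h4)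
  exact inv_mul_eq_one.1 (Subtype.ext (by rw [← hr, h5, map_one]; rfl))

theorem aut_SL2 {K : Type*} [Field K] [Finite K] (α : MulAut SL(2, K)) :
    ∃ (g : GL (Fin 2) K) (τ : K ≃+* K), ∀ s, (α s).1 * g.1 = g.1 * s.1.map τ := by
  obtain ⟨g, τ, h | h⟩ := exists_decomp le_rfl (autQ _ α)
  · obtain rfl : α = conjAut g * fieldSL _ τ := autQ_inj (by rw [h, map_mul]; rfl)
    exact ⟨g, τ, fun s => (conjAut_eq_iff.1 (rfl : conjAut g (fieldSL _ τ s) = _)).symm⟩
  · obtain ⟨w, hw⟩ := exists_gA_eq_dA (F := K)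
    obtain rfl : α = conjAut g * fieldSL _ τ * conjAut (SpecialLinearGroup.toGL w) :=
      autQ_inj (by rw [h, hw, map_mul, map_mul]; rfl)
    refine ⟨g * SpecialLinearGroup.toGL (fieldSL _ τ w), τ, fun s => ?_⟩
    have h1 := conjAut_eq_iff.1
      (rfl : conjAut g (fieldSL _ τ (conjAut (SpecialLinearGroup.toGL w) s)) = _)
    have h2 := congrArg (Matrix.map · τ)
      (conjAut_eq_iff.1 (rfl : conjAut (SpecialLinearGroup.toGL w) s = _))
    simp only [Matrix.map_mul] at h2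
    rw [Units.val_mul, ← Matrix.mul_assoc, MulAut.mul_apply, MulAut.mul_apply, ← h1,
      Matrix.mul_assoc, Matrix.mul_assoc]
    exact congrArg _ h2.symm

variable {F : Type*} [Field F] {σ : F →+* F}

theorem SU.two (s : SU σ (Fin 2)) : σ (s.1.1 0 0) = s.1.1 1 1 ∧ σ (s.1.1 0 1) = -s.1.1 1 0 ∧
    σ (s.1.1 1 0) = -s.1.1 0 1 ∧ σ (s.1.1 1 1) = s.1.1 0 0 := by
  have h := SU.inv_val s
  change adjugate s.1.1 = _ at h
  rw [adjugate_fin_two] at h
  exact ⟨(congrFun (congrFun h 0) 0).symm, (congrFun (congrFun h 1) 0).symm,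
    (congrFun (congrFun h 0) 1).symm, (congrFun (congrFun h 1) 1).symm⟩

theorem SU.det2 (s : SU σ (Fin 2)) : s.1.1 0 0 * s.1.1 1 1 - s.1.1 0 1 * s.1.1 1 0 = 1 := by
  rw [← det_fin_two, s.1.2]

variable [Finite F] (hσ : Inv σ)
include hσ

theorem exists_three {μ : F} (h0 : μ ≠ 0) (h : σ μ = μ) (a b : F) :
    ∃ x, σ x * x = μ ∧ x ≠ a ∧ x ≠ b := by
  by_contra! H
  have h1 := hσ.card_norm hσ.card_eq_sq h0 h
  have h2 := two_le_of_card hσ.card_eq_sq
  have h3 : {x | σ x * x = μ} ⊆ {a, b} := fun x hx => (em (x = a)).imp_right (H x hx)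
  have h4 := (Set.ncard_le_ncard h3).trans ((Set.ncard_insert_le _ _).trans_eq (by
    rw [Set.ncard_singleton]))
  rw [← Nat.card_coe_set_eq] at h4
  exact absurd (h1.symm.trans_le h4) (by omega)

theorem exists_delta : ∃ x, σ x * x = 1 ∧ x ≠ 1 ∧ σ x ≠ x := by
  obtain ⟨x, h1, h2, h3⟩ := exists_three hσ one_ne_zero (map_one σ) 1 (-1)
  exact ⟨x, h1, h2, fun h => (mul_self_eq_one_iff.1 (by rwa [h] at h1)).elim h2 h3⟩

theorem exists_P : ∃ P : GL (Fin 2) F,
    ∀ m : SL(2, F), conjAut P m ∈ SU σ (Fin 2) ↔ m.1.map σ = m.1 := by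
  obtain ⟨θ, h0, hθ⟩ := hσ.exists_skew
  obtain ⟨a, ha, -, -⟩ := exists_three hσ (μ := -1) (by simp) (by simp) 0 0
  obtain ⟨b, hb, hab, -⟩ := exists_three hσ (μ := -1) (by simp) (by simp) a 0
  have h1 : 1 + σ a * b ≠ 0 := fun h => hab (by linear_combination -a * h + b * ha)
  obtain ⟨x, hx⟩ : ∃ x, x * (1 + σ a * b) = θ := ⟨_, div_mul_cancel₀ _ h1⟩
  have hx' := congrArg σ hx
  simp only [map_mul, map_add, map_one, hσ.invol] at hx'
  have h2 : ct σ !![1, x; a, x * b] * !![1, x; a, x * b] = !![0, θ; -θ, 0] := by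
    ext i j; fin_cases i <;> fin_cases j <;> simp [ct_apply, mul_apply]
    · linear_combination ha
    · linear_combination hx
    · linear_combination hx' + hθ
    · linear_combination σ x * x * hb
  have h3 : det !![1, x; a, x * b] ≠ 0 := fun h => by
    simpa [h, h0] using congrArg det h2
  let P := GeneralLinearGroup.mkOfDetNeZero _ h3
  replace h2 : ct σ P.1 * P.1 = !![0, θ; -θ, 0] := h2
  clear_value P
  refine ⟨P, fun m => ?_⟩
  · have h4 := conjAut_eq_iff.1 (rfl : conjAut P m = _)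
    have h5 : ct σ m.1 * !![0, θ; -θ, 0] * m.1 =
        ct σ P.1 * (ct σ (conjAut P m).1 * (conjAut P m).1) * P.1 := by
      rw [← h2, ← Matrix.mul_assoc, ← ct_mul, Matrix.mul_assoc, h4, ct_mul]
      simp only [Matrix.mul_assoc]
    have h6 : m.1ᵀ * !![0, θ; -θ, 0] * m.1 = !![0, θ; -θ, 0] := by
      have := m.2
      rw [det_fin_two] at this
      ext i j; fin_cases i <;> fin_cases j <;> simp [mul_apply]
      · ring
      · linear_combination θ * this
      · linear_combination -θ * this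
      · ring
    have h7 : IsUnit (!![0, θ; -θ, 0] * m.1) := by
      rw [isUnit_iff_isUnit_det, det_mul, m.2]; simp [h0]
    constructor
    · intro h
      rw [show ct σ (conjAut P m).1 * (conjAut P m).1 = 1 from h, Matrix.mul_one, h2] at h5
      have h8 := h5.trans h6.symm
      rw [Matrix.mul_assoc, Matrix.mul_assoc] at h8
      exact transpose_injective (h7.mul_right_cancel h8)
    · intro h
      rw [ct_apply, h, h6, ← h2] at h5
      nth_rewrite 1 [← Matrix.mul_one (ct σ P.1)] at h5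
      exact ((isUnit_ct P.isUnit).mul_left_cancel (P.isUnit.mul_right_cancel h5)).symm

theorem exists_SL2 : ∃ (P : GL (Fin 2) F) (E : SL(2, fixF σ) ≃* SU σ (Fin 2)),
    ∀ m, (E m).1.1 * P.1 = P.1 * m.1.map (fixF σ).subtype := by
  obtain ⟨P, key⟩ := exists_P hσ
  let E : SL(2, fixF σ) →* SU σ (Fin 2) :=
    ((conjAut P).toMonoidHom.comp (SpecialLinearGroup.map (fixF σ).subtype)).codRestrict _ fun m =>
      (key _).2 (by ext i j; exact (m.1 i j).2)
  refine ⟨P, MulEquiv.ofBijective E ⟨fun m n h => ?_, fun s => ?_⟩,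
    fun m => (conjAut_eq_iff.1
      (rfl : conjAut P (SpecialLinearGroup.map (fixF σ).subtype m) = _)).symm⟩
  · ext i j
    exact congrArg (fun A : SL(2, F) => A.1 i j) ((conjAut P).injective (congrArg Subtype.val h))
  · obtain ⟨s, hs⟩ := s
    obtain ⟨m, rfl⟩ := (conjAut P).surjective s
    have h := (key m).1 hs
    have h4 : (of fun i j => (⟨m.1 i j, congrFun (congrFun h i) j⟩ : fixF σ)).map
      (fixF σ).subtype = m.1 := rfl
    refine ⟨⟨_, (fixF σ).subtype.injective ?_⟩, Subtype.ext (congrArg (conjAut P) (Subtype.ext h4))⟩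
    rw [RingHom.map_det, RingHom.mapMatrix_apply, h4, m.2, map_one]

omit hσ in
theorem exists_lift (K : Subfield F) (τ : K ≃+* K) :
    ∃ ρ : F →+* F, (∀ x : K, ρ x = τ x) ∧ ∀ x, σ (ρ x) = ρ (σ x) := by
  obtain ⟨p, hp⟩ := CharP.exists F
  have : Fact p.Prime := ⟨CharP.char_is_prime F p⟩
  let := ZMod.algebra K p
  obtain ⟨i, hi⟩ := FiniteField.exists_forall_apply_eq_pow (ZMod p) p K (ringAutEquiv p τ)
  refine ⟨iterateFrobenius F p i, fun x => ?_, fun x => by simp [iterateFrobenius_def]⟩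
  have : τ x = x ^ _ := hi x
  simp [this, iterateFrobenius_def]

theorem aut_SU2 (α : SU σ (Fin 2) ≃* SU σ (Fin 2)) :
    ∃ (g : Matrix (Fin 2) (Fin 2) F) (ρ : F →+* F), g.det ≠ 0 ∧ (∀ x, σ (ρ x) = ρ (σ x)) ∧
      ∀ s, (α s).1.1 * g = g * s.1.1.map ρ := by
  obtain ⟨P, E, hE⟩ := exists_SL2 hσ
  obtain ⟨g, τ, h⟩ := aut_SL2 (E.trans (α.trans E.symm))
  obtain ⟨ρ, h1, h2⟩ := exists_lift (σ := σ) _ τ
  refine ⟨P.1 * g.1.map (fixF σ).subtype * (P⁻¹).1.map ρ, ρ, ?_, h2, fun s => ?_⟩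
  · have : ∀ {K : Type _} [Field K] (g : GL (Fin 2) K) (f : K →+* F), (g.1.map f).det ≠ 0 :=
      fun g f => (GeneralLinearGroup.map f g).det_ne_zero
    rw [det_mul, det_mul]
    exact mul_ne_zero (mul_ne_zero P.det_ne_zero (this _ _)) (this _ _)
  obtain ⟨m, rfl⟩ := E.surjective s
  have h3 := hE (E.symm (α (E m)))
  have h4 := congrArg (Matrix.map · (fixF σ).subtype) (h m)
  have h5 : (P⁻¹).1 * (E m).1.1 = m.1.map (fixF σ).subtype * (P⁻¹).1 := by
    rw [Units.inv_mul_eq_iff_eq_mul, ← Matrix.mul_assoc, ← hE, Units.mul_inv_cancel_right]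
  have h6 : (m.1.map τ).map (fixF σ).subtype = (m.1.map (fixF σ).subtype).map ρ := by
    ext i j; exact (h1 _).symm
  simp only [Matrix.map_mul, MulEquiv.trans_apply, h6] at h4
  rw [E.apply_symm_apply] at h3
  rw [Matrix.mul_assoc (_ * _) (Matrix.map _ ρ) (Matrix.map _ ρ), ← Matrix.map_mul, h5, Matrix.map_mul,
    ← Matrix.mul_assoc, ← Matrix.mul_assoc, h3, Matrix.mul_assoc P.1, h4]
  simp only [Matrix.mul_assoc]

omit hσ [Finite F] in
/-- diagonal elements -/
def dg {x : F} (h : σ x * x = 1) : SU σ (Fin 2) :=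
  ⟨⟨!![x, 0; 0, σ x], by simp [mul_comm x, h]⟩, by
    have : σ (σ x) * σ x = 1 := by rw [← map_mul, h, map_one]
    ext i j; fin_cases i <;> fin_cases j <;> simp [ct_apply, mul_apply, *]⟩

omit hσ [Finite F] in
variable (σ) in
/-- the Weyl element -/
def wy : SU σ (Fin 2) :=
  ⟨⟨!![0, 1; -1, 0], by simp⟩, by
    ext i j; fin_cases i <;> fin_cases j <;> simp [ct_apply, mul_apply]⟩

theorem aut_SU2_diag (α : SU σ (Fin 2) ≃* SU σ (Fin 2)) {x : F} (hx : σ x * x = 1) (hx' : σ x ≠ x)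
    (h1 : (α (dg hx)).1.1 0 1 = 0) (h2 : (α (dg hx)).1.1 1 0 = 0) :
    ∃ (ρ : F →+* F) (d : Fin 2 → F), (∀ x, σ (ρ x) = ρ (σ x)) ∧ (∀ i, σ (d i) * d i = 1) ∧
      ∀ s i j, (α s).1.1 i j = d i * ρ (s.1.1 i j) * σ (d j) := by
  suffices ∃ (ρ : F →+* F) (c : F), (∀ x, σ (ρ x) = ρ (σ x)) ∧ c ≠ 0 ∧
      ∀ s, (α s).1.1 0 0 = ρ (s.1.1 0 0) ∧ (α s).1.1 0 1 = c * ρ (s.1.1 0 1) ∧
        (α s).1.1 1 0 * c = ρ (s.1.1 1 0) ∧ (α s).1.1 1 1 = ρ (s.1.1 1 1) by
    obtain ⟨ρ, c, h3, h4, h5⟩ := this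
    have h6 : σ c * c = 1 := by
      obtain ⟨-, a1, a2, -⟩ := h5 (wy σ)
      have a3 := (SU.two (α (wy σ))).2.1
      rw [a1] at a3
      simp [wy] at a2 a3
      rw [a3]; linear_combination -a2
    refine ⟨ρ, ![c, 1], h3, fun i => by fin_cases i <;> simp [h6], fun s i j => ?_⟩
    obtain ⟨a1, a2, a3, a4⟩ := h5 s
    fin_cases i <;> fin_cases j <;> simp
    · linear_combination a1 - ρ (s.1.1 0 0) * h6
    · exact a2
    · linear_combination σ c * a3 - (α s).1.1 1 0 * h6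
    · exact a4
  obtain ⟨g, ρ, h3, h4, h5⟩ := aut_SU2 hσ α
  have h6 : ρ (σ x) ≠ ρ x := ρ.injective.ne hx'
  have e := fun s i j => congrFun (congrFun (h5 s) i) j
  simp only [mul_apply, Fin.sum_univ_two, map_apply] at e
  have e1 := e (dg hx) 0 0
  have e2 := e (dg hx) 0 1
  have e3 := e (dg hx) 1 0
  have e4 := e (dg hx) 1 1
  rw [h1] at e1 e2
  rw [h2] at e3 e4
  generalize (α (dg hx)).1.1 0 0 = u at *
  generalize (α (dg hx)).1.1 1 1 = v at *
  simp [dg, -mul_eq_mul_left_iff] at e1 e2 e3 e4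
  rw [det_fin_two] at h3
  have b1 : g 0 0 * g 0 1 = 0 := (mul_eq_zero.1 (by
    linear_combination g 0 1 * e1 - g 0 0 * e2)).resolve_right (sub_ne_zero.2 h6)
  have b2 : g 1 0 * g 1 1 = 0 := (mul_eq_zero.1 (by
    linear_combination g 1 1 * e3 - g 1 0 * e4)).resolve_right (sub_ne_zero.2 h6)
  rcases mul_eq_zero.1 b1 with b1 | b1
  · have b3 : g 0 1 ≠ 0 ∧ g 1 0 ≠ 0 := by simpa [b1] using h3
    have b4 := (mul_eq_zero.1 b2).resolve_left b3.2
    refine ⟨ρ.comp σ, -(g 0 1 / g 1 0), fun x => h4 _, by simp [b3], fun s => ?_⟩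
    obtain ⟨a1, a2, a3, a4⟩ := SU.two s
    have c1 := e s 0 0
    have c2 := e s 0 1
    have c3 := e s 1 0
    have c4 := e s 1 1
    obtain ⟨b5, b6⟩ := b3
    simp only [b1, b4, RingHom.comp_apply, a1, a2, a3, a4, map_neg] at *
    refine ⟨mul_left_cancel₀ b5 ?_, ?_, ?_, mul_left_cancel₀ b6 ?_⟩
    · linear_combination c2
    · field_simp; linear_combination c1
    · field_simp; linear_combination -c4
    · linear_combination c3
  · have b3 : g 0 0 ≠ 0 ∧ g 1 1 ≠ 0 := by simpa [b1] using h3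
    have b4 := (mul_eq_zero.1 b2).resolve_right b3.2
    refine ⟨ρ, g 0 0 / g 1 1, h4, by simp [b3], fun s => ?_⟩
    have c1 := e s 0 0
    have c2 := e s 0 1
    have c3 := e s 1 0
    have c4 := e s 1 1
    obtain ⟨b5, b6⟩ := b3
    simp only [b1, b4] at *
    refine ⟨mul_left_cancel₀ b5 ?_, ?_, ?_, mul_left_cancel₀ b6 ?_⟩
    · linear_combination c1
    · field_simp; linear_combination c2
    · field_simp; linear_combination c3
    · linear_combination c4

end Cfsg.Agent.Phan
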