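import Mathlib
import Cfsg.Agent.Phan.Blk

/-!
Geometry of unit vectors in a standard Hermitian space.
-/

set_option autoImplicit false
set_option backward.isDefEq.respectTransparency false

namespace Cfsg.Agent.Phan

open Matrix Herm Polynomial

variable {F : Type*} [Field F] {σ : F →+* F} {ι : Type*} [Fintype ι] [DecidableEq ι]

variable (σ) in
/-- the norm of the inner product -/
def nn (v w : ι → F) : F := σ (stdB σ ι v w) * stdB σ ι v w

omit [DecidableEq ι] in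
theorem nn_comm (hσ : Inv σ) (v w : ι → F) : nn σ v w = nn σ w v := by
  rw [nn, nn, (hσ.hf_stdB ι).symm, (hσ.hf_stdB ι).symm, mul_comm]

theorem nn_smul (g : SU σ ι) (v w : ι → F) : nn σ (g • v) (g • w) = nn σ v w := by
  rw [nn, nn, SU.b_smul]

omit [DecidableEq ι] in
theorem b_supp (T : Finset ι) {v : ι → F} (hv : ∀ k ∉ T, v k = 0) (w : ι → F) :
    stdB σ ι v w = ∑ k ∈ T, σ (v k) * w k := by
  rw [stdB_apply]
  exact (Finset.sum_subset T.subset_univ fun k _ hk => by rw [hv k hk, map_zero, zero_mul]).symm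

theorem b_two {b c : ι} (h : b ≠ c) {v : ι → F} (hv : ∀ k ∉ ({b, c} : Set ι), v k = 0)
    (w : ι → F) : stdB σ ι v w = σ (v b) * w b + σ (v c) * w c := by
  rw [b_supp {b, c} (fun k hk => hv k (by simpa using hk)), Finset.sum_pair h]

omit [DecidableEq ι] in
theorem b_ind (T : Set ι) (v w : ι → F) :
    stdB σ ι (T.indicator v) (T.indicator w) = stdB σ ι (T.indicator v) w :=
  Finset.sum_congr rfl fun k _ => by by_cases h : k ∈ T <;> simp [h]

omit [DecidableEq ι] in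
theorem b_split (T : Set ι) (v w : ι → F) :
    stdB σ ι v w = stdB σ ι (T.indicator v) w + stdB σ ι (Tᶜ.indicator v) w := by
  rw [← b_add_left, Set.indicator_self_add_compl]

theorem b_split2 {b c : ι} (h : b ≠ c) (v w : ι → F) : stdB σ ι v w =
    σ (v b) * w b + σ (v c) * w c + stdB σ ι (({b, c} : Set ι)ᶜ.indicator v) w := by
  rw [b_split {b, c} v, b_two h fun k hk => Set.indicator_of_notMem hk _]; simp

theorem b_e (c : ι) (w : ι → F) : stdB σ ι (Pi.single c 1) w = w c := by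
  rw [stdB_single_left, map_one, one_mul]

theorem b_ee (c : ι) : stdB σ ι (Pi.single c 1) (Pi.single c 1) = 1 := by simp [b_e]

omit [DecidableEq ι] in
theorem b_disj {T : Set ι} {v w : ι → F} (hv : ∀ k ∉ T, v k = 0) (hw : ∀ k ∈ T, w k = 0) :
    stdB σ ι v w = 0 :=
  Finset.sum_eq_zero fun k _ => by by_cases h : k ∈ T <;> simp [h, hv, hw]

theorem hpoly {q : ℕ} (hq : 2 ≤ q) {A β γ c : F} (h : ¬ (A = 0 ∧ β = 0 ∧ c = 0)) :
    C A * X ^ (q + 1) + C γ * X ^ q + C β * X + C c ≠ 0 ∧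
      (C A * X ^ (q + 1) + C γ * X ^ q + C β * X + C c).natDegree ≤ q + 1 := by
  refine ⟨fun h0 => h ⟨?_, ?_, ?_⟩, ?_⟩
  · simpa [coeff_X, coeff_C, show q ≠ 0 by omega] using congrArg (coeff · (q + 1)) h0
  · simpa [coeff_X, coeff_C, show 1 ≠ q by omega, show q ≠ 0 by omega] using
      congrArg (coeff · 1) h0
  · simpa [coeff_X, coeff_C, show 0 ≠ q by omega] using congrArg (coeff · 0) h0
  · compute_degree!

variable [Finite F] (hσ : Inv σ)
include hσ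

theorem exists_nb {q : ℕ} (hF : Nat.card F = q ^ 2) (hq : 3 < q) {a a' : ι} (ha : a ≠ a')
    (u v : ι → F) : ∃ y : ι → F, (∀ k ∉ ({a, a'} : Set ι), y k = 0) ∧ stdB σ ι y y = 1 ∧
      nn σ y u ≠ 1 ∧ nn σ y v ≠ 1 := by
  have key : ∀ u : ι → F, ¬ (σ (u a') * u a' - 1 = 0 ∧ σ (u a') * u a = 0 ∧
      σ (u a) * u a - 1 = 0) := fun u ⟨h1, h2, h3⟩ => by
    rcases mul_eq_zero.1 h2 with h | h <;> simp [h] at h1 h3
  obtain ⟨h1, h2⟩ := hpoly (by omega : 2 ≤ q) (γ := σ (u a) * u a') (key u)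
  obtain ⟨h3, h4⟩ := hpoly (by omega : 2 ≤ q) (γ := σ (v a) * v a') (key v)
  obtain ⟨h5, h6⟩ := hpoly (by omega : 2 ≤ q) (A := (1 : F)) (β := 0) (γ := 0) (c := 1) (by simp)
  have := Fintype.ofFinite F
  obtain ⟨t, ht⟩ := not_forall.1 fun h => mul_ne_zero (mul_ne_zero h1 h3) h5
    (eq_zero_of_natDegree_lt_card_of_eval_eq_zero _ Function.injective_id h (by
      refine (natDegree_mul_le.trans
        (add_le_add (natDegree_mul_le.trans (add_le_add h2 h4)) h6)).trans_lt ?_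
      rw [← Nat.card_eq_fintype_card, hF]
      nlinarith))
  replace ht : _ ≠ _ := ht
  simp only [eval_mul, eval_add, eval_C, eval_pow, eval_X, pow_succ, ← hσ.apply_pow hF,
    mul_ne_zero_iff, zero_mul, add_zero, one_mul, id] at ht
  obtain ⟨⟨h7, h8⟩, h9⟩ := ht
  obtain ⟨κ, hκ⟩ := hσ.exists_norm (μ := (σ t * t + 1)⁻¹) (by simp [hσ.invol, mul_comm])
  have hy : ∀ k ∉ ({a, a'} : Set ι), (Pi.single a κ + Pi.single a' (κ * t) : ι → F) k = 0 := by
    simp +contextual [Pi.single_apply]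
  have h10 : σ κ * κ * (σ t * t + 1) = 1 := by rw [hκ, inv_mul_cancel₀ h9]
  have hb : ∀ w : ι → F, stdB σ ι (Pi.single a κ + Pi.single a' (κ * t)) w =
      σ κ * w a + σ κ * σ t * w a' := fun w => by simp [stdB_single_left]
  refine ⟨_, hy, ?_, fun h => h7 ?_, fun h => h8 ?_⟩
  · simp only [hb, Pi.add_apply, Pi.single_eq_same, Pi.single_eq_of_ne ha,
      Pi.single_eq_of_ne ha.symm]
    linear_combination h10
  all_goals
    simp only [nn, hb] at h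
    simp only [map_mul, map_add, hσ.invol] at h
  · linear_combination (σ t * t + 1) * h - ((σ (u a) + t * σ (u a')) * (u a + σ t * u a')) * h10
  · linear_combination (σ t * t + 1) * h - ((σ (v a) + t * σ (v a')) * (v a + σ t * v a')) * h10

theorem squeeze {T : Set ι} (hT : T.Nontrivial) {j : ι} (hj : j ∈ T) {v : ι → F}
    (h : T.indicator v = 0 ∨ stdB σ ι (T.indicator v) v ≠ 0) :
    ∃ k ∈ Blk σ T, ∀ i ∈ T, i ≠ j → (k • v) i = 0 := by
  rcases h with h | h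
  · exact ⟨1, one_mem _, fun i hi _ => by simpa [hi] using congrFun h i⟩
  rw [← b_ind] at h
  obtain ⟨m, hm⟩ := hσ.exists_norm ((hσ.hf_stdB ι).fix (T.indicator v))
  obtain ⟨k, hk, h1⟩ := Blk.trans hσ hT (u := T.indicator v) (v := Pi.single j m)
    (fun k hk => Set.indicator_of_notMem hk _)
    (fun k hk => Pi.single_eq_of_ne (by rintro rfl; exact hk hj) _) h
    (by rw [stdB_single_left, Pi.single_eq_same, hm])
  refine ⟨k, hk, fun i hi hij => ?_⟩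
  rw [← Set.indicator_self_add_compl T v, smul_add, h1,
    Blk.fix hk fun i hi => Set.indicator_of_notMem (not_not.2 hi) _]
  simp [hi, hij]

theorem squeeze1 {T : Set ι} {b c : ι} (hT : (T \ {c}).Nontrivial) (hb : b ∈ T) (hbc : b ≠ c)
    {v : ι → F} (hv : ∀ k ∉ T, v k = 0) (h1 : stdB σ ι v v = 1) (h : nn σ (Pi.single c 1) v ≠ 1) :
    ∃ k ∈ Blk σ (T \ {c}), ∀ i ∉ ({b, c} : Set ι), (k • v) i = 0 := by
  obtain ⟨k, hk, h2⟩ := squeeze hσ hT (j := b) ⟨hb, hbc⟩ (v := v) (.inr fun h0 => h (by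
    rw [b_split (T \ {c}), h0, zero_add, b_supp {c} fun k hk => ?_] at h1
    · simpa [nn, b_e] using h1
    · by_cases h : k ∈ T
      · exact Set.indicator_of_notMem (not_not.2 ⟨h, by simpa using hk⟩) _
      · rw [Set.indicator_of_mem (s := (T \ {c})ᶜ) (fun h' => h h'.1), hv k h]))
  refine ⟨k, hk, fun i hi => ?_⟩
  simp only [Set.mem_insert_iff, Set.mem_singleton_iff, not_or] at hi
  by_cases h : i ∈ T
  · exact h2 i ⟨h, hi.2⟩ hi.1
  · rw [Blk.apply hk _ fun h' => h h'.1, hv i h]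

theorem dec {T : Set ι} {b c : ι} (hT : (T \ {c}).Nontrivial) (hb : b ∈ T) (hc : c ∈ T)
    (hbc : b ≠ c) {g : SU σ ι} (hg : g ∈ Blk σ T)
    (h : nn σ (Pi.single c 1) (g • Pi.single c 1) ≠ 1) :
    ∃ x ∈ Blk σ (T \ {c}), ∃ s ∈ Blk σ {b, c}, ∃ y ∈ Blk σ (T \ {c}), g = x * s * y := by
  obtain ⟨k, hk, h2⟩ := squeeze1 hσ hT hb hbc (fun k hk => by
    rw [Blk.apply hg _ hk, Pi.single_eq_of_ne (by rintro rfl; exact hk hc)])
    (by rw [SU.b_smul, b_ee]) h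
  obtain ⟨s, hs, h3⟩ := Blk.trans hσ (Set.nontrivial_pair hbc) (u := Pi.single c 1)
    (by simp +contextual [Pi.single_apply]) h2 (by simp [b_ee]) (by rw [SU.b_smul, SU.b_smul])
  refine ⟨k⁻¹, inv_mem hk, s, hs, s⁻¹ * k * g, fun i hi => ?_, by group⟩
  by_cases hi' : i ∈ T
  · obtain rfl : i = c := by_contra fun h => hi ⟨hi', h⟩
    rw [mul_smul, mul_smul, ← h3, inv_smul_smul]
  · exact mul_mem (mul_mem (inv_mem (Blk.mono (Set.pair_subset hb hc) hs))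
      (Blk.mono Set.sdiff_subset hk)) hg i hi'

theorem exists_norm2 {a b c : ι} (hab : a ≠ b) (hac : a ≠ c) (hbc : b ≠ c) {p r : ι → F}
    (hp : stdB σ ι p p = 1) (hr : stdB σ ι r r = 1) (h : nn σ p r ≠ 1) :
    ∃ k : SU σ ι, k • p = Pi.single c 1 ∧ ∀ i ∉ ({b, c} : Set ι), (k • r) i = 0 := by
  have : Nontrivial ι := ⟨a, b, hab⟩
  obtain ⟨k, hk⟩ := SU_trans hσ (u := p) (v := Pi.single c 1) (by simp [hp]) (by rw [hp, b_ee])
  obtain ⟨l, hl, h1⟩ := squeeze1 hσ (T := Set.univ) (c := c) ⟨a, by simpa, b, by simpa, hab⟩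
    (Set.mem_univ b) hbc (v := k • r) (by simp) (by rw [SU.b_smul, hr]) (by rwa [← hk, nn_smul])
  exact ⟨l * k, by rw [mul_smul, hk, hl c (by simp)], by simpa only [mul_smul] using h1⟩

theorem gen {q : ℕ} (hF : Nat.card F = q ^ 2) (hq : 3 < q) {a b c : ι} (hab : a ≠ b) (hac : a ≠ c)
    (hbc : b ≠ c) {K : Subgroup (SU σ ι)} (h1 : Blk σ {c}ᶜ ≤ K) (h2 : Blk σ {b, c} ≤ K) :
    K = ⊤ := by
  have : Nontrivial ι := ⟨a, b, hab⟩
  have key : ∀ g : SU σ ι, nn σ (Pi.single c 1) (g • Pi.single c 1) ≠ 1 → g ∈ K := fun g h => by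
    obtain ⟨x, hx, s, hs, y, hy, rfl⟩ := dec hσ (T := Set.univ) ⟨a, by simpa, b, by simpa, hab⟩
      (Set.mem_univ b) (Set.mem_univ c) hbc (by simp [Blk]) h
    rw [← Set.compl_eq_univ_sdiff] at hx hy
    exact mul_mem (mul_mem (h1 hx) (h2 hs)) (h1 hy)
  refine eq_top_iff.2 fun g _ => ?_
  obtain ⟨y, -, hy, h3, h4⟩ := exists_nb hσ hF hq hab (Pi.single c 1) (g • Pi.single c 1)
  obtain ⟨x, rfl⟩ := SU_trans hσ (u := Pi.single c 1) (v := y) (by simp [b_ee]) (by rw [hy, b_ee])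
  simpa using mul_mem (key x (by rwa [nn_comm hσ])) (key (x⁻¹ * g) (by
    rwa [← nn_smul x, mul_smul, smul_inv_smul]))

omit hσ [Finite F] in
variable (σ) in
/-- triples lying in a non-degenerate `3`-space -/
def Flat (T : Set ι) (p r s : ι → F) : Prop :=
  ∃ k : SU σ ι, (∀ i ∉ T, (k • p) i = 0) ∧ (∀ i ∉ T, (k • r) i = 0) ∧ ∀ i ∉ T, (k • s) i = 0

omit hσ [Finite F] in
theorem Flat.rot {T : Set ι} {p r s : ι → F} (h : Flat σ T p r s) : Flat σ T r s p :=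
  let ⟨k, h1, h2, h3⟩ := h; ⟨k, h2, h3, h1⟩

omit hσ [Finite F] in
theorem Flat.swap {T : Set ι} {p r s : ι → F} (h : Flat σ T p r s) : Flat σ T p s r :=
  let ⟨k, h1, h2, h3⟩ := h; ⟨k, h1, h3, h2⟩

omit hσ [Finite F] in
theorem Flat.of_smul {T : Set ι} {p r s : ι → F} (l : SU σ ι)
    (h : Flat σ T (l • p) (l • r) (l • s)) : Flat σ T p r s :=
  let ⟨k, h⟩ := h; ⟨k * l, by simpa only [mul_smul] using h⟩

section
variable {a a' b c : ι} (haa : a ≠ a') (hab : a ≠ b) (hac : a ≠ c) (hab' : a' ≠ b) (hac' : a' ≠ c)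
  (hbc : b ≠ c)
include haa hab hac hab' hac' hbc

omit hbc in
theorem flat_sq {p r s : ι → F} (hp : ∀ i ∉ ({b, c} : Set ι), p i = 0)
    (hr : ∀ i ∉ ({b, c} : Set ι), r i = 0) (h : ({b, c} : Set ι)ᶜ.indicator s = 0 ∨
      stdB σ ι (({b, c} : Set ι)ᶜ.indicator s) s ≠ 0) : Flat σ {a, b, c} p r s := by
  obtain ⟨k, hk, h1⟩ := squeeze hσ (j := a) ⟨a, by simp [*], a', by simp [*], haa⟩ (by simp [*]) h
  refine ⟨k, fun i hi => ?_, fun i hi => ?_, fun i hi => h1 i (fun h => hi (.inr h)) fun h => hi (.inl h)⟩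
  · rw [Blk.fix hk hp, hp i fun h => hi (.inr h)]
  · rw [Blk.fix hk hr, hr i fun h => hi (.inr h)]

theorem flat_orth {p x r : ι → F} (hp : stdB σ ι p p = 1) (hx : stdB σ ι x x = 1)
    (hr : stdB σ ι r r = 1) (h : stdB σ ι p x = 0) (h' : nn σ p r + nn σ x r ≠ 1) :
    Flat σ {a, b, c} p x r := by
  obtain ⟨k, h1, h2⟩ := exists_norm2 hσ hab hac hbc hp hx (by simp [nn, h])
  refine .of_smul k (flat_sq hσ haa hab hac hab' hac' (by simp +contextual [h1, Pi.single_apply]) h2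
    (.inr fun h0 => h' ?_))
  rw [← SU.b_smul k] at hx hr h
  rw [← nn_smul k, ← nn_smul k x]
  rw [b_split2 hbc, h0] at hr
  rw [h1, b_e] at h
  rw [b_two hbc h2, h] at hx
  simp only [nn, h1, b_e, b_two hbc h2, h, map_zero, zero_mul, add_zero, map_mul, hσ.invol] at *
  linear_combination hr + σ ((k • r) b) * (k • r) b * hx

/-- subdividing a triangle -/
theorem geo_aux {p r s : ι → F} (hp : stdB σ ι p p = 1) (hr : stdB σ ι r r = 1)
    (hs : stdB σ ι s s = 1) (h : nn σ p r ≠ 1) {ρ : F} (hρ : σ ρ = ρ) (h0 : ρ ≠ 0) (h1 : ρ ≠ 1)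
    (h2 : nn σ r s + ρ ≠ 1) (h3 : nn σ p s + ρ ≠ 1) :
    Flat σ {a, b, c} p r s ∨ ∃ x, stdB σ ι x x = 1 ∧ nn σ p x ≠ 1 ∧ nn σ r x ≠ 1 ∧ nn σ s x ≠ 1 ∧
      Flat σ {a, b, c} p r x ∧ Flat σ {a, b, c} r s x ∧ Flat σ {a, b, c} s p x := by
  obtain ⟨k, h4, h5⟩ := exists_norm2 hσ hab hac hbc hp hr h
  have h4' : ∀ i ∉ ({b, c} : Set ι), (k • p) i = 0 := by simp +contextual [h4, Pi.single_apply]
  by_cases hz : ({b, c} : Set ι)ᶜ.indicator (k • s) = 0 ∨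
      stdB σ ι (({b, c} : Set ι)ᶜ.indicator (k • s)) (k • s) ≠ 0
  · exact .inl (.of_smul k (flat_sq hσ haa hab hac hab' hac' h4' h5 hz))
  rw [not_or, not_not, ← b_ind] at hz
  obtain ⟨j, hj⟩ := Function.ne_iff.1 hz.1
  have hz2 := hz.2
  have hz1 : ∀ i ∈ ({b, c} : Set ι), ({b, c} : Set ι)ᶜ.indicator (k • s) i = 0 := fun i hi =>
    Set.indicator_of_notMem (not_not.2 hi) _
  have hz3 : ∀ w : ι → F, (∀ i ∈ ({b, c} : Set ι), w i = 0) → stdB σ ι (k • s) w =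
      stdB σ ι (({b, c} : Set ι)ᶜ.indicator (k • s)) w := fun w hw => by
    rw [b_split2 hbc, hw b (by simp), hw c (by simp)]; simp
  generalize ({b, c} : Set ι)ᶜ.indicator (k • s) = z at *
  obtain ⟨κ, rfl⟩ := hσ.exists_norm hρ
  have hκ : σ κ ≠ 0 := left_ne_zero_of_mul h0
  have hj' : σ (z j) ≠ 0 := by simpa using hj
  obtain ⟨τ, hτ⟩ := hσ.exists_trace (c := 1 - σ κ * κ / (z j * σ (z j)))
    (by simp [hσ.invol, mul_comm])
  obtain ⟨x, hx1, hx2, hx3⟩ : ∃ x : ι → F, (∀ i ∈ ({b, c} : Set ι), x i = 0) ∧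
      stdB σ ι x x = 1 ∧ stdB σ ι z x = κ := by
    refine ⟨Pi.single j (κ / σ (z j)) + (τ / σ κ) • z, fun i hi => ?_, ?_, ?_⟩
    · rw [Pi.add_apply, Pi.single_eq_of_ne (by rintro rfl; exact hj (hz1 _ hi))]
      simp [hz1 i hi]
    · have : z j ≠ 0 := hj
      have : κ ≠ 0 := right_ne_zero_of_mul h0
      simp only [map_add, LinearMap.add_apply, b_smul_left, map_smul, stdB_single_left,
        stdB_single_right, hz2, Pi.single_eq_same, smul_eq_mul, map_div₀, hσ.invol, Pi.smul_apply,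
        map_mul]
      field_simp at hτ ⊢
      linear_combination (σ κ * κ) * hτ
    · simp only [map_add, map_smul, stdB_single_right, hz2, smul_zero, add_zero]
      field_simp
  have e1 := b_disj (σ := σ) h4' hx1
  have e2 := b_disj (σ := σ) h5 hx1
  have e3 : nn σ x (k • s) = σ κ * κ := by rw [nn_comm hσ, nn, hz3 x hx1, hx3]
  rw [← SU.b_smul k] at hp hr hs
  rw [← nn_smul k, ← e3] at h2 h3
  obtain ⟨x, rfl⟩ := (MulAction.toPerm k).surjective x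
  rw [MulAction.toPerm_apply] at *
  refine .inr ⟨x, by rwa [SU.b_smul] at hx2, ?_, ?_, ?_, .of_smul k ?_, .of_smul k ?_, .of_smul k ?_⟩
  · rw [← nn_smul k, nn, e1]; simp
  · rw [← nn_smul k, nn, e2]; simp
  · rwa [← nn_smul k, nn_comm hσ, e3]
  · refine flat_sq hσ haa hab hac hab' hac' h4' h5 (.inr ?_)
    rw [Set.indicator_eq_self (s := ({b, c} : Set ι)ᶜ).2 fun i hi h => hi (hx1 i h), hx2]; simp
  · exact (flat_orth hσ haa hab hac hab' hac' hbc hr hx2 hs e2 h2).swap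
  · exact (flat_orth hσ haa hab hac hab' hac' hbc hp hx2 hs e1 h3).rot.rot

theorem geo {q : ℕ} (hF : Nat.card F = q ^ 2) (hq : 3 < q) {p r s : ι → F} (hp : stdB σ ι p p = 1)
    (hr : stdB σ ι r r = 1) (hs : stdB σ ι s s = 1) (h1 : nn σ p r ≠ 1) (h2 : nn σ r s ≠ 1)
    (h3 : nn σ s p ≠ 1) :
    Flat σ {a, b, c} p r s ∨ ∃ x, stdB σ ι x x = 1 ∧ nn σ p x ≠ 1 ∧ nn σ r x ≠ 1 ∧ nn σ s x ≠ 1 ∧
      Flat σ {a, b, c} p r x ∧ Flat σ {a, b, c} r s x ∧ Flat σ {a, b, c} s p x := by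
  classical
  obtain ⟨ρ, ρ', h0, h0', h4, h4', h5⟩ : ∃ ρ ρ' : fixF σ, ρ ≠ 0 ∧ ρ' ≠ 0 ∧ ρ ≠ 1 ∧ ρ' ≠ 1 ∧ ρ ≠ ρ' := by
    have := Fintype.ofFinite (fixF σ)
    have h := hσ.card_fixF hF
    rw [Nat.card_eq_fintype_card] at h
    obtain ⟨ρ, hρ⟩ := Finset.exists_mem_notMem_of_card_lt_card (s := {0, 1})
      (t := (Finset.univ : Finset (fixF σ)))
      (Finset.card_le_two.trans_lt (by rw [Finset.card_univ, h]; omega))
    obtain ⟨ρ', hρ'⟩ := Finset.exists_mem_notMem_of_card_lt_card (s := {0, 1, ρ})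
      (t := (Finset.univ : Finset (fixF σ)))
      (Finset.card_le_three.trans_lt (by rw [Finset.card_univ, h]; omega))
    simp only [Finset.mem_insert, Finset.mem_singleton, not_or] at hρ hρ'
    exact ⟨ρ, ρ', hρ.2.1, hρ'.2.1, hρ.2.2, hρ'.2.2.1, Ne.symm hρ'.2.2.2⟩
  have key : ∀ ρ : fixF σ, ρ ≠ 0 → ρ ≠ 1 → (nn σ r s + ρ ≠ 1 ∧ nn σ s p + ρ ≠ 1 ∨
      nn σ s p + ρ ≠ 1 ∧ nn σ p r + ρ ≠ 1 ∨ nn σ p r + ρ ≠ 1 ∧ nn σ r s + ρ ≠ 1) →
      Flat σ {a, b, c} p r s ∨ ∃ x, stdB σ ι x x = 1 ∧ nn σ p x ≠ 1 ∧ nn σ r x ≠ 1 ∧ nn σ s x ≠ 1 ∧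
      Flat σ {a, b, c} p r x ∧ Flat σ {a, b, c} r s x ∧ Flat σ {a, b, c} s p x :=
    fun ρ h0 h4 h => by
      have h0' : ρ.1 ≠ 0 := fun h => h0 (Subtype.ext h)
      have h4' : ρ.1 ≠ 1 := fun h => h4 (Subtype.ext h)
      rcases h with h | h | h
      · exact geo_aux hσ haa hab hac hab' hac' hbc hp hr hs h1 ρ.2 h0' h4' h.1 (nn_comm hσ s p ▸ h.2)
      · exact (geo_aux hσ haa hab hac hab' hac' hbc hr hs hp h2 ρ.2 h0' h4' h.1
          (nn_comm hσ p r ▸ h.2)).imp (·.rot.rot)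
          fun ⟨x, a1, a2, a3, a4, a5, a6, a7⟩ => ⟨x, a1, a4, a2, a3, a7, a5, a6⟩
      · exact (geo_aux hσ haa hab hac hab' hac' hbc hs hp hr h3 ρ.2 h0' h4' h.1
          (nn_comm hσ r s ▸ h.2)).imp (·.rot)
          fun ⟨x, a1, a2, a3, a4, a5, a6, a7⟩ => ⟨x, a1, a3, a4, a2, a6, a7, a5⟩
  have h6 : ∀ u : F, u + ρ ≠ 1 ∨ u + ρ' ≠ 1 := fun u => by
    by_contra! h
    exact h5 (Subtype.ext (by linear_combination h.1 - h.2))
  have k1 := key ρ h0 h4
  have k2 := key ρ' h0' h4'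
  rcases h6 (nn σ p r) with a1 | a1 <;> rcases h6 (nn σ r s) with a2 | a2 <;>
    rcases h6 (nn σ s p) with a3 | a3 <;>
    first
    | (refine k1 ?_; simp only [ne_eq, a1, a2, a3, not_false_eq_true, and_self, true_or, or_true]; done)
    | (refine k2 ?_; simp only [ne_eq, a1, a2, a3, not_false_eq_true, and_self, true_or, or_true]; done)

end

end Cfsg.Agent.Phan
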