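import Mathlib
import Cfsg.Agent.Phan.Geo

/-!
Extending homomorphisms from two block subgroups to the whole special unitary group.
-/

set_option autoImplicit false
set_option backward.isDefEq.respectTransparency false

namespace Cfsg.Agent.Phan

open Matrix Herm

theorem exists_hom_of_tri {H G : Type*} [Group H] [Group G] {Ω : Set H} {f : H → G}
    (hne : Ω.Nonempty) (tri : ∀ x y z, x⁻¹ * y ∈ Ω → y⁻¹ * z ∈ Ω → x⁻¹ * z ∈ Ω →
      f (x⁻¹ * z) = f (x⁻¹ * y) * f (y⁻¹ * z))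
    (nb : ∀ r ∈ Ω, ∀ g h, ∃ x ∈ Ω, r⁻¹ * x ∈ Ω ∧ g⁻¹ * x ∈ Ω ∧ h⁻¹ * x ∈ Ω) :
    ∃ φ : H →* G, ∀ g ∈ Ω, φ g = f g := by
  obtain ⟨r, hr⟩ := hne
  have t1 : ∀ y z, y ∈ Ω → y⁻¹ * z ∈ Ω → z ∈ Ω → f z = f y * f (y⁻¹ * z) := fun y z h1 h2 h3 => by
    simpa using tri 1 y z (by simpa) h2 (by simpa)
  choose x h1 _ h2 _ using fun g => nb r hr g g
  have key : ∀ g y, y ∈ Ω → g⁻¹ * y ∈ Ω →
      f (x g) * (f (g⁻¹ * x g))⁻¹ = f y * (f (g⁻¹ * y))⁻¹ := fun g y h3 h4 => by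
    obtain ⟨z, a1, a2, a3, a4⟩ := nb y h3 g (x g)
    have b1 := t1 _ _ h3 a2 a1
    have b2 := t1 _ _ (h1 g) a4 a1
    have b3 := tri _ _ _ h4 a2 a3
    have b4 := tri _ _ _ (h2 g) a4 a3
    rw [eq_mul_inv_of_mul_eq b1.symm, eq_mul_inv_of_mul_eq b2.symm, eq_mul_inv_of_mul_eq b3.symm,
      eq_mul_inv_of_mul_eq b4.symm]
    group
  refine ⟨MonoidHom.mk' (fun g => f (x g) * (f (g⁻¹ * x g))⁻¹) fun g h => ?_, fun g hg => ?_⟩
  · obtain ⟨z, a1, -, a3, a4⟩ := nb r hr g (g * h)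
    have : h⁻¹ * (g⁻¹ * z) = (g * h)⁻¹ * z := by group
    rw [key _ z a1 a4, key _ z a1 a3, key h _ a3 (this ▸ a4), this]
    group
  · rw [MonoidHom.mk'_apply, t1 _ _ hg (h2 g) (h1 g), mul_inv_cancel_right]

theorem glue {H K L G : Type*} [One G] {i : H → L} {j : K → L} (hi : Function.Injective i)
    (hj : Function.Injective j) {ψ : H → G} {χ : K → G} (h : ∀ x y, i x = j y → ψ x = χ y) :
    ∃ φ : L → G, (∀ x, φ (i x) = ψ x) ∧ ∀ y, φ (j y) = χ y := by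
  classical
  refine ⟨fun l => if l ∈ Set.range i then Function.extend i ψ 1 l else Function.extend j χ 1 l,
    fun x => by simp [hi.extend_apply], fun y => ?_⟩
  by_cases hy : j y ∈ Set.range i
  · obtain ⟨x, hx⟩ := hy
    rw [← h x y hx, ← hx]; simp [hi.extend_apply]
  · simp only [hy, if_false, hj.extend_apply]

/-- multiplicative on a subgroup -/
def MulOn {H G : Type*} [Group H] [Group G] (φ : H → G) (K : Subgroup H) : Prop :=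
  ∀ x ∈ K, ∀ y ∈ K, φ (x * y) = φ x * φ y

theorem MulOn.one {H G : Type*} [Group H] [Group G] {φ : H → G} {K : Subgroup H} (h : MulOn φ K) :
    φ 1 = 1 := by simpa using h 1 (one_mem _) 1 (one_mem _)

theorem mulOn_range {H K G : Type*} [Group H] [Group K] [Group G] {φ : H → G} (i : K →* H)
    (ψ : K →* G) (h : ∀ x, φ (i x) = ψ x) : MulOn φ i.range := by
  rintro _ ⟨x, rfl⟩ _ ⟨y, rfl⟩
  rw [← map_mul, h, h, h, map_mul]

variable {F : Type*} [Field F] {σ : F →+* F} {ι : Type*} [Fintype ι] [DecidableEq ι]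
  [Finite F] (hσ : Inv σ) {G : Type*} [Group G] {φ : SU σ ι → G} {T : Set ι} {a b c : ι}
  (hab : a ≠ b) (hac : a ≠ c) (hbc : b ≠ c) (ha : a ∈ T) (hb : b ∈ T) (hc : c ∈ T)
  (hA : MulOn φ (Blk σ {c}ᶜ)) (hC : MulOn φ (Blk σ T))
  (hcomm : ∀ x ∈ Blk σ ({b, c} : Set ι)ᶜ, ∀ s ∈ Blk σ {b, c}, φ x * φ s = φ s * φ x)

omit [Finite F] in
theorem mem_stab {g : SU σ ι} :
    g ∈ Blk σ {c}ᶜ ↔ g • (Pi.single c 1 : ι → F) = Pi.single c 1 := by simp [Blk]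

include hσ hab hac hbc ha hb hc hA hC hcomm

theorem wd1 {α s y t : SU σ ι} (hα : α ∈ Blk σ {c}ᶜ) (hy : y ∈ Blk σ {c}ᶜ) (hs : s ∈ Blk σ {b, c})
    (ht : t ∈ Blk σ {b, c}) (h : α * s * y = t)
    (h0 : nn σ (Pi.single c 1) (t • Pi.single c 1) ≠ 1) : φ α * φ s * φ y = φ t := by
  have he : ∀ {g : SU σ ι}, g ∈ Blk σ {b, c} → g • (Pi.single c 1 : ι → F) =
      Pi.single b ((g • (Pi.single c 1 : ι → F)) b) +
        (g • (Pi.single c 1 : ι → F)) c • Pi.single c 1 ∧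
      σ ((g • (Pi.single c 1 : ι → F)) b) * (g • (Pi.single c 1 : ι → F)) b +
        σ ((g • (Pi.single c 1 : ι → F)) c) * (g • (Pi.single c 1 : ι → F)) c = 1 := fun {g} hg => by
    have : ∀ k ∉ ({b, c} : Set ι), (g • (Pi.single c 1 : ι → F)) k = 0 := fun k hk => by
      rw [Blk.apply hg _ hk, Pi.single_eq_of_ne fun h => hk (.inr h)]
    refine ⟨funext fun k => ?_, by rw [← b_two hbc this, SU.b_smul, b_ee]⟩
    by_cases hk : k ∈ ({b, c} : Set ι)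
    · rcases hk with rfl | rfl <;> simp [hbc, hbc.symm]
    · rw [this k hk]
      simp only [Set.mem_insert_iff, Set.mem_singleton_iff, not_or] at hk
      simp [hk]
  have h1 : α • s • (Pi.single c 1 : ι → F) = t • Pi.single c 1 := by
    rw [← h, mul_smul, mul_smul, mem_stab.1 hy]
  have h2 : (t • (Pi.single c 1 : ι → F)) c = (s • (Pi.single c 1 : ι → F)) c := by
    rw [← h1, Blk.apply hα _ (by simp)]
  obtain ⟨a1, a2⟩ := he hs
  obtain ⟨a3, a4⟩ := he ht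
  simp only [nn, b_e] at h0
  rw [h2] at a3 a4 h0
  generalize (s • (Pi.single c 1 : ι → F)) c = l at *
  generalize (s • (Pi.single c 1 : ι → F)) b = m at *
  generalize (t • (Pi.single c 1 : ι → F)) b = n at *
  have h3 : σ m * m ≠ 0 := fun h => h0 (by linear_combination a2 - h)
  obtain ⟨d, hd, h4⟩ := Blk.trans hσ (Set.nontrivial_pair hab) (u := Pi.single b m)
    (v := Pi.single b n) (by simp +contextual [Pi.single_apply])
    (by simp +contextual [Pi.single_apply]) (by simpa [stdB_single_left] using h3)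
    (by simp only [stdB_single_left, Pi.single_eq_same]; linear_combination a2 - a4)
  have hdA : d ∈ Blk σ {c}ᶜ := Blk.mono (Set.pair_subset hac hbc) hd
  have hdC : d ∈ Blk σ T := Blk.mono (Set.pair_subset ha hb) hd
  have hsC : s ∈ Blk σ T := Blk.mono (Set.pair_subset hb hc) hs
  have htC : t ∈ Blk σ T := Blk.mono (Set.pair_subset hb hc) ht
  have h5 : d • s • (Pi.single c 1 : ι → F) = t • Pi.single c 1 := by
    rw [a1, a3, smul_add, h4, SU.smul_c, mem_stab.1 hdA]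
  have h6 : α * d⁻¹ ∈ Blk σ {c}ᶜ := mul_mem hα (inv_mem hdA)
  have h7 : α * d⁻¹ ∈ Blk σ ({b, c} : Set ι)ᶜ := fun k hk => by
    rcases not_not.1 hk with rfl | rfl
    · have : (α * d⁻¹) • t • (Pi.single c 1 : ι → F) = t • Pi.single c 1 := by
        rw [mul_smul, ← h5, inv_smul_smul, h1, h5]
      rw [a3, smul_add, SU.smul_c, mem_stab.1 h6, add_left_inj,
        show Pi.single k n = n • (Pi.single k 1 : ι → F) by rw [← Pi.single_smul]; simp,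
        SU.smul_c] at this
      exact smul_right_injective _ (fun h => h3 (by linear_combination a2 - a4 + σ n * h)) this
    · exact mem_stab.1 h6
  have h8 : t⁻¹ * (d * s) ∈ Blk σ {c}ᶜ := mem_stab.2 (by rw [mul_smul, mul_smul, h5, inv_smul_smul])
  have h9 : α * d⁻¹ * (t⁻¹ * (d * s)) * y = 1 := by
    rw [← mul_assoc, ← Blk.comm (inv_mem ht) h7, ← h]; group
  have b1 := hA _ h6 _ hdA
  have b2 := hC _ htC _ (mul_mem (inv_mem htC) (mul_mem hdC hsC))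
  rw [inv_mul_cancel_right] at b1
  rw [mul_inv_cancel_left, hC _ hdC _ hsC] at b2
  rw [b1, mul_assoc (φ _), b2, ← mul_assoc, hcomm _ h7 _ ht, mul_assoc, mul_assoc, ← hA _ h8 _ hy,
    ← hA _ h6 _ (mul_mem h8 hy), ← mul_assoc, h9, hA.one, mul_one]

theorem exists_F : ∃ f : SU σ ι → G, ∀ x ∈ Blk σ {c}ᶜ, ∀ s ∈ Blk σ {b, c}, ∀ y ∈ Blk σ {c}ᶜ,
    nn σ (Pi.single c 1) (s • Pi.single c 1) ≠ 1 → f (x * s * y) = φ x * φ s * φ y := by
  have : ∀ g : SU σ ι, ∃ z, ∀ x ∈ Blk σ {c}ᶜ, ∀ s ∈ Blk σ {b, c}, ∀ y ∈ Blk σ {c}ᶜ,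
      nn σ (Pi.single c 1) (s • Pi.single c 1) ≠ 1 → x * s * y = g → z = φ x * φ s * φ y := by
    intro g
    by_cases h : ∃ x ∈ Blk σ {c}ᶜ, ∃ s ∈ Blk σ ({b, c} : Set ι), ∃ y ∈ Blk σ {c}ᶜ, x * s * y = g
    · obtain ⟨x, hx, s, hs, y, hy, rfl⟩ := h
      refine ⟨φ x * φ s * φ y, fun x' hx' s' hs' y' hy' h0 h => ?_⟩
      have h1 := mul_mem (inv_mem hx') hx
      have h2 := mul_mem hy (inv_mem hy')
      have b1 := hA _ hx' _ h1
      have b2 := hA _ h2 _ hy'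
      rw [mul_inv_cancel_left] at b1
      rw [inv_mul_cancel_right] at b2
      rw [← wd1 hσ hab hac hbc ha hb hc hA hC hcomm h1 h2 hs hs' (by
        rw [← mul_assoc, mul_assoc _ x, mul_assoc _ _ y, ← h]; group) h0, b1, b2]
      simp only [mul_assoc]
    · exact ⟨1, fun x hx s hs y hy _ e => absurd ⟨x, hx, s, hs, y, hy, e⟩ h⟩
  choose f hf using this
  exact ⟨f, fun x hx s hs y hy h => hf _ x hx s hs y hy h rfl⟩

theorem ext_hom
    (hgeo : ∀ p r s : ι → F, stdB σ ι p p = 1 → stdB σ ι r r = 1 → stdB σ ι s s = 1 →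
      nn σ p r ≠ 1 → nn σ r s ≠ 1 → nn σ s p ≠ 1 → Flat σ T p r s ∨ ∃ x, stdB σ ι x x = 1 ∧
        nn σ p x ≠ 1 ∧ nn σ r x ≠ 1 ∧ nn σ s x ≠ 1 ∧ Flat σ T p r x ∧ Flat σ T r s x ∧ Flat σ T s p x)
    (hnb : ∀ u v : ι → F, ∃ y : ι → F, (∀ k ∈ ({b, c} : Set ι), y k = 0) ∧ stdB σ ι y y = 1 ∧
      nn σ y u ≠ 1 ∧ nn σ y v ≠ 1)
    (hnb' : ∀ u : ι → F, ∃ y : ι → F, (∀ k ∉ T \ {c}, y k = 0) ∧ stdB σ ι y y = 1 ∧ nn σ y u ≠ 1) :
    ∃ f : SU σ ι →* G, (∀ x ∈ Blk σ {c}ᶜ, f x = φ x) ∧ ∀ x ∈ Blk σ T, f x = φ x := by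
  have : Nontrivial ι := ⟨a, b, hab⟩
  obtain ⟨f, hf⟩ := exists_F hσ hab hac hbc ha hb hc hA hC hcomm
  let Ω : Set (SU σ ι) := {g | nn σ (Pi.single c 1) (g • Pi.single c 1) ≠ 1}
  have hΩ : ∀ x y : SU σ ι, x⁻¹ * y ∈ Ω ↔
      nn σ (x • (Pi.single c 1 : ι → F)) (y • Pi.single c 1) ≠ 1 := fun x y => by
    rw [← nn_smul x⁻¹, inv_smul_smul, ← mul_smul]; rfl
  have hΩ' : ∀ x ∈ Blk σ {c}ᶜ, ∀ s, ∀ y ∈ Blk σ {c}ᶜ, x * s * y ∈ Ω ↔ s ∈ Ω :=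
    fun x hx s y hy => by
      rw [← inv_inv x, mul_assoc, hΩ, mul_smul, mem_stab.1 hy, mem_stab.1 (inv_mem hx)]; rfl
  have f1 : ∀ x ∈ Blk σ {c}ᶜ, ∀ g ∈ Ω, ∀ y ∈ Blk σ {c}ᶜ, f (x * g * y) = φ x * f g * φ y :=
    fun x hx g hg y hy => by
      obtain ⟨x', hx', s, hs, y', hy', rfl⟩ := dec hσ (T := Set.univ)
        ⟨a, by simpa, b, by simpa, hab⟩ (Set.mem_univ b) (Set.mem_univ c) hbc (by simp [Blk]) hg
      rw [← Set.compl_eq_univ_sdiff] at hx' hy'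
      have h := (hΩ' _ hx' _ _ hy').1 hg
      rw [hf _ hx' _ hs _ hy' h, show x * (x' * s * y') * y = x * x' * s * (y' * y) by group,
        hf _ (mul_mem hx hx') _ hs _ (mul_mem hy' hy) h, hA _ hx _ hx', hA _ hy' _ hy]
      simp only [mul_assoc]
  have f2 : ∀ g ∈ Ω, g ∈ Blk σ T → f g = φ g := fun g hg hg' => by
    obtain ⟨x, hx, s, hs, y, hy, rfl⟩ := dec hσ ⟨a, ⟨ha, hac⟩, b, ⟨hb, hbc⟩, hab⟩ hb hc hbc hg' hg
    have h1 : Blk σ (T \ {c}) ≤ Blk σ {c}ᶜ := Blk.mono fun _ h => h.2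
    have h2 : Blk σ (T \ {c}) ≤ Blk σ T := Blk.mono Set.sdiff_subset
    have h3 := Blk.mono (Set.pair_subset hb hc) hs
    rw [hf _ (h1 hx) _ hs _ (h1 hy) ((hΩ' _ (h1 hx) _ _ (h1 hy)).1 hg),
      hC _ (mul_mem (h2 hx) h3) _ (h2 hy), hC _ (h2 hx) _ h3]
  have hu : ∀ x : SU σ ι, stdB σ ι (x • (Pi.single c 1 : ι → F)) (x • Pi.single c 1) = 1 :=
    fun x => by rw [SU.b_smul, b_ee]
  have hT : ∀ {v : ι → F}, (∀ i ∉ T, v i = 0) → stdB σ ι v v = 1 →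
      ∃ x ∈ Blk σ T, x • (Pi.single c 1 : ι → F) = v := fun h1 h2 =>
    Blk.trans hσ ⟨b, hb, c, hc, hbc⟩ (fun k hk => Pi.single_eq_of_ne (by rintro rfl; exact hk hc) _)
      h1 (by simp [b_ee]) (by rw [h2, b_ee])
  have flat : ∀ x y z : SU σ ι, x⁻¹ * y ∈ Ω → y⁻¹ * z ∈ Ω → x⁻¹ * z ∈ Ω →
      Flat σ T (x • (Pi.single c 1 : ι → F)) (y • Pi.single c 1) (z • Pi.single c 1) →
      f (x⁻¹ * z) = f (x⁻¹ * y) * f (y⁻¹ * z) := fun x y z h1 h2 h3 ⟨k, k1, k2, k3⟩ => by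
    have key : ∀ x : SU σ ι, (∀ i ∉ T, (k • x • (Pi.single c 1 : ι → F)) i = 0) →
        ∃ u ∈ Blk σ T, ∃ w ∈ Blk σ {c}ᶜ, x = k⁻¹ * u * w := fun x hx => by
      obtain ⟨u, hu, h⟩ := hT hx (by rw [SU.b_smul, hu])
      exact ⟨u, hu, u⁻¹ * k * x, mem_stab.2 (by rw [mul_smul, mul_smul, ← h, inv_smul_smul]),
        by group⟩
    obtain ⟨x, hx, x', hx', rfl⟩ := key x k1
    obtain ⟨y, hy, y', hy', rfl⟩ := key y k2
    obtain ⟨z, hz, z', hz', rfl⟩ := key z k3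
    have e : ∀ u w u' w' : SU σ ι, (k⁻¹ * u * w)⁻¹ * (k⁻¹ * u' * w') = w⁻¹ * (u⁻¹ * u') * w' :=
      fun _ _ _ _ => by group
    rw [e] at h1 h2 h3
    rw [hΩ' _ (inv_mem ‹_›) _ _ ‹_›] at h1 h2 h3
    have m1 := mul_mem (inv_mem hx) hy
    have m2 := mul_mem (inv_mem hy) hz
    have b1 := hC _ m1 _ m2
    have b2 := hA _ hy' _ (inv_mem hy')
    rw [mul_inv_cancel, hA.one] at b2
    rw [mul_assoc, mul_inv_cancel_left] at b1
    rw [e, e, e, f1 _ (inv_mem hx') _ h1 _ hy', f1 _ (inv_mem hy') _ h2 _ hz',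
      f1 _ (inv_mem hx') _ h3 _ hz', f2 _ h1 m1, f2 _ h2 m2, f2 _ h3 (mul_mem (inv_mem hx) hz), b1,
      eq_inv_of_mul_eq_one_left b2.symm]
    group
  have lift : ∀ {v : ι → F}, stdB σ ι v v = 1 → ∃ x : SU σ ι, x • (Pi.single c 1 : ι → F) = v :=
    fun h => SU_trans hσ (by simp [b_ee]) (by rw [h, b_ee])
  obtain ⟨r, hr⟩ := lift (b_ee b)
  have hr' : r ∈ Ω := by
    change nn σ _ _ ≠ 1
    simp [hr, nn, b_e, hbc.symm]
  obtain ⟨ψ, hψ⟩ := exists_hom_of_tri (Ω := Ω) (f := f) ⟨r, hr'⟩ (fun x y z h1 h2 h3 => by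
    rcases hgeo _ _ _ (hu x) (hu y) (hu z) ((hΩ _ _).1 h1) ((hΩ _ _).1 h2)
      (by rw [nn_comm hσ]; exact (hΩ _ _).1 h3) with h | ⟨w, a1, a2, a3, a4, a5, a6, a7⟩
    · exact flat _ _ _ h1 h2 h3 h
    obtain ⟨w, rfl⟩ := lift a1
    have a8 := (hΩ w z).2 (by rw [nn_comm hσ]; exact a4)
    rw [← hΩ] at a2 a3
    rw [flat x w z a2 a8 h3 a7.rot, flat x y w h1 a3 a2 a5, flat y w z a3 a8 h2 a6.swap, mul_assoc])
    fun r hr g h => by
      obtain ⟨k, k1, k2⟩ := exists_norm2 hσ hab hac hbc (b_ee c) (hu r) hr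
      obtain ⟨y, y1, y2, y3, y4⟩ := hnb (k • g • (Pi.single c 1 : ι → F))
        (k • h • (Pi.single c 1 : ι → F))
      obtain ⟨y, rfl⟩ := (MulAction.toPerm k).surjective y
      rw [MulAction.toPerm_apply] at *
      rw [nn_smul, nn_comm hσ] at y3 y4
      obtain ⟨x, rfl⟩ := lift ((SU.b_smul k _ _).symm.trans y2)
      refine ⟨x, ?_, (hΩ _ _).2 ?_, (hΩ _ _).2 y3, (hΩ _ _).2 y4⟩
      · change nn σ _ _ ≠ 1
        rw [← nn_smul k, k1, nn, b_e, y1 c (by simp)]; simp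
      · rw [← nn_smul k, nn, b_disj k2 y1]; simp
  refine ⟨ψ, fun x hx => ?_, fun x hx => ?_⟩
  · have := f1 x hx r hr' 1 (one_mem _)
    rw [← hψ _ ((hΩ' _ hx _ _ (one_mem _)).2 hr'), ← hψ _ hr', hA.one, mul_one, mul_one,
      map_mul] at this
    exact mul_right_cancel this
  · obtain ⟨y, y1, y2, y3⟩ := hnb' (x⁻¹ • Pi.single c 1)
    obtain ⟨y, hy, rfl⟩ := hT (fun i hi => y1 i fun h => hi h.1) y2
    have h1 : y ∈ Ω := by
      change nn σ _ _ ≠ 1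
      rw [nn, b_e, y1 c (by simp)]; simp
    have h2 : x * y ∈ Ω := by
      rw [← inv_inv x, hΩ, nn_comm hσ]; exact y3
    have := hψ _ h2
    rw [f2 _ h2 (mul_mem hx hy), hC _ hx _ hy, map_mul, hψ _ h1, f2 _ h1 hy] at this
    exact mul_right_cancel this

end Cfsg.Agent.Phan
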