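import Mathlib
import Cfsg.Agent.Phan.Ext

/-!
Eichler transformations in the matrix group, stabilisers of isotropic vectors.
-/

set_option autoImplicit false
set_option backward.isDefEq.respectTransparency false

namespace Cfsg.Agent.Phan

open Matrix Herm

variable {F : Type*} [Field F] {σ : F →+* F} {ι : Type*} [Fintype ι] [DecidableEq ι]

/-- the matrix group as an abstract group of isometries -/
noncomputable def toA (hσ : Inv σ) : SU σ ι ≃* SUG (stdB σ ι) :=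
  MulEquiv.ofBijective (MonoidHom.mk' (fun g : SU σ ι =>
    (⟨⟨SpecialLinearGroup.toLin' g.1, SU.b_smul g⟩, mem_SUG.2 (by
      rw [detU_apply]
      exact (LinearMap.det_toLin' g.1.1).trans g.1.2)⟩ : SUG (stdB σ ι)))
    fun g h => Subtype.ext (UG.ext fun x => mul_smul g h x))
    ⟨fun g h e => SU.ext' fun k => congrArg (fun x : SUG (stdB σ ι) => x.1.1 (Pi.single k 1)) e,
      fun g => ⟨⟨⟨LinearMap.toMatrix' (g.1.1 : (ι → F) →ₗ[F] (ι → F)), by
        rw [LinearMap.det_toMatrix', ← detU_apply]; exact mem_SUG.1 g.2⟩,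
        (hσ.isom_iff _).1 fun u v => by simp⟩,
        Subtype.ext (UG.ext fun x => LinearMap.toMatrix'_mulVec _ x)⟩⟩

variable (hσ : Inv σ)
include hσ

theorem toA_apply (g : SU σ ι) (v : ι → F) : (toA hσ g).1.1 v = g • v := rfl

theorem toA_symm (g : SUG (stdB σ ι)) (v : ι → F) : (toA hσ).symm g • v = g.1.1 v := by
  rw [← toA_apply hσ, MulEquiv.apply_symm_apply]

/-- Eichler transformations -/
noncomputable def ei (u v : ι → F) (l : F) : SU σ ι :=
  (toA hσ).symm ⟨_, (hσ.hf_stdB ι).eich_mem_SUG u v l⟩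

theorem ei_smul {u v : ι → F} {l : F} (hu : stdB σ ι u u = 0) (huv : stdB σ ι u v = 0)
    (hl : l + σ l = stdB σ ι v v) (x : ι → F) :
    ei hσ u v l • x = x + (stdB σ ι v x - l * stdB σ ι u x) • u - stdB σ ι u x • v :=
  (toA_symm hσ _ _).trans ((hσ.hf_stdB ι).eich_apply hu huv hl x)

theorem ei_not {u v : ι → F} {l : F}
    (h : ¬ (stdB σ ι u u = 0 ∧ stdB σ ι u v = 0 ∧ l + σ l = stdB σ ι v v)) : ei hσ u v l = 1 :=
  (map_eq_one_iff _ (toA hσ).symm.injective).2 (Subtype.ext ((hσ.hf_stdB ι).eich_of_not h))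

theorem ei_mul {u v w : ι → F} {l m : F} (hu : stdB σ ι u u = 0) (huv : stdB σ ι u v = 0)
    (hl : l + σ l = stdB σ ι v v) (huw : stdB σ ι u w = 0) (hm : m + σ m = stdB σ ι w w) :
    ei hσ u v l * ei hσ u w m = ei hσ u (v + w) (l + m + stdB σ ι v w) := by
  rw [ei, ei, ← map_mul]
  exact congrArg _ (Subtype.ext ((hσ.hf_stdB ι).eich_mul hu huv hl huw hm))

theorem ei_conj (g : SU σ ι) (u v : ι → F) (l : F) :
    g * ei hσ u v l * g⁻¹ = ei hσ (g • u) (g • v) l := (toA hσ).injective (by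
  simp only [map_mul, map_inv, ei, MulEquiv.apply_symm_apply]
  exact Subtype.ext ((hσ.hf_stdB ι).eich_conj (toA hσ g).1 u v l))

theorem ei_mem {T : Set ι} {u v : ι → F} (hu : ∀ k ∉ T, u k = 0) (hv : ∀ k ∉ T, v k = 0) (l : F) :
    ei hσ u v l ∈ Blk σ T := by
  by_cases h : stdB σ ι u u = 0 ∧ stdB σ ι u v = 0 ∧ l + σ l = stdB σ ι v v
  · intro k hk
    simp [ei_smul hσ h.1 h.2.1 h.2.2, stdB_single_right, hu k hk, hv k hk]
  · rw [ei_not hσ h]; exact one_mem _

theorem ei_fix (u v : ι → F) (l : F) : ei hσ u v l • u = u :=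
  (toA_symm hσ _ _).trans ((hσ.hf_stdB ι).eich_apply_left u v l)

variable [Finite F]

theorem gen_ei [Nontrivial ι] {K : Subgroup (SU σ ι)} (h : ∀ u v l, ei hσ u v l ∈ K) : K = ⊤ := by
  refine eq_top_iff.2 fun g _ => ?_
  have h1 : (hσ.hf_stdB ι).eichGroup ≤ (K.map (toA hσ).toMonoidHom).map (SUG _).subtype :=
    (Subgroup.closure_le _).2 (by
      rintro _ ⟨u, v, l, rfl⟩
      exact ⟨_, ⟨_, h u v l, (toA hσ).apply_symm_apply _⟩, rfl⟩)
  rw [(hσ.hf_stdB ι).eichGroup_eq (by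
    rw [Module.finrank_fintype_fun_eq_card]; exact Fintype.one_lt_card)] at h1
  obtain ⟨_, ⟨k, hk, rfl⟩, e⟩ := h1 (toA hσ g).2
  rwa [← (toA hσ).injective (Subtype.ext e)]

theorem gen_four [CharP F 2] [Nontrivial ι] {K : Subgroup (SU σ ι)} (h : ∀ g, g ^ 4 = 1 → g ∈ K) :
    K = ⊤ := gen_ei hσ fun u v l => h _ (by
  by_cases h : stdB σ ι u u = 0 ∧ stdB σ ι u v = 0 ∧ l + σ l = stdB σ ι v v
  · have h1 : stdB σ ι v v + σ (stdB σ ι v v) = stdB σ ι 0 0 := by
      simp [(hσ.hf_stdB ι).fix, CharTwo.add_self_eq_zero]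
    have h2 : v + v = 0 := funext fun _ => CharTwo.add_self_eq_zero _
    rw [show 4 = 2 * 2 from rfl, pow_mul, sq, sq, ei_mul hσ h.1 h.2.1 h.2.2 h.2.1 h.2.2, h2,
      CharTwo.add_self_eq_zero, zero_add, ei_mul hσ h.1 (by simp) h1 (by simp) h1]
    refine SU.ext' fun k => ?_
    rw [ei_smul hσ h.1 (by simp) (by simp [CharTwo.add_self_eq_zero])]
    simp [CharTwo.add_self_eq_zero]
  · rw [ei_not hσ h, one_pow])

theorem Blk.trans' {T : Set ι} (hT : 2 < T.ncard) {u v : ι → F}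
    (hu : ∀ k ∉ T, u k = 0) (hv : ∀ k ∉ T, v k = 0) (hu0 : u ≠ 0) (hv0 : v ≠ 0)
    (h : stdB σ ι u u = stdB σ ι v v) : ∃ g ∈ Blk σ T, g • u = v := by
  by_cases h0 : stdB σ ι u u = 0
  swap
  · exact Blk.trans hσ ((Set.one_lt_ncard_iff_nontrivial).1 (by omega)) hu hv h0 h
  classical
  let f := Function.Embedding.subtype (· ∈ T)
  have hf : Set.range f = T := Subtype.range_coe
  have h1 : ∀ {u : ι → F}, (∀ k ∉ T, u k = 0) → u ≠ 0 → u ∘ f ≠ 0 := fun hu hu0 e =>
    hu0 (funext fun k => (em (k ∈ T)).elim (fun hk => congrFun e ⟨k, hk⟩) (hu k))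
  obtain ⟨g, hg, h2⟩ := (hσ.hf_stdB T).SUG_trans_iso (by
    rw [Module.finrank_fintype_fun_eq_card, ← Nat.card_eq_fintype_card]; exact hT)
    (h1 hu hu0) (h1 hv hv0) ((stdB_comp f (hf.symm ▸ hu) u).trans h0)
    ((stdB_comp f (hf.symm ▸ hv) v).trans (h.symm.trans h0))
  refine ⟨emb σ f ((toA hσ).symm ⟨g, hg⟩), Blk.mono hf.le (emb_mem f _), funext fun k => ?_⟩
  by_cases hk : k ∈ T
  · exact (emb_smul f _ u ⟨k, hk⟩).trans (by rw [toA_symm, h2]; rfl)
  · rw [Blk.apply (emb_mem f _) _ (hf.symm ▸ hk), hu k hk, hv k hk]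

theorem squeeze2 {T : Set ι} (hT : 2 < T.ncard) {j j' : ι} (hj : j ∈ T) (hj' : j' ∈ T) (h : j ≠ j')
    (v : ι → F) : ∃ k ∈ Blk σ T, ∀ i ∈ T, i ≠ j → i ≠ j' → (k • v) i = 0 := by
  by_cases h0 : T.indicator v = 0
  · exact ⟨1, one_mem _, fun i hi _ _ => by simpa [hi] using congrFun h0 i⟩
  obtain ⟨m, hm⟩ := hσ.exists_norm (μ := stdB σ ι (T.indicator v) (T.indicator v) - 1)
    (by rw [map_sub, (hσ.hf_stdB ι).fix, map_one])
  obtain ⟨k, hk, h1⟩ := Blk.trans' hσ hT (u := T.indicator v) (v := Pi.single j m + Pi.single j' 1)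
    (fun k hk => Set.indicator_of_notMem hk _)
    (fun k hk => by
      rw [Pi.add_apply, Pi.single_eq_of_ne (by rintro rfl; exact hk hj),
        Pi.single_eq_of_ne (by rintro rfl; exact hk hj'), add_zero]) h0
    (fun e => by simpa [h.symm] using congrFun e j')
    (by simp [stdB_single_left, h, h.symm, hm])
  refine ⟨k, hk, fun i hi hij hij' => ?_⟩
  rw [← Set.indicator_self_add_compl T v, smul_add, h1,
    Blk.fix hk fun i hi => Set.indicator_of_notMem (not_not.2 hi) _]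
  simp [hi, hij, hij']

theorem dec3 {T : Set ι} {a b c : ι} (hT : 2 < (T \ {c}).ncard) (ha : a ∈ T) (hb : b ∈ T)
    (hc : c ∈ T) (hab : a ≠ b) (hac : a ≠ c) (hbc : b ≠ c) {g : SU σ ι} (hg : g ∈ Blk σ T) :
    ∃ x ∈ Blk σ (T \ {c}), ∃ s ∈ Blk σ {a, b, c}, ∃ y ∈ Blk σ (T \ {c}), g = x * s * y := by
  obtain ⟨k, hk, h2⟩ := squeeze2 hσ hT ⟨ha, hac⟩ ⟨hb, hbc⟩ hab (g • Pi.single c 1)
  obtain ⟨s, hs, h3⟩ := Blk.trans hσ (T := {a, b, c}) ⟨a, by simp, b, by simp, hab⟩
    (u := Pi.single c 1) (v := k • g • (Pi.single c 1 : ι → F))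
    (by simp +contextual [Pi.single_apply])
    (fun i hi => by
      simp only [Set.mem_insert_iff, Set.mem_singleton_iff, not_or] at hi
      by_cases h : i ∈ T
      · exact h2 i ⟨h, hi.2.2⟩ hi.1 hi.2.1
      · rw [Blk.apply hk _ fun h' => h h'.1, Blk.apply hg _ h, Pi.single_eq_of_ne hi.2.2])
    (by simp [b_ee]) (by rw [SU.b_smul, SU.b_smul])
  refine ⟨k⁻¹, inv_mem hk, s, hs, s⁻¹ * k * g, fun i hi => ?_, by group⟩
  by_cases hi' : i ∈ T
  · obtain rfl : i = c := by_contra fun h => hi ⟨hi', h⟩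
    rw [mul_smul, mul_smul, ← h3, inv_smul_smul]
  · exact mul_mem (mul_mem (inv_mem (Blk.mono (Set.insert_subset ha (Set.pair_subset hb hc)) hs))
      (Blk.mono Set.sdiff_subset hk)) hg i hi'

theorem stab_iso {a' a b c : ι} (hab : a ≠ b) (hac : a ≠ c) (hbc : b ≠ c)
    (ha' : a' ∈ ({a, b, c} : Set ι)ᶜ) (hT : ({a, b, c} : Set ι)ᶜ.Nontrivial) {u : ι → F}
    (hu : ∀ k ∉ ({a, b} : Set ι), u k = 0) (hu0 : u ≠ 0) (hu1 : stdB σ ι u u = 0)
    {K : Subgroup (SU σ ι)} (h1 : Blk σ ({a, b, c} : Set ι)ᶜ ≤ K)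
    (h2 : ∀ g ∈ Blk σ {a', a, b}, g • u = u → g ∈ K) {g : SU σ ι} (hg : g ∈ Blk σ {c}ᶜ)
    (hgu : g • u = u) : g ∈ K := by
  have hs : ({a, b} : Set ι) ⊆ {a, b, c} := by intro; simp; tauto
  have k0 : ∀ w : ι → F, (∀ k ∈ ({a, b, c} : Set ι), w k = 0) → stdB σ ι u w = 0 := fun w hw =>
    b_disj hu fun k hk => hw k (hs hk)
  have k1 : ∀ m l, ei hσ u (Pi.single a' m) l ∈ K := fun m l => h2 _ (ei_mem hσ
    (fun k hk => hu k fun h => hk (.inr h)) (by simp +contextual [Pi.single_apply]) l) (ei_fix hσ ..)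
  have k2 : ∀ w : ι → F, (∀ k ∈ ({a, b, c} : Set ι), w k = 0) → ∀ l, ei hσ u w l ∈ K := by
    intro w hw
    rw [← Finset.univ_sum_single w]
    refine (Finset.sum_induction _ (fun w : ι → F => (∀ k ∈ ({a, b, c} : Set ι), w k = 0) ∧
      ∀ l, ei hσ u w l ∈ K) (fun v w hv hw => ⟨fun k hk => by simp [hv.1 k hk, hw.1 k hk],
        fun n => ?_⟩) ⟨fun _ _ => rfl, fun l => by simpa using k1 0 l⟩ fun j _ =>
          ⟨fun k hk => ?_, fun l => ?_⟩).2
    · by_cases hn : n + σ n = stdB σ ι (v + w) (v + w)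
      · obtain ⟨l, hl⟩ := hσ.exists_trace ((hσ.hf_stdB ι).fix v)
        rw [show n = l + (n - l - stdB σ ι v w) + stdB σ ι v w by ring,
          ← ei_mul hσ hu1 (k0 v hv.1) hl (k0 w hw.1) (by
            simp only [map_add, map_sub, LinearMap.add_apply, (hσ.hf_stdB ι).symm] at hn ⊢
            linear_combination hn - hl)]
        exact mul_mem (hv.2 _) (hw.2 _)
      · rw [ei_not hσ fun h => hn h.2.2]; exact one_mem _
    · rcases eq_or_ne k j with rfl | h <;> simp [*]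
    · by_cases h0 : w j = 0
      · simpa [h0] using k1 0 l
      have hj : j ∈ ({a, b, c} : Set ι)ᶜ := fun h => h0 (hw j h)
      obtain ⟨k, hk, h3⟩ := Blk.trans hσ hT (u := Pi.single a' (w j)) (v := Pi.single j (w j))
        (fun i hi => Pi.single_eq_of_ne (by rintro rfl; exact hi ha') _)
        (fun i hi => Pi.single_eq_of_ne (by rintro rfl; exact hi hj) _)
        (by simp [stdB_single_left, h0]) (by simp [stdB_single_left])
      rw [← h3, ← Blk.fix hk fun i hi => hu i fun h => hi (hs h), ← ei_conj]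
      exact mul_mem (mul_mem (h1 hk) (k1 _ _)) (inv_mem (h1 hk))
  have h3 := (b_two hab hu u).symm.trans hu1
  have h4 : u a ≠ 0 ∧ u b ≠ 0 := by
    rw [← not_or]
    refine fun h => hu0 (funext fun k => ?_)
    have : u a = 0 ∧ u b = 0 := by rcases h with h | h <;> simpa [h] using h3
    by_cases hk : k ∈ ({a, b} : Set ι)
    · rcases hk with rfl | rfl; exacts [this.1, this.2]
    · exact hu k hk
  obtain ⟨x, hx⟩ : ∃ x, σ (u a) * x = 1 := ⟨_, mul_inv_cancel₀ (by simp [h4])⟩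
  have h5 : stdB σ ι u (Pi.single a x) = 1 := by rw [stdB_single_right, hx]
  obtain ⟨t, w, hw, h6⟩ : ∃ (t : F) (w : ι → F), (∀ k ∈ ({a, b, c} : Set ι), w k = 0) ∧
      g • (Pi.single a x : ι → F) = Pi.single a x + t • u - w := by
    have h6 : stdB σ ι u (g • Pi.single a x) = 1 := by
      rw [← h5, ← SU.b_smul g u (Pi.single a x), hgu]
    have h7 : (g • (Pi.single a x : ι → F)) c = 0 := by
      rw [Blk.apply hg _ (by simp), Pi.single_eq_of_ne hac.symm]
    generalize g • (Pi.single a x : ι → F) = v at h6 h7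
    refine ⟨v b / u b, _, fun k hk => ?_, (sub_sub_cancel _ _).symm⟩
    rw [b_two hab hu] at h6
    obtain ⟨h8, h9⟩ := h4
    rcases hk with rfl | rfl | rfl
    · simp only [Pi.sub_apply, Pi.add_apply, Pi.single_eq_same, Pi.smul_apply, smul_eq_mul]
      refine mul_left_cancel₀ (mul_ne_zero h9 ((map_ne_zero σ).2 h8)) ?_
      field_simp
      linear_combination u b * hx - u b * h6 + v b * h3
    · simp [hab.symm, h9]
    · simp [hac.symm, h7, hu k (by simp [hac.symm, hbc.symm])]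
  have h7 : stdB σ ι w (Pi.single a x) = 0 := by simp [stdB_single_right, hw]
  have h8 : -t + σ (-t) = stdB σ ι w w := by
    have := SU.b_smul g (Pi.single a x) (Pi.single a x)
    simp only [h6, map_add, map_sub, LinearMap.add_apply, LinearMap.sub_apply, b_smul_left,
      map_smul, smul_eq_mul, hu1, h5, h7, k0 w hw, (hσ.hf_stdB ι).one_symm h5,
      (hσ.hf_stdB ι).zero_symm h7, (hσ.hf_stdB ι).zero_symm (k0 w hw), map_neg] at this ⊢
    linear_combination -this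
  have h9 : ((ei hσ u w (-t))⁻¹ * g) • (Pi.single a x : ι → F) = Pi.single a x := by
    rw [mul_smul, inv_smul_eq_iff, ei_smul hσ hu1 (k0 w hw) h8, h5, h7, h6]; simp
  have h10 : ((ei hσ u w (-t))⁻¹ * g) • u = u := by rw [mul_smul, hgu, inv_smul_eq_iff, ei_fix]
  have h11 : ((ei hσ u w (-t))⁻¹ * g) ∈ Blk σ {c}ᶜ := mul_mem (inv_mem (ei_mem hσ
    (fun k hk => hu k (by rw [not_not.1 hk]; simp [hac.symm, hbc.symm]))
    (fun k hk => hw k (.inr (.inr (not_not.1 hk)))) _)) hg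
  refine (mul_mem_cancel_left (inv_mem (k2 w hw (-t)))).1 (h1 fun k hk => ?_)
  generalize (ei hσ u w (-t))⁻¹ * g = h at *
  have e : ∀ (j : ι) (x : F), Pi.single j x = x • (Pi.single j 1 : ι → F) := fun j x => by
    rw [← Pi.single_smul]; simp
  rw [e, SU.smul_c] at h9
  replace h9 := smul_right_injective _ (right_ne_zero_of_mul_eq_one hx) h9
  rcases not_not.1 hk with rfl | rfl | rfl
  · exact h9
  · have : u = u a • Pi.single a 1 + u k • Pi.single k 1 := funext fun i => by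
      by_cases hi : i ∈ ({a, k} : Set ι)
      · rcases hi with rfl | rfl <;> simp [hab, hab.symm]
      · rw [hu i hi]
        simp only [Set.mem_insert_iff, Set.mem_singleton_iff, not_or] at hi
        simp [hi]
    rw [this, smul_add, SU.smul_c, SU.smul_c, h9, add_right_inj] at h10
    exact smul_right_injective _ h4.2 h10
  · exact mem_stab.1 h11

end Cfsg.Agent.Phan
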