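import Mathlib
import Cfsg.Agent.Phan.Eich

/-!
Extending homomorphisms from `SU_{n-1}` and `SU_4` to `SU_n`, `n ≥ 5`.
-/

set_option autoImplicit false
set_option backward.isDefEq.respectTransparency false

namespace Cfsg.Agent.Phan

open Matrix Herm

theorem MulOn.inv {H G : Type*} [Group H] [Group G] {φ : H → G} {K : Subgroup H} (h : MulOn φ K)
    {x : H} (hx : x ∈ K) : φ x⁻¹ = (φ x)⁻¹ :=
  eq_inv_of_mul_eq_one_right (by rw [← h _ hx _ (inv_mem hx), mul_inv_cancel, h.one])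

variable {F : Type*} [Field F] {σ : F →+* F} {ι : Type*} [Fintype ι] [DecidableEq ι]

omit [Fintype ι] in
theorem exists_bad {v : ι → F} (j₀ : ι) :
    ∃ j, ∀ i ≠ j, ∀ c : F, (Pi.single i 1 : ι → F) ≠ c • v := by
  by_cases h : ∃ j, ∃ c : F, (Pi.single j 1 : ι → F) = c • v
  · obtain ⟨j, c, h⟩ := h
    refine ⟨j, fun i hi d e => ?_⟩
    have h1 := congrFun h j
    have h2 := congrFun e j
    have h3 := congrFun e i
    simp only [Pi.single_eq_same, Pi.smul_apply, smul_eq_mul, Pi.single_eq_of_ne hi.symm] at h1 h2 h3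
    rcases mul_eq_zero.1 h2.symm with h | h
    · simp [h] at h3
    · simp [h] at h1
  · exact ⟨j₀, fun i _ c e => h ⟨i, c, e⟩⟩

omit [DecidableEq ι] in
theorem adj_symm {p r : ι → F} (hp : stdB σ ι p p = 1) (h : ∀ c : F, r ≠ c • p) (c : F) :
    p ≠ c • r := by
  rintro rfl
  rcases eq_or_ne c 0 with rfl | hc
  · simp at hp
  · exact h c⁻¹ (by simp [smul_smul, hc])

omit [DecidableEq ι] in
theorem adj_orth {p r : ι → F} (hp : stdB σ ι p p = 1) (hr : stdB σ ι r r = 1)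
    (h : stdB σ ι p r = 0) (c : F) : r ≠ c • p := by
  rintro rfl
  rw [map_smul, hp, smul_eq_mul, mul_one] at h
  simp [h] at hr

theorem card_compl (s : Finset ι) {k : ℕ} (h : s.card + k < Fintype.card ι) :
    k < ((s : Set ι)ᶜ).ncard := by
  rw [← Finset.coe_compl, Set.ncard_coe_finset, Finset.card_compl]; omega

variable [Finite F] (hσ : Inv σ) {G : Type*} [Group G] {φ : SU σ ι → G} {a' a b c : ι}
  (hι : 4 < Fintype.card ι) (haa : a' ≠ a) (hab' : a' ≠ b) (hac' : a' ≠ c)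
  (hab : a ≠ b) (hac : a ≠ c) (hbc : b ≠ c)
include hσ hι haa hab' hac' hab hac hbc

theorem flat4 {p x : ι → F} (hp : stdB σ ι p p = 1) (hx : stdB σ ι x x = 1)
    (h : stdB σ ι p x = 0) (r : ι → F) : Flat σ {a', a, b, c} p x r := by
  obtain ⟨k, h1, h2⟩ := exists_norm2 hσ hab hac hbc hp hx (by simp [nn, h])
  obtain ⟨l, hl, h3⟩ := squeeze2 hσ (T := ({b, c} : Set ι)ᶜ) (j := a') (j' := a) (by
    simpa using card_compl {b, c} (by rw [Finset.card_pair hbc]; exact hι))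
    (by simp [*]) (by simp [*]) haa (k • r)
  have h4 : ∀ i ∉ ({b, c} : Set ι), (k • p) i = 0 := by simp +contextual [h1, Pi.single_apply]
  refine .of_smul k ⟨l, fun i hi => ?_, fun i hi => ?_, fun i hi =>
    h3 i (fun h => hi (.inr (.inr h))) (fun h => hi (.inl h)) fun h => hi (.inr (.inl h))⟩
  · rw [Blk.fix hl h4, h4 i fun h => hi (.inr (.inr h))]
  · rw [Blk.fix hl h2, h2 i fun h => hi (.inr (.inr h))]

theorem geo4 {p r s : ι → F} (hp : stdB σ ι p p = 1) (hr : stdB σ ι r r = 1) :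
    ∃ x, stdB σ ι x x = 1 ∧ stdB σ ι p x = 0 ∧ stdB σ ι r x = 0 ∧ ∀ c : F, x ≠ c • s := by
  have : Nontrivial ι := ⟨a, b, hab⟩
  obtain ⟨k, hk⟩ := SU_trans hσ (u := p) (v := Pi.single c 1) (by simp [hp]) (by rw [hp, b_ee])
  obtain ⟨l, hl, h1⟩ := squeeze2 hσ (T := ({c} : Set ι)ᶜ) (j := a) (j' := b) (by
    simpa using card_compl {c} (k := 2) (by simp; omega)) hac hbc hab (k • r)
  obtain ⟨j, hj⟩ := exists_bad (v := l • k • s) a
  obtain ⟨i, -, hi⟩ := Finset.exists_mem_notMem_of_card_lt_card (s := {j, a, b, c})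
    (t := Finset.univ) (Finset.card_le_four.trans_lt hι)
  simp only [Finset.mem_insert, Finset.mem_singleton, not_or] at hi
  refine ⟨k⁻¹ • l⁻¹ • (Pi.single i 1 : ι → F), by rw [SU.b_smul, SU.b_smul, b_ee], ?_, ?_,
    fun d e => ?_⟩
  · rw [← SU.b_smul k, ← SU.b_smul l, hk, mem_stab.1 hl, smul_inv_smul, smul_inv_smul, b_e,
      Pi.single_eq_of_ne (Ne.symm hi.2.2.2)]
  · rw [← SU.b_smul k, ← SU.b_smul l, smul_inv_smul, smul_inv_smul, stdB_single_right,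
      h1 i hi.2.2.2 hi.2.1 hi.2.2.1]; simp
  · rw [inv_smul_eq_iff, inv_smul_eq_iff, SU.smul_c, SU.smul_c] at e
    exact hj i hi.1 d e

variable (hA : MulOn φ (Blk σ {c}ᶜ)) (hC : MulOn φ (Blk σ {a', a, b, c}))
  (h2 : ∀ x ∈ Blk σ ({b, c} : Set ι)ᶜ, ∀ s ∈ Blk σ {b, c}, φ x * φ s = φ s * φ x)
  (h3 : ∀ x ∈ Blk σ ({a, b, c} : Set ι)ᶜ, ∀ s ∈ Blk σ {a, b, c}, φ x * φ s = φ s * φ x)
include hA hC h2 h3

theorem wd3 {α s y t : SU σ ι} (hα : α ∈ Blk σ {c}ᶜ) (hy : y ∈ Blk σ {c}ᶜ)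
    (hs : s ∈ Blk σ {a, b, c}) (ht : t ∈ Blk σ {a, b, c}) (h : α * s * y = t)
    (h0 : ∀ d : F, t • (Pi.single c 1 : ι → F) ≠ d • Pi.single c 1) : φ α * φ s * φ y = φ t := by
  have i1 : Blk σ {a, b, c} ≤ Blk σ {a', a, b, c} := Blk.mono (Set.subset_insert _ _)
  have h1 : α • s • (Pi.single c 1 : ι → F) = t • Pi.single c 1 := by
    rw [← h, mul_smul, mul_smul, mem_stab.1 hy]
  by_cases h4 : nn σ (Pi.single c 1) (t • Pi.single c 1) ≠ 1
  · have hT : (({a, b, c} : Set ι) \ {c}).Nontrivial := ⟨a, by simp [hac], b, by simp [hbc], hab⟩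
    have i2 : Blk σ (({a, b, c} : Set ι) \ {c}) ≤ Blk σ {c}ᶜ := Blk.mono fun _ h => h.2
    have i3 := (Blk.mono (σ := σ) (Set.sdiff_subset (s := {a, b, c}) (t := {c}))).trans i1
    have i4 : Blk σ {b, c} ≤ Blk σ {a', a, b, c} := (Blk.mono (Set.subset_insert _ _)).trans i1
    obtain ⟨x, hx, s₁, hs₁, z, hz, rfl⟩ := dec hσ hT (by simp) (by simp) hbc hs (by
      rwa [← nn_smul α, mem_stab.1 hα, h1])
    obtain ⟨x', hx', t, ht, z', hz', e⟩ := dec hσ hT (by simp) (by simp) hbc ht h4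
    have := wd1 hσ hab hac hbc (T := {a', a, b, c}) (by simp) (by simp) (by simp) hA hC h2
      (mul_mem (inv_mem (i2 hx')) (mul_mem hα (i2 hx)))
      (mul_mem (mul_mem (i2 hz) hy) (inv_mem (i2 hz'))) hs₁ ht
      (by rw [eq_mul_inv_of_mul_eq (eq_inv_mul_of_mul_eq ((mul_assoc _ _ _).symm.trans
        (e.symm.trans h.symm)))]; group)
      (by rwa [e, mul_smul, mul_smul, mem_stab.1 (i2 hz'), ← mem_stab.1 (i2 hx'), nn_smul,
        mem_stab.1 (i2 hx')] at h4)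
    rw [e, hC _ (mul_mem (i3 hx') (i4 ht)) _ (i3 hz'), hC _ (i3 hx') _ (i4 ht), ← this,
      hC _ (mul_mem (i3 hx) (i4 hs₁)) _ (i3 hz), hC _ (i3 hx) _ (i4 hs₁),
      hA _ (inv_mem (i2 hx')) _ (mul_mem hα (i2 hx)), hA _ hα _ (i2 hx),
      hA _ (mul_mem (i2 hz) hy) _ (inv_mem (i2 hz')), hA _ (i2 hz) _ hy, hA.inv (i2 hx'),
      hA.inv (i2 hz')]
    group
  have he : ∀ {g : SU σ ι}, g ∈ Blk σ {a, b, c} → ∃ u : ι → F, (∀ k ∉ ({a, b} : Set ι), u k = 0) ∧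
      g • (Pi.single c 1 : ι → F) = u + (g • (Pi.single c 1 : ι → F)) c • Pi.single c 1 :=
    fun {g} hg => ⟨_, fun k hk => by
      rcases eq_or_ne k c with rfl | h
      · simp
      · simp [h, Blk.apply hg _ (k := k) (by simp at hk; simp [hk, h])], (sub_add_cancel _ _).symm⟩
  obtain ⟨u, u1, u2⟩ := he hs
  obtain ⟨v, v1, v2⟩ := he ht
  have h5 : (t • (Pi.single c 1 : ι → F)) c = (s • (Pi.single c 1 : ι → F)) c := by
    rw [← h1, Blk.apply hα _ (by simp)]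
  rw [not_not, nn, b_e] at h4
  rw [h5] at v2 h4
  generalize (s • (Pi.single c 1 : ι → F)) c = l at *
  have h6 : α • u = v := by
    rwa [u2, v2, smul_add, SU.smul_c, mem_stab.1 hα, add_left_inj] at h1
  have v0 : v ≠ 0 := fun e => h0 l (by rw [v2, e, zero_add])
  have v3 : stdB σ ι v v = 0 := by
    have := (SU.b_smul t _ _).trans (b_ee c)
    simp [v2, stdB_single_left, stdB_single_right, v1 c (by simp [hac.symm, hbc.symm])] at this
    linear_combination this - h4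
  have i5 : ({a, b} : Set ι) ⊆ {a', a, b} := Set.subset_insert _ _
  have i6 : Blk σ {a', a, b} ≤ Blk σ {c}ᶜ := Blk.mono (Set.insert_subset hac' (Set.pair_subset hac hbc))
  have i7 : Blk σ {a', a, b} ≤ Blk σ {a', a, b, c} := Blk.mono (by intro; simp; tauto)
  obtain ⟨d, hd, h7⟩ := Blk.trans' hσ (T := {a', a, b})
    (by rw [Set.ncard_eq_three.2 ⟨_, _, _, haa, hab', hab, rfl⟩]; omega)
    (fun k hk => u1 k fun h => hk (i5 h)) (fun k hk => v1 k fun h => hk (i5 h))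
    (by rintro rfl; exact v0 (by rw [← h6, smul_zero])) v0 (by rw [← h6, SU.b_smul])
  have k1 : ∀ g ∈ Blk σ {c}ᶜ, g • v = v → t⁻¹ * g * t ∈ Blk σ {c}ᶜ := fun g hg h => mem_stab.2 (by
    rw [mul_smul, mul_smul, inv_smul_eq_iff, v2, smul_add, h, SU.smul_c, mem_stab.1 hg])
  let K : Subgroup (SU σ ι) :=
    { carrier := {g | g ∈ Blk σ {c}ᶜ ∧ g • v = v ∧ φ g * φ t = φ t * φ (t⁻¹ * g * t)}
      one_mem' := ⟨one_mem _, one_smul _ _, by simp [hA.one]⟩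
      mul_mem' := fun {g g'} hg hg' => ⟨mul_mem hg.1 hg'.1, by rw [mul_smul, hg'.2.1, hg.2.1], by
        rw [hA _ hg.1 _ hg'.1, mul_assoc, hg'.2.2, ← mul_assoc, hg.2.2, mul_assoc,
          ← hA _ (k1 _ hg.1 hg.2.1) _ (k1 _ hg'.1 hg'.2.1)]
        congr 2; group⟩
      inv_mem' := fun {g} hg => ⟨inv_mem hg.1, inv_smul_eq_iff.2 hg.2.1.symm, by
        rw [show t⁻¹ * g⁻¹ * t = (t⁻¹ * g * t)⁻¹ by group, hA.inv hg.1, hA.inv (k1 _ hg.1 hg.2.1),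
          eq_mul_inv_iff_mul_eq, mul_assoc, ← hg.2.2, inv_mul_cancel_left]⟩ }
  have h8 : α * d⁻¹ ∈ K := stab_iso hσ hab hac hbc (a' := a') (K := K) (by simp [*])
    (Set.one_lt_ncard_iff_nontrivial.1 (by
      simpa using card_compl {a, b, c} (k := 1)
        ((Nat.succ_le_succ Finset.card_le_three).trans_lt hι)))
    v1 v0 v3 (fun g hg => ⟨Blk.mono (by simp) hg, Blk.fix hg fun k hk => v1 k fun h => hk
      (by simp at h; simp; tauto), by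
        rw [h3 g hg t ht, mul_assoc, ← Blk.comm ht hg, inv_mul_cancel_left]⟩)
    (fun g hg h => ⟨i6 hg, h, by
      rw [← hC _ (i7 hg) _ (i1 ht), ← hC _ (i1 ht) _ (mul_mem (mul_mem (inv_mem (i1 ht)) (i7 hg))
        (i1 ht))]
      congr 1; group⟩)
    (mul_mem hα (inv_mem (i6 hd))) (by rw [mul_smul, ← h7, inv_smul_smul, h6, h7])
  have h9 : t⁻¹ * (d * s) ∈ Blk σ {c}ᶜ := mem_stab.2 (by
    rw [mul_smul, mul_smul, inv_smul_eq_iff, u2, v2, smul_add, h7, SU.smul_c, mem_stab.1 (i6 hd)])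
  have b1 := hA _ h8.1 _ (i6 hd)
  have b2 := hC _ (i1 ht) _ (mul_mem (inv_mem (i1 ht)) (mul_mem (i7 hd) (i1 hs)))
  rw [inv_mul_cancel_right] at b1
  rw [mul_inv_cancel_left, hC _ (i7 hd) _ (i1 hs)] at b2
  rw [b1, mul_assoc (φ _), b2, ← mul_assoc, h8.2.2, mul_assoc, mul_assoc, ← hA _ h9 _ hy,
    ← hA _ (k1 _ h8.1 h8.2.1) _ (mul_mem h9 hy),
    show t⁻¹ * (α * d⁻¹) * t * (t⁻¹ * (d * s) * y) = 1 by rw [← h]; group, hA.one, mul_one]

theorem ext4 : ∃ f : SU σ ι →* G, (∀ x ∈ Blk σ {c}ᶜ, f x = φ x) ∧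
    ∀ x ∈ Blk σ {a', a, b, c}, f x = φ x := by
  have : Nontrivial ι := ⟨a, b, hab⟩
  obtain ⟨f, hf⟩ : ∃ f : SU σ ι → G, ∀ x ∈ Blk σ {c}ᶜ, ∀ s ∈ Blk σ {a, b, c}, ∀ y ∈ Blk σ {c}ᶜ,
      (∀ d : F, s • (Pi.single c 1 : ι → F) ≠ d • Pi.single c 1) →
        f (x * s * y) = φ x * φ s * φ y := by
    have : ∀ g : SU σ ι, ∃ z, ∀ x ∈ Blk σ {c}ᶜ, ∀ s ∈ Blk σ {a, b, c}, ∀ y ∈ Blk σ {c}ᶜ,
        (∀ d : F, s • (Pi.single c 1 : ι → F) ≠ d • Pi.single c 1) → x * s * y = g →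
          z = φ x * φ s * φ y := by
      intro g
      by_cases h : ∃ x ∈ Blk σ {c}ᶜ, ∃ s ∈ Blk σ ({a, b, c} : Set ι), ∃ y ∈ Blk σ {c}ᶜ,
        x * s * y = g
      · obtain ⟨x, hx, s, hs, y, hy, rfl⟩ := h
        refine ⟨φ x * φ s * φ y, fun x' hx' s' hs' y' hy' h0 h => ?_⟩
        have h1 := mul_mem (inv_mem hx') hx
        have h4 := mul_mem hy (inv_mem hy')
        have b1 := hA _ hx' _ h1
        have b2 := hA _ h4 _ hy'
        rw [mul_inv_cancel_left] at b1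
        rw [inv_mul_cancel_right] at b2
        rw [← wd3 hσ hι haa hab' hac' hab hac hbc hA hC h2 h3 h1 h4 hs hs' (by
          rw [← mul_assoc, mul_assoc _ x, mul_assoc _ _ y, ← h]; group) h0, b1, b2]
        simp only [mul_assoc]
      · exact ⟨1, fun x hx s hs y hy _ e => absurd ⟨x, hx, s, hs, y, hy, e⟩ h⟩
    choose f hf using this
    exact ⟨f, fun x hx s hs y hy h => hf _ x hx s hs y hy h rfl⟩
  let Ω : Set (SU σ ι) := {g | ∀ d : F, g • (Pi.single c 1 : ι → F) ≠ d • Pi.single c 1}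
  have hΩ : ∀ x y : SU σ ι, x⁻¹ * y ∈ Ω ↔
      ∀ d : F, y • (Pi.single c 1 : ι → F) ≠ d • x • (Pi.single c 1 : ι → F) := fun x y =>
    forall_congr' fun d => by rw [mul_smul, Ne, inv_smul_eq_iff, SU.smul_c]
  have hΩ' : ∀ x ∈ Blk σ {c}ᶜ, ∀ s, ∀ y ∈ Blk σ {c}ᶜ, x * s * y ∈ Ω ↔ s ∈ Ω :=
    fun x hx s y hy => by
      rw [← inv_inv x, mul_assoc, hΩ, mul_smul, mem_stab.1 hy, mem_stab.1 (inv_mem hx)]; rfl
  have f1 : ∀ x ∈ Blk σ {c}ᶜ, ∀ g ∈ Ω, ∀ y ∈ Blk σ {c}ᶜ, f (x * g * y) = φ x * f g * φ y :=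
    fun x hx g hg y hy => by
      obtain ⟨x', hx', s, hs, y', hy', rfl⟩ := dec3 hσ (T := Set.univ) (g := g) (by
        simpa [Set.compl_eq_univ_sdiff] using card_compl {c} (k := 2) (by simp; omega))
        (Set.mem_univ a) (Set.mem_univ b) (Set.mem_univ c) hab hac hbc (by simp [Blk])
      rw [← Set.compl_eq_univ_sdiff] at hx' hy'
      have h := (hΩ' _ hx' _ _ hy').1 hg
      rw [hf _ hx' _ hs _ hy' h, show x * (x' * s * y') * y = x * x' * s * (y' * y) by group,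
        hf _ (mul_mem hx hx') _ hs _ (mul_mem hy' hy) h, hA _ hx _ hx', hA _ hy' _ hy]
      simp only [mul_assoc]
  generalize hT : ({a', a, b, c} : Set ι) = T at hC ⊢
  have ha' : a' ∈ T := by simp [← hT]
  have ha : a ∈ T := by simp [← hT]
  have hb : b ∈ T := by simp [← hT]
  have hc : c ∈ T := by simp [← hT]
  have f2 : ∀ g ∈ Ω, g ∈ Blk σ T → f g = φ g := fun g hg hg' => by
    obtain ⟨x, hx, s, hs, y, hy, rfl⟩ := dec3 hσ ((Set.two_lt_ncard (Set.toFinite _)).2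
      ⟨a', ⟨ha', hac'⟩, a, ⟨ha, hac⟩, b, ⟨hb, hbc⟩, haa, hab', hab⟩) ha hb hc hab hac hbc hg'
    have h1 : Blk σ (T \ {c}) ≤ Blk σ {c}ᶜ := Blk.mono fun _ h => h.2
    have h2 : Blk σ (T \ {c}) ≤ Blk σ T := Blk.mono Set.sdiff_subset
    have h3 := Blk.mono (Set.insert_subset ha (Set.pair_subset hb hc)) hs
    rw [hf _ (h1 hx) _ hs _ (h1 hy) ((hΩ' _ (h1 hx) _ _ (h1 hy)).1 hg),
      hC _ (mul_mem (h2 hx) h3) _ (h2 hy), hC _ (h2 hx) _ h3]
  have hu : ∀ x : SU σ ι, stdB σ ι (x • (Pi.single c 1 : ι → F)) (x • Pi.single c 1) = 1 :=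
    fun x => by rw [SU.b_smul, b_ee]
  have hT' : ∀ {v : ι → F}, (∀ i ∉ T, v i = 0) → stdB σ ι v v = 1 →
      ∃ x ∈ Blk σ T, x • (Pi.single c 1 : ι → F) = v := fun h1 h2 =>
    Blk.trans hσ ⟨b, hb, c, hc, hbc⟩ (fun k hk => Pi.single_eq_of_ne (by rintro rfl; exact hk hc) _)
      h1 (by simp [b_ee]) (by rw [h2, b_ee])
  have flat : ∀ x y z : SU σ ι, x⁻¹ * y ∈ Ω → y⁻¹ * z ∈ Ω → x⁻¹ * z ∈ Ω →
      Flat σ T (x • (Pi.single c 1 : ι → F)) (y • Pi.single c 1) (z • Pi.single c 1) →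
      f (x⁻¹ * z) = f (x⁻¹ * y) * f (y⁻¹ * z) := fun x y z h1 h2 h3 ⟨k, k1, k2, k3⟩ => by
    have key : ∀ x : SU σ ι, (∀ i ∉ T, (k • x • (Pi.single c 1 : ι → F)) i = 0) →
        ∃ u ∈ Blk σ T, ∃ w ∈ Blk σ {c}ᶜ, x = k⁻¹ * u * w := fun x hx => by
      obtain ⟨u, hu, h⟩ := hT' hx (by rw [SU.b_smul, hu])
      exact ⟨u, hu, u⁻¹ * k * x, mem_stab.2 (by rw [mul_smul, mul_smul, ← h, inv_smul_smul]),
        by group⟩
    obtain ⟨x, hx, x', hx', rfl⟩ := key x k1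
    obtain ⟨y, hy, y', hy', rfl⟩ := key y k2
    obtain ⟨z, hz, z', hz', rfl⟩ := key z k3
    have e : ∀ u w u' w' : SU σ ι, (k⁻¹ * u * w)⁻¹ * (k⁻¹ * u' * w') = w⁻¹ * (u⁻¹ * u') * w' :=
      fun _ _ _ _ => by group
    rw [e] at h1 h2 h3
    rw [hΩ' _ (inv_mem ‹_›) _ _ ‹_›] at h1 h2 h3
    have m1 := mul_mem (inv_mem hx) hy
    have m2 := mul_mem (inv_mem hy) hz
    have b1 := hC _ m1 _ m2
    rw [mul_assoc, mul_inv_cancel_left] at b1
    rw [e, e, e, f1 _ (inv_mem hx') _ h1 _ hy', f1 _ (inv_mem hy') _ h2 _ hz',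
      f1 _ (inv_mem hx') _ h3 _ hz', f2 _ h1 m1, f2 _ h2 m2, f2 _ h3 (mul_mem (inv_mem hx) hz), b1,
      hA.inv hy']
    group
  have lift : ∀ {v : ι → F}, stdB σ ι v v = 1 → ∃ x : SU σ ι, x • (Pi.single c 1 : ι → F) = v :=
    fun h => SU_trans hσ (by simp [b_ee]) (by rw [h, b_ee])
  have hne : ∀ {i}, i ≠ c → ∀ {x : SU σ ι}, x • (Pi.single c 1 : ι → F) = Pi.single i 1 → x ∈ Ω :=
    fun {i} hi x hx d e => by simpa [hx, hi] using congrFun e i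
  obtain ⟨r, hr⟩ := lift (b_ee b)
  have hr' := hne hbc hr
  obtain ⟨ψ, hψ⟩ := exists_hom_of_tri (Ω := Ω) (f := f) ⟨r, hr'⟩ (fun x y z h1 h2 h3 => by
    obtain ⟨w, a1, a2, a3, a4⟩ := geo4 hσ hι haa hab' hac' hab hac hbc (s := z • Pi.single c 1)
      (hu x) (hu y)
    obtain ⟨w, rfl⟩ := lift a1
    have a5 := (hΩ _ _).2 (adj_orth (hu x) a1 a2)
    have a6 := (hΩ _ _).2 (adj_orth (hu y) a1 a3)
    have a7 := (hΩ _ _).2 (adj_symm (hu z) a4)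
    rw [flat x w z a5 a7 h3 (hT ▸ flat4 hσ hι haa hab' hac' hab hac hbc (hu x) a1 a2 _),
      flat x y w h1 a6 a5 (hT ▸ (flat4 hσ hι haa hab' hac' hab hac hbc (hu x) a1 a2 _).swap),
      flat y w z a6 a7 h2 (hT ▸ flat4 hσ hι haa hab' hac' hab hac hbc (hu y) a1 a3 _), mul_assoc])
    fun r _ g h => by
      obtain ⟨j1, k1⟩ := exists_bad (v := r • (Pi.single c 1 : ι → F)) a
      obtain ⟨j2, k2⟩ := exists_bad (v := g • (Pi.single c 1 : ι → F)) a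
      obtain ⟨j3, k3⟩ := exists_bad (v := h • (Pi.single c 1 : ι → F)) a
      obtain ⟨i, -, hi⟩ := Finset.exists_mem_notMem_of_card_lt_card (s := {c, j1, j2, j3})
        (t := Finset.univ) (Finset.card_le_four.trans_lt hι)
      simp only [Finset.mem_insert, Finset.mem_singleton, not_or] at hi
      obtain ⟨x, hx⟩ := lift (b_ee i)
      exact ⟨x, hne hi.1 hx, (hΩ _ _).2 (hx ▸ k1 i hi.2.1), (hΩ _ _).2 (hx ▸ k2 i hi.2.2.1),
        (hΩ _ _).2 (hx ▸ k3 i hi.2.2.2)⟩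
  refine ⟨ψ, fun x hx => ?_, fun x hx => ?_⟩
  · have := f1 x hx r hr' 1 (one_mem _)
    rw [← hψ _ ((hΩ' _ hx _ _ (one_mem _)).2 hr'), ← hψ _ hr', hA.one, mul_one, mul_one,
      map_mul] at this
    exact mul_right_cancel this
  · obtain ⟨j, k1⟩ := exists_bad (v := x⁻¹ • (Pi.single c 1 : ι → F)) a
    obtain ⟨i, hi, hic, hij⟩ : ∃ i ∈ T, i ≠ c ∧ i ≠ j := by
      rcases eq_or_ne a j with rfl | h
      exacts [⟨b, hb, hbc, hab.symm⟩, ⟨a, ha, hac, h⟩]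
    obtain ⟨y, hy, h4⟩ := hT' (v := Pi.single i 1)
      (fun k hk => Pi.single_eq_of_ne (by rintro rfl; exact hk hi) _) (b_ee i)
    have h1 := hne hic h4
    have h5 : x * y ∈ Ω := by rw [← inv_inv x, hΩ, h4]; exact k1 i hij
    have := hψ _ h5
    rw [f2 _ h5 (mul_mem hx hy), hC _ hx _ hy, map_mul, hψ _ h1, f2 _ h1 hy] at this
    exact mul_right_cancel this

end Cfsg.Agent.Phan
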