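import Mathlib
import Cfsg.Agent.Phan.Aut

/-!
Standard pairs of subgroups `SU₂(q)` in `SU₃(q)`.
-/

set_option autoImplicit false
set_option backward.isDefEq.respectTransparency false

namespace Cfsg.Agent.Phan

open Matrix Herm Subgroup

variable {F : Type*} [Field F] {σ : F →+* F} {ι κ : Type*} [Fintype ι] [DecidableEq ι]
  [Fintype κ] [DecidableEq κ] {G : Type*} [Group G]

/-- diagonal and field endomorphisms -/
def dmap (hσ : Inv σ) {ρ : F →+* F} (hρ : ∀ x, σ (ρ x) = ρ (σ x)) {d : ι → F}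
    (hd : ∀ i, σ (d i) * d i = 1) : SU σ ι →* SU σ ι :=
  have h1 : diagonal (σ ∘ d) * diagonal d = 1 := by simp [hd]
  have h2 : diagonal d * diagonal (σ ∘ d) = 1 := mul_eq_one_comm.1 h1
  MonoidHom.mk' (fun s => ⟨⟨diagonal d * s.1.1.map ρ * diagonal (σ ∘ d), by
      rw [det_mul_right_comm, h2, Matrix.one_mul, ← RingHom.mapMatrix_apply, ← RingHom.map_det,
        s.1.2, map_one]⟩, by
      have h3 : ct σ (s.1.1.map ρ) = (ct σ s.1.1).map ρ := by ext i j; exact hρ _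
      have h4 : ct σ (diagonal d) = diagonal (σ ∘ d) := by simp [ct_apply, Function.comp_def]
      change ct σ (_ * _ * _) * (_ * _ * _) = 1
      rw [ct_mul, ct_mul, ← h4, hσ.ct_ct, h4, h3, Matrix.mul_assoc, Matrix.mul_assoc,
        ← Matrix.mul_assoc (diagonal _) (_ * _), ← Matrix.mul_assoc (diagonal _) (diagonal _), h1,
        Matrix.one_mul, ← Matrix.mul_assoc (Matrix.map _ _), ← Matrix.map_mul, SU.prop,
        Matrix.map_one _ (map_zero ρ) (map_one ρ), Matrix.one_mul, h2]⟩)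
    fun s t => SU.ext (by
      simp only [SU.mul_val, Matrix.map_mul, Matrix.mul_assoc]
      rw [← Matrix.mul_assoc (diagonal (σ ∘ d)), h1, Matrix.one_mul])

section
variable (hσ : Inv σ) {ρ : F →+* F} (hρ : ∀ x, σ (ρ x) = ρ (σ x)) {d : ι → F}
    (hd : ∀ i, σ (d i) * d i = 1)

theorem dmap_apply (s : SU σ ι) (i j : ι) :
    (dmap hσ hρ hd s).1.1 i j = d i * ρ (s.1.1 i j) * σ (d j) := by
  simp [dmap]

theorem dmap_inj : Function.Injective (dmap hσ hρ hd) := fun s t h => SU.ext (by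
  ext i j
  have := congrArg (fun x : SU σ ι => x.1.1 i j) h
  simp only [dmap_apply] at this
  exact ρ.injective (mul_left_cancel₀ (right_ne_zero_of_mul_eq_one (hd i))
    (mul_right_cancel₀ (left_ne_zero_of_mul_eq_one (hd j)) this)))

theorem dmap_emb (f : κ ↪ ι) (s : SU σ κ) :
    dmap hσ hρ hd (emb σ f s) = emb σ f (dmap hσ hρ (d := d ∘ f) (fun i => hd (f i)) s) := by
  have : ∀ i j, d i * ρ ((1 : Matrix ι ι F) i j) * σ (d j) = (1 : Matrix ι ι F) i j := fun i j => by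
    by_cases h : i = j <;> simp [one_apply, h, mul_comm (d j), hd]
  refine SU.ext (embM_ext (fun i j => ?_) fun i hi j => ?_).symm
  · simp [dmap_apply, emb_val, embM_apply]
  · simp only [dmap_apply, emb_val, embM_left _ _ hi, embM_right _ _ _ hi, this, and_self]

end

variable (σ) in
/-- upper left block -/
def j1 : SU σ (Fin 2) →* SU σ (Fin 3) := emb σ Fin.castSuccEmb

variable (σ) in
/-- lower right block -/
def j2 : SU σ (Fin 2) →* SU σ (Fin 3) := emb σ (Fin.succEmb 2)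

theorem rg1 : Set.range (Fin.castSuccEmb : Fin 2 ↪ Fin 3) = {0, 1} := by
  ext i; fin_cases i <;> simp [Fin.exists_fin_two]

theorem rg2 : Set.range (Fin.succEmb 2) = {1, 2} := by
  ext i; fin_cases i <;> simp [Fin.exists_fin_two]

theorem range_j1 : (j1 σ).range = Blk σ {0, 1} := by rw [j1, range_emb, rg1]
theorem range_j2 : (j2 σ).range = Blk σ {1, 2} := by rw [j2, range_emb, rg2]

theorem j1_val (s : SU σ (Fin 2)) :
    (j1 σ s).1.1 = !![s.1.1 0 0, s.1.1 0 1, 0; s.1.1 1 0, s.1.1 1 1, 0; 0, 0, 1] := by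
  refine embM_ext (fun i j => ?_) fun i hi j => ?_
  · fin_cases i <;> fin_cases j <;> rfl
  · rw [rg1] at hi
    fin_cases i <;> fin_cases j <;> simp at hi ⊢

theorem j2_val (s : SU σ (Fin 2)) :
    (j2 σ s).1.1 = !![1, 0, 0; 0, s.1.1 0 0, s.1.1 0 1; 0, s.1.1 1 0, s.1.1 1 1] := by
  refine embM_ext (fun i j => ?_) fun i hi j => ?_
  · fin_cases i <;> fin_cases j <;> rfl
  · rw [rg2] at hi
    fin_cases i <;> fin_cases j <;> simp at hi ⊢

theorem Blk.conj {T : Set ι} {g x : SU σ ι}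
    (hg : ∀ k, ∃ c : F, g • (Pi.single k 1 : ι → F) = c • Pi.single k 1) (hx : x ∈ Blk σ T) :
    g⁻¹ * x * g ∈ Blk σ T := fun k hk => by
  obtain ⟨c, hc⟩ := hg k
  rw [mul_smul, mul_smul, hc, SU.smul_c, hx k hk, ← hc, inv_smul_smul]

theorem j2_dg {x : F} (h : σ x * x = 1) (k : Fin 3) :
    ∃ c : F, j2 σ (dg h) • (Pi.single k 1 : Fin 3 → F) = c • Pi.single k 1 :=
  ⟨![1, x, σ x] k, by
    ext i; fin_cases i <;> fin_cases k <;> simp [SU.smul_def, j2_val, dg]⟩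

variable [Finite F] (hσ : Inv σ)
include hσ

theorem center_scalar {z : SU σ (Fin 3)} (hz : z ∈ center _) : ∃ r : F, z.1.1 = r • 1 := by
  obtain ⟨x, h1, h2, h3⟩ := exists_delta hσ
  have h4 : σ x ≠ 1 := fun h => h2 (by simpa [h] using h1)
  have e := fun g i j => congrArg (fun y : SU σ (Fin 3) => y.1.1 i j) (mem_center_iff.1 hz g)
  have a1 := e (j2 σ (dg h1)) 0 1
  have a2 := e (j2 σ (dg h1)) 0 2
  have a3 := e (j2 σ (dg h1)) 1 0
  have a4 := e (j2 σ (dg h1)) 1 2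
  have a5 := e (j2 σ (dg h1)) 2 0
  have a6 := e (j2 σ (dg h1)) 2 1
  have a7 := e (j1 σ (wy σ)) 0 1
  have a8 := e (j2 σ (wy σ)) 1 2
  simp only [SU.mul_val, j1_val, j2_val] at a1 a2 a3 a4 a5 a6 a7 a8
  generalize z.1.1 = u at *
  simp [dg, wy, mul_apply, Fin.sum_univ_three, -mul_eq_mul_left_iff,
    -mul_eq_mul_right_iff] at a1 a2 a3 a4 a5 a6 a7 a8
  refine ⟨u 0 0, ?_⟩
  ext i j; fin_cases i <;> fin_cases j <;> simp
  · exact mul_left_cancel₀ (sub_ne_zero.2 h2) (by linear_combination -a1)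
  · exact mul_left_cancel₀ (sub_ne_zero.2 h4) (by linear_combination -a2)
  · exact mul_left_cancel₀ (sub_ne_zero.2 h2) (by linear_combination a3)
  · exact a7
  · exact mul_left_cancel₀ (sub_ne_zero.2 h3) (by linear_combination -a4)
  · exact mul_left_cancel₀ (sub_ne_zero.2 h4) (by linear_combination a5)
  · exact mul_left_cancel₀ (sub_ne_zero.2 h3) (by linear_combination a6)
  · exact a8.trans a7

theorem j1_central {s : SU σ (Fin 2)} (h : j1 σ s ∈ center _) : s = 1 := by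
  obtain ⟨r, hr⟩ := center_scalar hσ h
  have h1 : r = 1 := by simpa [j1_val] using (congrFun (congrFun hr 2) 2).symm
  exact emb_inj _ (SU.ext (hr.trans (by rw [h1, one_smul, map_one]; rfl)))

theorem j2_central {s : SU σ (Fin 2)} (h : j2 σ s ∈ center _) : s = 1 := by
  obtain ⟨r, hr⟩ := center_scalar hσ h
  have h1 : r = 1 := by simpa [j2_val] using (congrFun (congrFun hr 0) 0).symm
  exact emb_inj _ (SU.ext (hr.trans (by rw [h1, one_smul, map_one]; rfl)))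

theorem cj {s : SU σ (Fin 2)} {z : SU σ (Fin 3)} (hz : z ∈ center _)
    (h : j2 σ s * j1 σ (wy σ) = z * (j1 σ (wy σ) * j2 σ s)) : s = 1 := by
  obtain ⟨r, hr⟩ := center_scalar hσ hz
  have e := fun i j => congrArg (fun y : SU σ (Fin 3) => y.1.1 i j) h
  have a1 := e 0 2
  have a2 := e 2 0
  have a3 := e 2 2
  have a4 := e 1 0
  have a5 := SU.det2 s
  simp [SU.mul_val, hr, j1_val, j2_val, wy, mul_apply, Fin.sum_univ_three] at a1 a2 a3 a4
  have h1 : s.1.1 1 1 ≠ 0 := fun h => by simp [h, a2] at a5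
  have h2 : r = 1 := by simpa [h1] using a3
  rw [h2] at a1 a4
  rw [a4, a2] at a5
  refine SU.ext ?_
  ext i j; fin_cases i <;> fin_cases j <;> simp at a1 a5 ⊢ <;> assumption

omit hσ [Finite F] in
/-- standard pairs -/
structure Std (θ : SU σ (Fin 3) →* G) (A B : Subgroup G) : Prop where
  ker : θ.ker ≤ center _
  left : (θ.comp (j1 σ)).range = A
  right : (θ.comp (j2 σ)).range = B

theorem loc {θ θ' : SU σ (Fin 3) →* G} {A B C : Subgroup G} (h : Std θ A B) (h' : Std θ' B C)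
    (hc : ∀ x ∈ A, ∀ y ∈ C, x * y = y * x) :
    ∃ θ'' : SU σ (Fin 3) →* G, Std θ'' B C ∧ θ''.range = θ'.range ∧
      ∀ s, θ'' (j1 σ s) = θ (j2 σ s) := by
  have i1 : Function.Injective (θ.comp (j2 σ)) :=
    (injective_iff_map_eq_one _).2 fun s hs => j2_central hσ (h.ker hs)
  have i2 : Function.Injective (θ'.comp (j1 σ)) :=
    (injective_iff_map_eq_one _).2 fun s hs => j1_central hσ (h'.ker hs)
  obtain ⟨α, hα⟩ : ∃ α : SU σ (Fin 2) ≃* SU σ (Fin 2), ∀ s, θ' (j1 σ (α s)) = θ (j2 σ s) :=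
    ⟨(MonoidHom.ofInjective i1).trans ((MulEquiv.subgroupCongr (h.right.trans h'.left.symm)).trans
      (MonoidHom.ofInjective i2).symm), fun s => MonoidHom.apply_ofInjective_symm i2 _⟩
  obtain ⟨x, h1, h2, h3⟩ := exists_delta hσ
  obtain ⟨m, hm⟩ : (j2 σ (dg h1))⁻¹ * j1 σ (α (dg h1)) * j2 σ (dg h1) * (j1 σ (α (dg h1)))⁻¹ ∈
      (j1 σ).range :=
    mul_mem (range_j1.ge (Blk.conj (j2_dg h1) (range_j1.le ⟨_, rfl⟩))) (inv_mem ⟨_, rfl⟩)
  obtain ⟨m, rfl⟩ := α.surjective m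
  have h4 : θ (j2 σ m) * θ (j1 σ (wy σ)) = θ (j1 σ (wy σ)) * θ (j2 σ m) := by
    obtain ⟨n, hn⟩ := range_j1.ge (Blk.conj (j2_dg h1) (range_j1.le ⟨wy σ, rfl⟩))
    have b1 := hc _ (h.left.le ⟨wy σ, rfl⟩) _ (h'.right.le ⟨dg h1, rfl⟩)
    have b2 := hc _ (h.left.le ⟨n, rfl⟩) _ (h'.right.le ⟨dg h1, rfl⟩)
    simp only [MonoidHom.comp_apply, hn, map_mul, map_inv] at b1 b2
    rw [← hα, hm]
    simp only [map_mul, map_inv, hα]
    generalize θ (j1 σ (wy σ)) = a at *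
    generalize θ (j2 σ (dg h1)) = t at *
    generalize θ' (j2 σ (dg h1)) = d at *
    calc _ = d⁻¹ * t * (d * (t⁻¹ * a * t)) * t⁻¹ := by group
      _ = d⁻¹ * (a * d) * d⁻¹ * t * d * t⁻¹ := by rw [← b2]; group
      _ = _ := by rw [b1]; group
  obtain rfl : m = 1 := cj hσ (h.ker (x := j2 σ m * j1 σ (wy σ) * (j1 σ (wy σ) * j2 σ m)⁻¹)
    (by rw [MonoidHom.mem_ker, map_mul, map_inv, map_mul, map_mul, h4, mul_inv_cancel])) (by group)
  rw [map_one, map_one, eq_mul_inv_iff_mul_eq, one_mul, mul_assoc, eq_inv_mul_iff_mul_eq] at hm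
  have a1 := congrArg (fun y : SU σ (Fin 3) => y.1.1 0 1) hm
  have a2 := congrArg (fun y : SU σ (Fin 3) => y.1.1 1 0) hm
  simp only [SU.mul_val, j1_val, j2_val] at a1 a2
  have a3 : (α (dg h1)).1.1 0 1 = 0 ∧ (α (dg h1)).1.1 1 0 = 0 := by
    generalize (α (dg h1)).1.1 = u at *
    simp [dg, mul_apply, Fin.sum_univ_three] at a1 a2
    exact ⟨mul_left_cancel₀ (sub_ne_zero.2 h2) (by linear_combination -a1),
      mul_left_cancel₀ (sub_ne_zero.2 h2) (by linear_combination a2)⟩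
  obtain ⟨ρ, d, hρ, hd, h5⟩ := aut_SU2_diag hσ α h1 h3 a3.1 a3.2
  have hd' : ∀ i : Fin 3, σ (![d 0, d 1, 1] i) * ![d 0, d 1, 1] i = 1 := fun i => by
    fin_cases i <;> simp [hd]
  have hβ := Finite.injective_iff_surjective.1 (dmap_inj hσ hρ hd')
  have h6 : ∀ s, θ' (dmap hσ hρ hd' (j1 σ s)) = θ (j2 σ s) := fun s => by
    rw [← hα, j1, dmap_emb]
    congr 2
    refine SU.ext ?_
    ext i j
    rw [dmap_apply, h5]
    fin_cases i <;> fin_cases j <;> rfl
  refine ⟨θ'.comp (dmap hσ hρ hd'), ⟨fun g hg => mem_center_iff.2 fun k => dmap_inj hσ hρ hd' ?_,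
    h.right ▸ congrArg _ (MonoidHom.ext h6), ?_⟩, ?_, h6⟩
  · rw [map_mul, map_mul]; exact mem_center_iff.1 (h'.ker hg) _
  · rw [← h'.right]
    refine le_antisymm ?_ ?_
    · rintro _ ⟨s, rfl⟩
      exact ⟨_, congrArg θ' (dmap_emb hσ hρ hd' _ s).symm⟩
    · rintro _ ⟨s, rfl⟩
      obtain ⟨s, rfl⟩ := Finite.injective_iff_surjective.1
        (dmap_inj hσ hρ fun i => hd' (Fin.succEmb 2 i)) s
      exact ⟨s, congrArg θ' (dmap_emb hσ hρ hd' _ s)⟩
  · rw [MonoidHom.range_comp, MonoidHom.range_eq_top.2 hβ, ← MonoidHom.range_eq_map]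

end Cfsg.Agent.Phan
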