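import Mathlib
import Cfsg.Prelude.Def_PhanSystems
import Cfsg.Agent.Phan.Ext
import Cfsg.Agent.Phan.Loc

/-!
Phan's theorem for the unitary groups, `q > 3`.
-/

set_option autoImplicit false
set_option backward.isDefEq.respectTransparency false

namespace Cfsg.Agent.Phan

open Matrix Herm Subgroup

variable {F : Type*} [Field F] {σ : F →+* F} {ι κ : Type*} [Fintype ι] [DecidableEq ι]
  [Fintype κ] [DecidableEq κ] {G : Type*} [Group G]

theorem Blk.of_emb {f : κ ↪ ι} {T : Set ι} {S : Set κ} {y : SU σ κ} (h : emb σ f y ∈ Blk σ T)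
    (hS : ∀ k, f k ∈ T → k ∈ S) : y ∈ Blk σ S := mem_Blk fun k hk i => by
  rw [← embM_apply f y.1.1, ← emb_val, Blk.col h fun h => hk (hS k h)]
  simp [one_apply]

theorem emb_id {f : ι ↪ ι} (h : ∀ i, f i = i) (s : SU σ ι) : emb σ f s = s :=
  SU.ext (embM_ext (fun i j => by rw [h, h]) fun i hi => absurd ⟨i, h i⟩ hi)

theorem rgc (n : ℕ) : Set.range (Fin.castSuccEmb : Fin n ↪ Fin (n + 1)) = {Fin.last n}ᶜ := by
  ext i
  simp [Fin.lt_last_iff_ne_last.symm, Fin.lt_def]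

theorem rg3 (f : Fin 3 ↪ ι) : Set.range f = {f 0, f 1, f 2} := by
  ext i; simp [Fin.exists_fin_succ, eq_comm]

theorem mem_j2 (f : Fin 3 ↪ ι) {s : SU σ ι} (hs : s ∈ Blk σ {f 1, f 2}) :
    ∃ t, emb σ f (j2 σ t) = s := by
  obtain ⟨t, rfl⟩ := (range_emb f).ge (Blk.mono (by rw [rg3]; exact Set.subset_insert _ _) hs)
  obtain ⟨t, rfl⟩ := range_j2.ge (Blk.of_emb hs (by simp))
  exact ⟨t, rfl⟩

variable [Finite F] (hσ : Inv σ) {q : ℕ} (hF : Nat.card F = q ^ 2) (hq : 3 < q)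
include hσ hF hq

theorem range_le {k : ℕ} {ψ : SU σ (Fin (k + 3)) →* G} {K : Subgroup G}
    (h1 : (ψ.comp (emb σ Fin.castSuccEmb)).range ≤ K)
    (h2 : ((ψ.comp (emb σ (Fin.natAddEmb k))).comp (j2 σ)).range ≤ K) : ψ.range ≤ K := by
  rw [MonoidHom.range_eq_map, map_le_iff_le_comap, top_le_iff]
  refine gen hσ hF hq (a := Fin.natAddEmb k 0) (b := Fin.natAddEmb k 1) (c := Fin.natAddEmb k 2)
    (by simp) (by simp) (by simp) (fun x hx => ?_) fun x hx => ?_
  · obtain ⟨x, rfl⟩ := (range_emb Fin.castSuccEmb).ge (by rwa [rgc])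
    exact h1 ⟨x, rfl⟩
  · obtain ⟨x, rfl⟩ := mem_j2 _ hx
    exact h2 ⟨x, rfl⟩

theorem Std.range_le {θ : SU σ (Fin 3) →* G} {A B : Subgroup G} (h : Std θ A B) :
    θ.range ≤ A ⊔ B :=
  Phan.range_le hσ hF hq (k := 0) (h.left.le.trans le_sup_left) (by
    rintro _ ⟨s, rfl⟩
    refine mem_sup_right (h.right.le ⟨s, congrArg θ (emb_id (fun i => ?_) _).symm⟩)
    exact Fin.ext (Nat.zero_add _))

theorem path {n : ℕ} {U : ℕ → Subgroup G}
    (hc : ∀ i j, i + 2 ≤ j → j < n → ∀ x ∈ U i, ∀ y ∈ U j, x * y = y * x)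
    (hs : ∀ i, i + 1 < n → ∃ θ : SU σ (Fin 3) →* G, Std θ (U i) (U (i + 1))) (k : ℕ)
    (hk : k + 2 ≤ n) : ∃ ψ : SU σ (Fin (k + 3)) →* G, (∀ i < k + 2, U i ≤ ψ.range) ∧
      (ψ.comp (emb σ Fin.castSuccEmb)).range ≤ ⨆ i < k + 1, U i ∧
      Std (ψ.comp (emb σ (Fin.natAddEmb k))) (U k) (U (k + 1)) := by
  induction k with
  | zero =>
    obtain ⟨θ, h⟩ := hs 0 hk
    refine ⟨θ, fun i hi => ?_, h.left.le.trans (le_iSup₂_of_le 0 one_pos le_rfl), ?_⟩
    · interval_cases i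
      · rw [← h.left]; rintro _ ⟨s, rfl⟩; exact ⟨_, rfl⟩
      · rw [← h.right]; rintro _ ⟨s, rfl⟩; exact ⟨_, rfl⟩
    · convert h
      exact MonoidHom.ext fun s => congrArg θ (emb_id (fun i => Fin.ext (Nat.zero_add _)) s)
  | succ k ih =>
    obtain ⟨ψ, h1, h2, h3⟩ := ih (by omega)
    obtain ⟨θ', h4⟩ := hs (k + 1) hk
    obtain ⟨θ, h5, -, h6⟩ := loc hσ h3 h4 (hc _ _ le_rfl hk)
    let f : Fin 3 ↪ Fin (k + 3 + 1) := Fin.natAddEmb (k + 1)
    have hl : f 2 = Fin.last _ := rfl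
    obtain ⟨φ, h7, h8⟩ := glue (emb_inj (σ := σ) Fin.castSuccEmb) (emb_inj f) (ψ := ψ) (χ := θ)
      fun x y h => by
        obtain ⟨s, rfl⟩ := range_j1.ge (Blk.of_emb (S := {0, 1}) (h ▸ emb_mem _ x) fun i hi => by
          rw [rgc, ← hl] at hi
          fin_cases i <;> simp at hi ⊢)
        rw [h6, MonoidHom.comp_apply]
        refine congrArg ψ (emb_inj Fin.castSuccEmb ?_)
        rw [h, j1, j2, emb_emb, emb_emb, emb_emb]
        congr 2
        ext i; simp [f]; omega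
    have hab : f 0 ≠ f 1 := by simp
    have h0 : ∀ i, (0 : Fin (k + 3 + 1)) ≠ f i := fun i h => by
      have : 0 = k + 1 + i.1 := congrArg Fin.val h
      omega
    obtain ⟨χ, h9, h10⟩ := ext_hom hσ (T := {f 0, f 1, f 2}) hab (c := f 2) (by simp) (by simp)
      (by simp) (by simp) (by simp) (φ := φ)
      (by rw [hl, ← rgc, ← range_emb]; exact mulOn_range _ _ h7)
      (by rw [← rg3, ← range_emb]; exact mulOn_range _ _ h8)
      (fun x hx s hs => by
        obtain ⟨s, rfl⟩ := mem_j2 _ hs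
        obtain ⟨x, rfl⟩ := (range_emb Fin.castSuccEmb).ge
          (by rw [rgc, ← hl]; exact Blk.mono (by simp) hx)
        obtain ⟨x, rfl⟩ := (range_emb Fin.castSuccEmb).ge (Blk.of_emb hx fun i hi => by
          rw [rgc]; rintro rfl; exact hi (.inl rfl))
        rw [h7, h8]
        have : ⨆ i < k + 1, U i ≤ centralizer (U (k + 2)) :=
          iSup₂_le fun i hi x hx y hy => (hc i (k + 2) (by omega) hk x hx y hy).symm
        exact (this (h2 ⟨x, rfl⟩) _ (h5.right.le ⟨s, rfl⟩)).symm)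
      (fun p r s => geo hσ (h0 0).symm hab (by simp) (h0 1) (h0 2) (by simp) hF hq)
      (fun u v => by
        obtain ⟨y, b1, b2⟩ := exists_nb hσ hF hq (h0 0) u v
        exact ⟨y, fun i hi => b1 i (by rcases hi with rfl | rfl <;> simp [(h0 _).symm]), b2⟩)
      fun u => by
        obtain ⟨y, b1, b2, b3, -⟩ := exists_nb hσ hF hq hab u u
        exact ⟨y, fun i hi => b1 i fun h => hi (by rcases h with rfl | rfl <;> simp), b2, b3⟩
    have e1 : χ.comp (emb σ Fin.castSuccEmb) = ψ := MonoidHom.ext fun x =>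
      (h9 _ (by rw [hl, ← rgc]; exact emb_mem _ x)).trans (h7 x)
    have e2 : χ.comp (emb σ f) = θ := MonoidHom.ext fun x =>
      (h10 _ (by rw [← rg3]; exact emb_mem _ x)).trans (h8 x)
    refine ⟨χ, fun i hi => ?_, e1.symm ▸ range_le hσ hF hq (h2.trans (biSup_mono fun i hi => ?_))
      (h3.right.le.trans (le_iSup₂_of_le (k + 1) (by omega) le_rfl)), e2.symm ▸ h5⟩
    · rcases Nat.lt_succ_iff_lt_or_eq.1 hi with hi | rfl
      · refine (h1 i hi).trans ?_
        rw [← e1]; rintro _ ⟨s, rfl⟩; exact ⟨_, rfl⟩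
      · rw [← h5.right, ← e2]; rintro _ ⟨s, rfl⟩; exact ⟨_, rfl⟩
    · omega

omit hσ hq

theorem SU_eq (n : ℕ) : Cfsg.SU n F q = SU (frob hF) (Fin n) := by
  ext g
  refine Iff.trans ?_ ((inv_frob hF).isom_iff g.1)
  simp only [← hermForm_eq hF]
  exact ⟨fun h u v => h v u, fun h u v => h v u⟩

/-- the identification with the matrix group of the prelude -/
def toSU (n : ℕ) : SU (frob hF) (Fin n) ≃* Cfsg.SU n F q := MulEquiv.subgroupCongr (SU_eq hF n).symm

theorem map_toSU {n : ℕ} (T : Set (Fin n)) :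
    (Blk (frob hF) T).map (toSU hF n).toMonoidHom = suBlock n F q T := by
  rw [suBlock, ← closure_eq (Subgroup.map _ _)]
  congr 1
  ext g
  obtain ⟨g, rfl⟩ := (toSU hF n).surjective g
  refine ⟨fun ⟨x, hx, e⟩ k hk => ?_, fun h => ⟨g, mem_Blk fun k hk i => ?_, rfl⟩⟩
  · obtain rfl := (toSU hF n).injective e
    exact ⟨(Blk.col hx hk k).trans (one_apply_eq k), fun l hl =>
      ⟨(Blk.row hx hk l).trans (one_apply_ne hl.symm), (Blk.col hx hk l).trans (one_apply_ne hl)⟩⟩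
  · rcases eq_or_ne i k with rfl | hi
    · exact (h i hk).1.trans (one_apply_eq i).symm
    · exact ((h k hk).2 i hi).2.trans (one_apply_ne hi).symm

theorem std_of_pair {V A B : Subgroup G} (h : IsStandardUnitaryPair V A B F q) :
    ∃ θ : SU (frob hF) (Fin 3) →* G, Std θ A B ∧ θ.range = V := by
  have key : ∀ χ : Cfsg.SU 3 F q →* V, Function.Surjective χ → χ.ker ≤ center _ →
      (suBlock 3 F q {0, 1}).map (V.subtype.comp χ) = A →
      (suBlock 3 F q {1, 2}).map (V.subtype.comp χ) = B →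
      ∃ θ : SU (frob hF) (Fin 3) →* G, Std θ A B ∧ θ.range = V := fun χ h1 h2 h3 h4 => by
    refine ⟨(V.subtype.comp χ).comp (toSU hF 3).toMonoidHom, ⟨fun g hg => ?_, ?_, ?_⟩, ?_⟩
    · refine mem_center_iff.2 fun k => (toSU hF 3).injective ?_
      rw [map_mul, map_mul]
      exact mem_center_iff.1 (h2 (Subtype.ext hg)) _
    · rw [MonoidHom.range_comp, range_j1, ← Subgroup.map_map, map_toSU, h3]
    · rw [MonoidHom.range_comp, range_j2, ← Subgroup.map_map, map_toSU, h4]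
    · rw [MonoidHom.range_comp, MonoidHom.range_eq_top.2 (toSU hF 3).surjective,
        ← Subgroup.map_map, Subgroup.map_top_of_surjective _ h1, ← MonoidHom.range_eq_map,
        range_subtype]
  rcases h with ⟨ψ, h1, h2⟩ | ⟨ψ, h1, h2⟩
  · exact key _ ψ.surjective (fun g hg => by
      rw [(map_eq_one_iff _ ψ.injective).1 hg]; exact one_mem _) h1 h2
  · exact key (ψ.toMonoidHom.comp (QuotientGroup.mk' _))
      (ψ.surjective.comp (QuotientGroup.mk'_surjective _)) (fun g hg =>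
      (QuotientGroup.eq_one_iff g).1 ((map_eq_one_iff _ ψ.injective).1 hg)) h1 h2

theorem phan (hq : 3 < q) {n : ℕ} (hn : 2 ≤ n) {U : Fin n → Subgroup G}
    (hc : ∀ i j : Fin n, (i : ℕ) + 2 ≤ j → ∀ x ∈ U i, ∀ y ∈ U j, x * y = y * x)
    (hs : ∀ i j : Fin n, (i : ℕ) + 1 = j → ∃ θ : SU (frob hF) (Fin 3) →* G, Std θ (U i) (U j))
    (hgen : ⨆ i, U i = ⊤) : ∃ f : Cfsg.SU (n + 1) F q →* G, Function.Surjective f := by
  obtain ⟨k, rfl⟩ : ∃ k, n = k + 2 := ⟨n - 2, by omega⟩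
  obtain ⟨ψ, h, -⟩ := path (inv_frob hF) hF hq (n := k + 2)
    (U := fun i => if h : i < k + 2 then U ⟨i, h⟩ else ⊥)
    (fun i j h1 h2 => by
      rw [dif_pos h2, dif_pos (by omega)]; exact hc _ _ h1)
    (fun i h => by rw [dif_pos h, dif_pos (by omega)]; exact hs _ _ rfl) k le_rfl
  refine ⟨ψ.comp (toSU hF _).symm.toMonoidHom, Function.Surjective.comp (g := ψ)
    (MonoidHom.range_eq_top.1 (eq_top_iff.2 (hgen.ge.trans (iSup_le fun i => ?_))))
    (toSU hF _).symm.surjective⟩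
  simpa using h i i.2

end Cfsg.Agent.Phan
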