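import Mathlib
import Cfsg.Agent.Phan.Path

/-!
Subgroups `SU₂(q)` of `SU₃(q)` fix a non-isotropic vector.
-/

set_option autoImplicit false
set_option backward.isDefEq.respectTransparency false

namespace Cfsg.Agent.Phan

open Matrix Herm Subgroup Module

variable {F : Type*} [Field F] {σ : F →+* F} {G : Type*} [Group G]

theorem SU.b_inv {ι : Type*} [Fintype ι] [DecidableEq ι] {g : SU σ ι} (hg : g * g = 1)
    (u v : ι → F) : stdB σ ι (g • u) v = stdB σ ι u (g • v) := by
  rw [← SU.b_smul g, ← mul_smul, hg, one_smul]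

theorem eq_one_of_pow {ι : Type*} [Fintype ι] [DecidableEq ι] {p : ℕ} [Fact p.Prime] [CharP F p]
    {g : SU σ ι} (hg : g ^ p = 1) {v : ι → F} {c : F} (h : g • v = c • v) : g • v = v := by
  have : ∀ n : ℕ, g ^ n • v = c ^ n • v := fun n => by
    induction n with
    | zero => simp
    | succ n ih => rw [pow_succ, mul_smul, h, SU.smul_c, ih, smul_smul, pow_succ']
  have h1 := this p
  rw [hg, one_smul, eq_comm, ← sub_eq_zero] at h1
  nth_rewrite 2 [← one_smul F v] at h1
  rw [← sub_smul, ← one_pow p, ← sub_pow_char, smul_eq_zero] at h1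
  rcases h1 with h1 | rfl
  · rw [h, sub_eq_zero.1 (pow_eq_zero_iff (Fact.out : p.Prime).ne_zero |>.1 h1), one_smul]
  · simp

variable (hσ : Inv σ)
include hσ

theorem witt1 {x y : Fin 3 → F} (h0 : x ≠ 0) (hx : stdB σ _ x x = 0) (hy : stdB σ _ y y = 0)
    (h : stdB σ _ x y = 0) : ∃ a : F, a • x = y := by
  by_contra! H
  have h1 := (LinearIndependent.pair_iff' h0).2 H
  have h2 := (hσ.hf_stdB (Fin 3)).two_mul_finrank_le (W := Submodule.span F (Set.range ![x, y]))
    (iso_iff_le_perp.2 (Submodule.span_le.2 fun w hw => mem_perp_span.2 fun u hu => by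
      obtain ⟨i, rfl⟩ := hw
      obtain ⟨j, rfl⟩ := hu
      fin_cases i <;> fin_cases j <;> simp [hx, hy, h, (hσ.hf_stdB _).zero_symm h]))
  rw [finrank_span_eq_card h1] at h2
  simp at h2

theorem fix_two [CharP F 2] {X Y : Set (SU σ (Fin 3))} (hX : ∀ t ∈ X, t * t = 1)
    (hY : ∀ t ∈ Y, t * t = 1) (cX : ∀ s ∈ X, ∀ t ∈ X, s * t = t * s)
    (cY : ∀ s ∈ Y, ∀ t ∈ Y, s * t = t * s) {x y : SU σ (Fin 3)} (hx : x ∈ X) (hy : y ∈ Y)
    (h : x * y ≠ y * x) :
    ∃ v : Fin 3 → F, stdB σ _ v v ≠ 0 ∧ (∀ t ∈ X, t • v = v) ∧ ∀ t ∈ Y, t • v = v := by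
  have k0 : ∀ t : SU σ (Fin 3), t ≠ 1 → ∃ w : Fin 3 → F, t • w - w ≠ 0 := fun t ht => by
    by_contra! H
    exact ht (SU.ext' fun k => by rw [one_smul, sub_eq_zero.1 (H _)])
  have k1 : ∀ t : SU σ (Fin 3), t * t = 1 → ∀ u w : Fin 3 → F,
      stdB σ _ (t • u - u) (t • w - w) = 0 := fun t ht u w => by
    simp only [map_sub, LinearMap.sub_apply, SU.b_inv ht, ← mul_smul, ht, one_smul]
    linear_combination (stdB σ _ u w - stdB σ _ u (t • w)) * CharTwo.two_eq_zero (R := F)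
  have k2 : ∀ s t : SU σ (Fin 3), s * s = 1 → t * t = 1 → s * t = t * s → ∀ w v : Fin 3 → F,
      s • w - w ≠ 0 → stdB σ _ (s • w - w) v = 0 → t • v = v := fun s t hs ht hc w v h1 h2 => by
    refine sub_eq_zero.1 ((hσ.hf_stdB _).nd' _ fun u => ?_)
    have h3 : s • (t • u - u) = t • u - u := by
      by_cases h0 : t • u - u = 0
      · rw [h0, smul_zero]
      have h4 : s • (t • u - u) = t • s • u - s • u := by rw [smul_sub, ← mul_smul, hc, mul_smul]
      obtain ⟨a, ha⟩ := witt1 hσ h0 (k1 t ht u u) (k1 t ht (s • u) (s • u)) (k1 t ht _ _)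
      exact eq_one_of_pow (p := 2) (by rw [sq, hs]) (h4.trans ha.symm)
    obtain ⟨a, ha⟩ := witt1 hσ h1 (k1 s hs w w) (k1 t ht u u)
      (by rw [b_sub_left, SU.b_inv hs, h3, sub_self])
    rw [map_sub, ← SU.b_inv ht, ← b_sub_left, ← ha, b_smul_left, h2, mul_zero]
  obtain ⟨w, hw⟩ := k0 x (by rintro rfl; simp at h)
  obtain ⟨w', hw'⟩ := k0 y (by rintro rfl; simp at h)
  obtain ⟨v, hv, h0⟩ := Submodule.exists_mem_ne_zero_of_ne_bot (LinearMap.ker_ne_bot_of_finrank_lt
    (f := (stdB σ _ (x • w - w)).prod (stdB σ _ (y • w' - w'))) (by simp))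
  obtain ⟨h1, h2⟩ := Prod.mk_eq_zero.1 (LinearMap.mem_ker.1 hv)
  have f1 := fun t ht => k2 x t (hX x hx) (hX t ht) (cX x hx t ht) w v hw h1
  have f2 := fun t ht => k2 y t (hY y hy) (hY t ht) (cY y hy t ht) w' v hw' h2
  refine ⟨v, fun h3 => h (SU.ext' fun k => ?_), f1, f2⟩
  have k3 : ∀ s t : SU σ (Fin 3), t * t = 1 → s • v = v → t • v = v → ∀ u : Fin 3 → F,
      s • t • u = s • u + t • u - u := fun s t ht hs htv u => by
    obtain ⟨a, ha⟩ := witt1 hσ h0 h3 (k1 t ht u u) (by rw [map_sub, ← SU.b_inv ht, htv, sub_self])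
    have : s • (t • u - u) = t • u - u := by rw [← ha, SU.smul_c, hs]
    rw [smul_sub] at this
    linear_combination this
  rw [mul_smul, mul_smul, k3 x y (hY y hy) (f1 x hx) (f2 y hy), k3 y x (hX x hx) (f2 y hy) (f1 x hx),
    add_comm]

variable [Finite F]

theorem exists_unit {ι : Type*} [Fintype ι] {v : ι → F} (h : stdB σ ι v v ≠ 0) :
    ∃ a : F, stdB σ ι (a • v) (a • v) = 1 :=
  (hσ.hf_stdB ι).exists_smul_norm h (map_one σ)

omit hσ [Finite F] in
theorem mem_j1 {g : SU σ (Fin 3)} (h : g • (Pi.single 2 1 : Fin 3 → F) = Pi.single 2 1) :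
    g ∈ (j1 σ).range := by
  rw [j1, range_emb, rgc]; exact mem_stab.2 h

omit hσ [Finite F] in
theorem mem_j2' {g : SU σ (Fin 3)} (h : g • (Pi.single 0 1 : Fin 3 → F) = Pi.single 0 1) :
    g ∈ (j2 σ).range := by
  rw [j2, range_emb, Fin.coe_succEmb, Fin.range_succ]; exact mem_stab.2 h

theorem fix_line {g : SU σ (Fin 3)} {n : ℕ} (hn : (n : F) ≠ 0) (hg : g ^ n = 1) (h1 : g ≠ 1)
    {v w : Fin 3 → F} (hv : stdB σ _ v v = 1) (h2 : g • v = v) (h3 : g • w = w) :
    ∃ a : F, w = a • v := by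
  obtain ⟨k, hk⟩ := SU_trans hσ (u := v) (v := Pi.single 2 1) (by simp [hv]) (by rw [hv, b_ee])
  obtain ⟨m, hm⟩ := mem_j1 (g := k * g * k⁻¹) (by rw [← hk, mul_smul, inv_smul_smul, mul_smul, h2])
  have h4 : j1 σ m • k • w = k • w := by rw [hm, mul_smul, inv_smul_smul, mul_smul, h3]
  have h5 : m ^ n = 1 := emb_inj _ (show j1 σ _ = j1 σ _ by rw [map_pow, hm, conj_pow, hg]; simp)
  by_cases h6 : (k • w) 0 = 0 ∧ (k • w) 1 = 0
  · refine ⟨(k • w) 2, MulAction.injective k ?_⟩
    simp only [SU.smul_c, hk]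
    ext i; fin_cases i <;> simp [h6]
  exfalso
  have a1 := congrFun h4 0
  have a2 := congrFun h4 1
  have a3 := SU.det2 m
  rw [SU.smul_def, j1_val] at a1 a2
  generalize k • w = u at *
  simp [mulVec, dotProduct, Fin.sum_univ_three] at a1 a2
  have h7 : m.1.1 0 0 + m.1.1 1 1 = 2 := by
    by_contra h
    exact h6 ⟨mul_left_cancel₀ (sub_ne_zero.2 h) (by
      linear_combination (1 - m.1.1 1 1) * a1 + m.1.1 0 1 * a2 + u 0 * a3),
      mul_left_cancel₀ (sub_ne_zero.2 h) (by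
      linear_combination (1 - m.1.1 0 0) * a2 + m.1.1 1 0 * a1 + u 1 * a3)⟩
  have h8 : (m.1.1 - 1) * (m.1.1 - 1) = 0 := by
    ext i j; fin_cases i <;> fin_cases j <;> simp [mul_apply]
    · linear_combination m.1.1 0 0 * h7 - a3
    · linear_combination m.1.1 0 1 * h7
    · linear_combination m.1.1 1 0 * h7
    · linear_combination m.1.1 1 1 * h7 - a3
  have h9 : ∀ i : ℕ, (m ^ i).1.1 = 1 + (i : F) • (m.1.1 - 1) := fun i => by
    induction i with
    | zero => simp
    | succ i ih =>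
      rw [pow_succ, SU.mul_val, ih, ← sub_add_cancel m.1.1 1]
      generalize m.1.1 - 1 = N at h8
      simp [mul_add, add_mul, h8, add_smul]
      abel
  have h10 := h9 n
  rw [h5] at h10
  have h11 : m = 1 := SU.ext (sub_eq_zero.1 ((smul_eq_zero.1 (left_eq_add.1 h10)).resolve_left hn))
  rw [h11, map_one, eq_comm, conj_eq_one_iff] at hm
  exact h1 hm

theorem exists_fix {e : SU σ (Fin 2) →* SU σ (Fin 3)} (he : Function.Injective e) :
    ∃ v : Fin 3 → F, stdB σ _ v v = 1 ∧ ∀ s, e s • v = v := by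
  obtain ⟨p, hp⟩ := CharP.exists F
  have : Fact p.Prime := ⟨CharP.char_is_prime F p⟩
  obtain ⟨-, E, -⟩ := exists_SL2 hσ
  have h1 : ∀ {i j : Fin 2} (h : i ≠ j) c, e (E (SpecialLinearGroup.transvection h c)) ^ p = 1 :=
    fun h c => by rw [← map_pow, ← map_pow, tv_pow]; simp
  suffices ∃ v : Fin 3 → F, stdB σ _ v v ≠ 0 ∧ ∀ {i j : Fin 2} (h : i ≠ j) c,
      e (E (SpecialLinearGroup.transvection h c)) • v = v by
    obtain ⟨v, hv, h⟩ := this
    obtain ⟨a, ha⟩ := exists_unit hσ hv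
    refine ⟨_, ha, fun s => ?_⟩
    obtain ⟨s, rfl⟩ := E.surjective s
    rw [SU.smul_c]
    exact congrArg _ ((Classical.SLBasic.eq_top_of_transvection_mem
      ((MulAction.stabilizer _ v).comap (e.comp E.toMonoidHom)) fun i j hij c => h hij c).ge
      (mem_top s))
  by_cases h2 : (2 : F) = 0
  · have := CharTwo.of_one_ne_zero_of_two_eq_zero one_ne_zero h2
    obtain rfl := CharP.eq F hp this
    have h3 : ∀ {i j : Fin 2} (h : i ≠ j) (c d : fixF σ), SpecialLinearGroup.transvection h c *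
        SpecialLinearGroup.transvection h d = SpecialLinearGroup.transvection h d *
        SpecialLinearGroup.transvection h c := fun h c d => Subtype.ext (by
      change Matrix.transvection _ _ _ * Matrix.transvection _ _ _ =
        Matrix.transvection _ _ _ * Matrix.transvection _ _ _
      rw [transvection_mul_transvection_same _ _ h, transvection_mul_transvection_same _ _ h,
        add_comm])
    obtain ⟨v, hv, h4, h5⟩ := fix_two hσ
      (X := Set.range fun c => e (E (SpecialLinearGroup.transvection Fin.zero_ne_one c)))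
      (Y := Set.range fun c => e (E (SpecialLinearGroup.transvection Fin.zero_ne_one.symm c)))
      (by rintro _ ⟨c, rfl⟩; exact (sq _).symm.trans (h1 _ _))
      (by rintro _ ⟨c, rfl⟩; exact (sq _).symm.trans (h1 _ _))
      (by rintro _ ⟨c, rfl⟩ _ ⟨d, rfl⟩; simp only [← map_mul, h3 _ c])
      (by rintro _ ⟨c, rfl⟩ _ ⟨d, rfl⟩; simp only [← map_mul, h3 _ c]) ⟨1, rfl⟩ ⟨1, rfl⟩ fun h => by
        simp only [← map_mul] at h
        simpa [SpecialLinearGroup.transvection_coe, mul_apply] using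
          congrArg (fun A => A.1 0 0) (E.injective (he h))
    refine ⟨v, hv, fun {i j} h c => ?_⟩
    fin_cases i <;> fin_cases j
    exacts [absurd rfl h, h4 _ ⟨c, rfl⟩, h5 _ ⟨c, rfl⟩, absurd rfl h]
  have h3 : σ (-1) * -1 = 1 := by simp
  have h4 : ∀ s, dg h3 * s = s * dg h3 := fun s => SU.ext (by
    ext i j; fin_cases i <;> fin_cases j <;> simp [SU.mul_val, dg, mul_apply])
  have h5 : dg h3 * dg h3 = 1 := SU.ext (by
    ext i j; fin_cases i <;> fin_cases j <;> simp [SU.mul_val, dg, mul_apply])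
  have h6 : e (dg h3) ≠ 1 := fun h => h2 (by
    have := congrArg (fun A => A.1.1 0 0) ((map_eq_one_iff _ he).1 h)
    simp [dg] at this
    linear_combination -this)
  replace h5 : e (dg h3) * e (dg h3) = 1 := by rw [← map_mul, h5, map_one]
  replace h4 : ∀ s, e (dg h3) * e s = e s * e (dg h3) := fun s => by rw [← map_mul, h4, map_mul]
  generalize e (dg h3) = z at *
  obtain ⟨x, hx⟩ : ∃ x : Fin 3 → F, stdB σ _ x (x + z • x) ≠ 0 := by
    by_contra! H
    obtain ⟨θ, hθ⟩ := hσ.ne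
    have h7 : 1 + z.1.1 = 0 := toLin'.map_eq_zero_iff.1 (LinearMap.ext fun y =>
      (hσ.hf_stdB _).nd' _ fun x => zero_of_self (B := (stdB σ _).compl₂ (toLin' (1 + z.1.1))) hθ
        (fun v => by simpa [add_mulVec, SU.smul_def] using H v) x y)
    have h8 := z.1.2
    rw [eq_neg_of_add_eq_zero_right h7, det_neg] at h8
    simp at h8
    exact h2 (by linear_combination -h8)
  have h7 : z • (x + z • x) = x + z • x := by rw [smul_add, ← mul_smul, h5, one_smul, add_comm]
  have h8 : stdB σ _ (x + z • x) (x + z • x) ≠ 0 := by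
    rw [b_add_left, SU.b_inv h5, h7, ← two_mul]; exact mul_ne_zero h2 hx
  obtain ⟨a, ha⟩ := exists_unit hσ h8
  have h9 : z • a • (x + z • x) = a • (x + z • x) := by rw [SU.smul_c, h7]
  refine ⟨a • (x + z • x), by simp only [ha]; simp, fun h c => ?_⟩
  obtain ⟨b, hb⟩ := fix_line hσ (n := 2) (by simpa using h2) (by rw [sq, h5]) h6 ha h9
    (w := e (E (SpecialLinearGroup.transvection h c)) • a • (x + z • x))
    (by rw [← mul_smul, h4, mul_smul, h9])
  exact eq_one_of_pow (h1 h c) hb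

theorem exists_conj {e e' : SU σ (Fin 2) →* SU σ (Fin 3)} (he : Function.Injective e)
    (he' : Function.Injective e') (h : e.range ⊔ e'.range = ⊤) {d d' : SU σ (Fin 2)} {n : ℕ}
    (hn : (n : F) ≠ 0) (h1 : d ^ n = 1) (h2 : d ≠ 1) (hc : e d * e' d' = e' d' * e d)
    (h1' : d' ^ n = 1) (h2' : d' ≠ 1) :
    ∃ k : SU σ (Fin 3), (∀ s, k * e s * k⁻¹ ∈ (j1 σ).range) ∧ ∀ s, k * e' s * k⁻¹ ∈ (j2 σ).range := by
  obtain ⟨v, hv, h3⟩ := exists_fix hσ he
  obtain ⟨w, hw, h4⟩ := exists_fix hσ he'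
  have h5 : stdB σ _ v w = 0 := by
    obtain ⟨a, ha⟩ := fix_line hσ hn (by rw [← map_pow, h1', map_one])
      (by rwa [Ne, map_eq_one_iff _ he']) hw (h4 d') (w := e d • w)
      (by rw [← mul_smul, ← hc, mul_smul, h4])
    by_contra h0
    have h5 := SU.b_smul (e d) v w
    rw [h3, ha, map_smul, smul_eq_mul, mul_eq_right₀ h0] at h5
    rw [h5, one_smul] at ha
    obtain ⟨b, rfl⟩ := fix_line hσ hn (by rw [← map_pow, h1, map_one])
      (by rwa [Ne, map_eq_one_iff _ he]) hv (h3 d) ha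
    obtain ⟨x, a1, a2, -⟩ := exists_delta hσ
    obtain ⟨g, hg⟩ := SU_trans hσ (u := b • v) (v := x • b • v) (by rw [hw]; simp)
      (by rw [b_smul_left _ x, map_smul _ x, hw, smul_eq_mul, mul_one, a1])
    have h6 : g • b • v = b • v := (show _ ≤ MulAction.stabilizer _ (b • v) from h.ge.trans
      (sup_le (by rintro _ ⟨s, rfl⟩; exact (SU.smul_c _ _ _).trans (congrArg _ (h3 s)))
        (by rintro _ ⟨s, rfl⟩; exact h4 s))) (mem_top g)
    have h7 := congrArg (stdB σ _ (b • v)) (h6.symm.trans hg)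
    rw [map_smul _ x, hw, smul_eq_mul, mul_one] at h7
    exact a2 h7.symm
  obtain ⟨k, h6, h7⟩ := exists_norm2 hσ (a := 1) (b := 0) (c := 2) (by decide) (by decide)
    (by decide) hv hw (by simp [nn, h5])
  refine ⟨k, fun s => mem_j1 (by rw [← h6, mul_smul, inv_smul_smul, mul_smul, h3]),
    fun s => mem_j2' ?_⟩
  rw [← SU.b_smul k, h6, b_e] at h5
  have h8 : k • w = (k • w) 0 • (Pi.single 0 1 : Fin 3 → F) := by
    ext i; fin_cases i <;> simp [h5, h7]
  have h9 : (k * e' s * k⁻¹) • k • w = k • w := by rw [mul_smul, inv_smul_smul, mul_smul, h4]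
  rw [h8, SU.smul_c] at h9
  refine smul_right_injective _ (fun h0 => ?_) h9
  rw [← SU.b_smul k, h8, h0] at hw
  simp at hw

theorem std_of_comm {A B : Subgroup G} (e : SU σ (Fin 2) ≃* A) (e' : SU σ (Fin 2) ≃* B)
    (Θ : ↥(A ⊔ B) ≃* SU σ (Fin 3)) {d d' : G} (hd : d ∈ A) (hd' : d' ∈ B) {n : ℕ}
    (hn : (n : F) ≠ 0) (h1 : d ^ n = 1) (h2 : d ≠ 1) (h1' : d' ^ n = 1) (h2' : d' ≠ 1)
    (hc : d * d' = d' * d) : ∃ θ : SU σ (Fin 3) →* G, Std θ A B := by
  have k1 : ∀ {C : Subgroup G} (e : SU σ (Fin 2) ≃* C) (h : C ≤ A ⊔ B),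
      (Θ.toMonoidHom.comp ((inclusion h).comp e.toMonoidHom)).range =
        (C.subgroupOf (A ⊔ B)).map Θ.toMonoidHom := fun e h => by
    rw [MonoidHom.range_comp, MonoidHom.range_comp, MonoidHom.range_eq_top.2 e.surjective,
      ← MonoidHom.range_eq_map, inclusion_range]
  obtain ⟨k, h3, h4⟩ := exists_conj hσ
    (e := Θ.toMonoidHom.comp ((inclusion le_sup_left).comp e.toMonoidHom))
    (e' := Θ.toMonoidHom.comp ((inclusion le_sup_right).comp e'.toMonoidHom))
    (Θ.injective.comp ((inclusion_injective le_sup_left).comp e.injective))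
    (Θ.injective.comp ((inclusion_injective le_sup_right).comp e'.injective))
    (by rw [k1, k1, ← Subgroup.map_sup, ← subgroupOf_sup le_sup_left le_sup_right, subgroupOf_self,
      map_top_of_surjective _ Θ.surjective])
    (d := e.symm ⟨d, hd⟩) (d' := e'.symm ⟨d', hd'⟩) hn
    (by rw [← map_pow, map_eq_one_iff _ e.symm.injective]; exact Subtype.ext h1)
    (by rw [Ne, map_eq_one_iff _ e.symm.injective]; exact fun h => h2 (congrArg Subtype.val h))
    (by
      simp only [MonoidHom.comp_apply, MulEquiv.coe_toMonoidHom, MulEquiv.apply_symm_apply,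
        ← map_mul]
      exact congrArg _ (Subtype.ext hc))
    (by rw [← map_pow, map_eq_one_iff _ e'.symm.injective]; exact Subtype.ext h1')
    (by rw [Ne, map_eq_one_iff _ e'.symm.injective]; exact fun h => h2' (congrArg Subtype.val h))
  let θ := (A ⊔ B).subtype.comp ((MulAut.conj k⁻¹).trans Θ.symm).toMonoidHom
  have hθ : Function.Injective θ := (subtype_injective _).comp (MulEquiv.injective _)
  have k2 : ∀ {C : Subgroup G} (e : SU σ (Fin 2) ≃* C) (h : C ≤ A ⊔ B)
      (j : SU σ (Fin 2) →* SU σ (Fin 3)), Function.Injective j →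
      (∀ s, k * Θ.toMonoidHom.comp ((inclusion h).comp e.toMonoidHom) s * k⁻¹ ∈ j.range) →
      (θ.comp j).range = C := fun {C} e h j hj H => by
    have : Finite (θ.comp j).range := Finite.of_surjective _ (θ.comp j).rangeRestrict_surjective
    refine (eq_of_le_of_card_ge (fun x hx => ?_) ?_).symm
    · obtain ⟨s, hs⟩ := H (e.symm ⟨x, hx⟩)
      exact ⟨s, by simp [θ, hs, mul_assoc]⟩
    · rw [← Nat.card_congr e.toEquiv, 
        Nat.card_congr (MonoidHom.ofInjective (f := θ.comp j) (hθ.comp hj)).toEquiv]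
  exact ⟨θ, by rw [(MonoidHom.ker_eq_bot_iff _).2 hθ]; exact bot_le,
    k2 e _ _ (emb_inj _) h3, k2 e' _ _ (emb_inj _) h4⟩

end Cfsg.Agent.Phan
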