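import Mathlib
import Cfsg.Agent.Phan.Fix
import Cfsg.Agent.Phan.Ext4

/-!
Automorphisms of `SU₃(q)` preserving the standard pair.
-/

set_option autoImplicit false
set_option backward.isDefEq.respectTransparency false

namespace Cfsg.Agent.Phan

open Matrix Herm Subgroup Polynomial

theorem exists_restrict {H K : Type*} [Group H] [Group K] [Finite H] {j : H →* K}
    (hj : Function.Injective j) (β : K ≃* K) (h : ∀ s, β (j s) ∈ j.range) :
    ∃ α : H ≃* H, ∀ s, j (α s) = β (j s) := by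
  let α := (MonoidHom.ofInjective hj).symm.toMonoidHom.comp
    ((β.toMonoidHom.comp j).codRestrict _ h)
  have hα : ∀ s, j (α s) = β (j s) := fun s => MonoidHom.apply_ofInjective_symm hj _
  exact ⟨MulEquiv.ofBijective α (Finite.injective_iff_bijective.1 fun s t e =>
    hj (β.injective (by rw [← hα, e, hα]))), hα⟩

variable {F : Type*} [Field F] {σ : F →+* F} {ι : Type*} [Fintype ι] [DecidableEq ι]
  {G : Type*} [Group G]

theorem j1_dg {x : F} (h : σ x * x = 1) (k : Fin 3) :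
    ∃ c : F, j1 σ (dg h) • (Pi.single k 1 : Fin 3 → F) = c • Pi.single k 1 :=
  ⟨![x, σ x, 1] k, by
    ext i; fin_cases i <;> fin_cases k <;> simp [SU.smul_def, j1_val, dg]⟩

variable [Finite F] (hσ : Inv σ) {q : ℕ} (hF : Nat.card F = q ^ 2)
include hσ

theorem hom_ext_norm {ρ τ : F →+* F} (h : ∀ x, σ x * x = 1 → ρ x = τ x) : ρ = τ := by
  have h1 := hσ.card_norm hσ.card_eq_sq one_ne_zero (map_one σ)
  have h2 : _ ≤ Nat.card (ρ.eqLocusField τ) := h1.ge.trans (Nat.card_le_card_of_injective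
    (fun x => ⟨x.1, h x.1 x.2⟩) fun x y e => Subtype.ext (congrArg Subtype.val e :))
  have h3 := Module.natCard_eq_pow_finrank (K := ρ.eqLocusField τ) (V := F)
  have h4 := Module.finrank_pos (R := ρ.eqLocusField τ) (M := F)
  have h5 : Module.finrank (ρ.eqLocusField τ) F = 1 := by
    by_contra h
    have := hσ.card_eq_sq.symm.trans h3
    have h6 := (Nat.pow_le_pow_left h2 2).trans ((Nat.pow_le_pow_right Nat.card_pos
      (show 2 ≤ _ by omega)).trans this.ge)
    nlinarith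
  rw [h5, pow_one] at h3
  exact RingHom.ext fun x => (AddSubgroup.eq_top_of_card_eq (ρ.eqLocusField τ).toAddSubgroup
    h3.symm).ge (AddSubgroup.mem_top x)

theorem scalar_of_comm {z : SU σ (Fin 3)} {x : F} (h1 : σ x * x = 1) (h2 : x ≠ 1) (h3 : σ x ≠ x)
    (e1 : j2 σ (dg h1) * z = z * j2 σ (dg h1)) (e2 : j1 σ (wy σ) * z = z * j1 σ (wy σ))
    (e3 : j2 σ (wy σ) * z = z * j2 σ (wy σ)) : ∃ r : F, z.1.1 = r • 1 := by
  have h4 : σ x ≠ 1 := fun h => h2 (by simpa [h] using h1)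
  have e := fun i j => congrArg (fun y : SU σ (Fin 3) => y.1.1 i j) e1
  have a1 := e 0 1
  have a2 := e 0 2
  have a3 := e 1 0
  have a4 := e 1 2
  have a5 := e 2 0
  have a6 := e 2 1
  have a7 := congrArg (fun y : SU σ (Fin 3) => y.1.1 0 1) e2
  have a8 := congrArg (fun y : SU σ (Fin 3) => y.1.1 1 2) e3
  simp only [SU.mul_val, j1_val, j2_val] at a1 a2 a3 a4 a5 a6 a7 a8
  generalize z.1.1 = u at *
  simp [dg, wy, mul_apply, Fin.sum_univ_three, -mul_eq_mul_left_iff,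
    -mul_eq_mul_right_iff] at a1 a2 a3 a4 a5 a6 a7 a8
  refine ⟨u 0 0, ?_⟩
  ext i j; fin_cases i <;> fin_cases j <;> simp
  · exact mul_left_cancel₀ (sub_ne_zero.2 h2) (by linear_combination -a1)
  · exact mul_left_cancel₀ (sub_ne_zero.2 h4) (by linear_combination -a2)
  · exact mul_left_cancel₀ (sub_ne_zero.2 h2) (by linear_combination a3)
  · exact a7
  · exact mul_left_cancel₀ (sub_ne_zero.2 h3) (by linear_combination -a4)
  · exact mul_left_cancel₀ (sub_ne_zero.2 h4) (by linear_combination a5)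
  · exact mul_left_cancel₀ (sub_ne_zero.2 h3) (by linear_combination a6)
  · exact a8.trans a7

theorem gen3 {a b c : ι} (hι : 3 < Fintype.card ι) (hab : a ≠ b) (hac : a ≠ c) (hbc : b ≠ c)
    {K : Subgroup (SU σ ι)} (h1 : Blk σ {c}ᶜ ≤ K) (h2 : Blk σ {a, b, c} ≤ K) : K = ⊤ := by
  refine eq_top_iff.2 fun g _ => ?_
  obtain ⟨x, hx, s, hs, y, hy, rfl⟩ := dec3 hσ (T := Set.univ) (g := g) (by
    simpa [Set.compl_eq_univ_sdiff] using card_compl {c} (k := 2) (by simp; omega))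
    (Set.mem_univ a) (Set.mem_univ b) (Set.mem_univ c) hab hac hbc (by simp [Blk])
  rw [← Set.compl_eq_univ_sdiff] at hx hy
  exact mul_mem (mul_mem (h1 hx) (h2 hs)) (h1 hy)

include hF

theorem exists_nb1 (hq : 2 < q) {a a' : ι} (ha : a ≠ a') (u : ι → F) :
    ∃ y : ι → F, (∀ k ∉ ({a, a'} : Set ι), y k = 0) ∧ stdB σ ι y y = 1 ∧ nn σ y u ≠ 1 := by
  have key : ¬ (σ (u a') * u a' - 1 = 0 ∧ σ (u a') * u a = 0 ∧
      σ (u a) * u a - 1 = 0) := fun ⟨h1, h2, h3⟩ => by
    rcases mul_eq_zero.1 h2 with h | h <;> simp [h] at h1 h3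
  obtain ⟨h1, h2⟩ := hpoly (by omega : 2 ≤ q) (γ := σ (u a) * u a') key
  obtain ⟨h5, h6⟩ := hpoly (by omega : 2 ≤ q) (A := (1 : F)) (β := 0) (γ := 0) (c := 1) (by simp)
  have := Fintype.ofFinite F
  obtain ⟨t, ht⟩ := not_forall.1 fun h => mul_ne_zero h1 h5
    (eq_zero_of_natDegree_lt_card_of_eval_eq_zero _ Function.injective_id h (by
      refine (natDegree_mul_le.trans (add_le_add h2 h6)).trans_lt ?_
      rw [← Nat.card_eq_fintype_card, hF]
      nlinarith))
  replace ht : _ ≠ _ := ht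
  simp only [eval_mul, eval_add, eval_C, eval_pow, eval_X, pow_succ, ← hσ.apply_pow hF,
    mul_ne_zero_iff, zero_mul, add_zero, one_mul, id] at ht
  obtain ⟨h7, h9⟩ := ht
  obtain ⟨κ, hκ⟩ := hσ.exists_norm (μ := (σ t * t + 1)⁻¹) (by simp [hσ.invol, mul_comm])
  have h10 : σ κ * κ * (σ t * t + 1) = 1 := by rw [hκ, inv_mul_cancel₀ h9]
  have hb : ∀ w : ι → F, stdB σ ι (Pi.single a κ + Pi.single a' (κ * t)) w =
      σ κ * w a + σ κ * σ t * w a' := fun w => by simp [stdB_single_left]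
  refine ⟨Pi.single a κ + Pi.single a' (κ * t), by simp +contextual [Pi.single_apply], ?_,
    fun h => h7 ?_⟩
  · simp only [hb, Pi.add_apply, Pi.single_eq_same, Pi.single_eq_of_ne ha,
      Pi.single_eq_of_ne ha.symm]
    linear_combination h10
  · simp only [nn, hb] at h
    simp only [map_mul, map_add, hσ.invol] at h
    linear_combination (σ t * t + 1) * h - ((σ (u a) + t * σ (u a')) * (u a + σ t * u a')) * h10

theorem gen' (hq : 2 < q) {K : Subgroup (SU σ (Fin 3))} (h1 : (j1 σ).range ≤ K)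
    (h2 : (j2 σ).range ≤ K) : K = ⊤ := by
  have key : ∀ g : SU σ (Fin 3),
      nn σ (Pi.single 2 1 : Fin 3 → F) (g • Pi.single 2 1) ≠ 1 → g ∈ K := fun g h => by
      obtain ⟨x, hx, s, hs, y, hy, rfl⟩ := dec hσ (T := Set.univ) (b := 1)
        ⟨0, by simp, 1, by simp, by simp⟩ (Set.mem_univ _) (Set.mem_univ _) (by decide)
        (by simp [Blk]) h
      exact mul_mem (mul_mem (h1 (mem_j1 (hx 2 (by simp)))) (h2 (range_j2.ge hs)))
        (h1 (mem_j1 (hy 2 (by simp))))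
  refine eq_top_iff.2 fun g _ => ?_
  obtain ⟨y, h3, hy, h4⟩ := exists_nb1 hσ hF hq (a := (0 : Fin 3)) (a' := 1) (by decide)
    (g • Pi.single 2 1)
  obtain ⟨x, rfl⟩ := SU_trans hσ (u := (Pi.single 2 1 : Fin 3 → F)) (v := y) (by simp [b_ee])
    (by rw [hy, b_ee])
  simpa using mul_mem (key x (by simp [nn, b_e, h3])) (key (x⁻¹ * g) (by
    rwa [← nn_smul x, mul_smul, smul_inv_smul]))

omit hF in
theorem norm_two (hF : Nat.card F = 2 ^ 2) {y : F} (h : y ≠ 0) : σ y * y = 1 := by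
  have := pow_card_eq y
  rw [hF] at this
  rw [hσ.apply_pow hF]
  exact mul_left_cancel₀ h (by linear_combination this)

omit hF hσ in
theorem char_two (hF : Nat.card F = 2 ^ 2) : CharP F 2 := by
  have := Fintype.ofFinite F
  exact charP_of_card_eq_prime_pow (Nat.card_eq_fintype_card.symm.trans hF)

omit hF in
theorem invol_two (hF : Nat.card F = 2 ^ 2) {t : SU σ (Fin 3)} (ht : t * t = 1) :
    ∃ k, t • (Pi.single k 1 : Fin 3 → F) = Pi.single k 1 := by
  have := char_two hF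
  have k1 : ∀ u w : Fin 3 → F, stdB σ _ (t • u - u) (t • w - w) = 0 := fun u w => by
    simp only [map_sub, LinearMap.sub_apply, SU.b_inv ht, ← mul_smul, ht, one_smul]
    linear_combination (stdB σ _ u w - stdB σ _ u (t • w)) * CharTwo.two_eq_zero (R := F)
  by_cases h : ∀ w : Fin 3 → F, t • w - w = 0
  · exact ⟨0, sub_eq_zero.1 (h _)⟩
  obtain ⟨w, hw⟩ := not_forall.1 h
  obtain ⟨k, hk⟩ : ∃ k, (t • w - w) k = 0 := by
    by_contra! H
    have := k1 w w
    simp only [stdB_apply, norm_two hσ hF (H _), Fin.sum_univ_three] at this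
    exact one_ne_zero (by linear_combination this - CharTwo.two_eq_zero (R := F))
  refine ⟨k, sub_eq_zero.1 ((hσ.hf_stdB _).nd' _ fun u => ?_)⟩
  obtain ⟨a, ha⟩ := witt1 hσ hw (k1 w w) (k1 u u) (k1 _ _)
  rw [map_sub, ← SU.b_inv ht, ← b_sub_left, ← ha, b_smul_left, stdB_single_right, hk]
  simp

theorem hom_ext3 {β γ : SU σ (Fin 3) →* SU σ (Fin 3)} (hγ : Function.Surjective γ)
    (h1 : ∀ s, β (j1 σ s) = γ (j1 σ s)) (h2 : ∀ s, β (j2 σ s) = γ (j2 σ s)) : β = γ := by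
  have k1 : (j1 σ).range ≤ β.eqLocus γ := by rintro _ ⟨s, rfl⟩; exact h1 s
  have k2 : (j2 σ).range ≤ β.eqLocus γ := by rintro _ ⟨s, rfl⟩; exact h2 s
  suffices β.eqLocus γ = ⊤ from MonoidHom.ext fun g => this.ge (mem_top g)
  rcases (two_le_of_card hF).lt_or_eq with hq | rfl
  · exact gen' hσ hF hq k1 k2
  have := char_two hF
  have k3 : ∀ t, t * t = 1 → β t = γ t := fun t ht => by
    obtain ⟨k, hk⟩ := invol_two hσ hF ht
    fin_cases k
    · exact k2 (mem_j2' hk)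
    · have e : j1 σ (wy σ) • (Pi.single 1 1 : Fin 3 → F) = Pi.single 0 1 := by
        ext i; fin_cases i <;> simp [SU.smul_def, j1_val, wy]
      have := k2 (mem_j2' (g := j1 σ (wy σ) * t * (j1 σ (wy σ))⁻¹) (by
        rw [← e, mul_smul, inv_smul_smul, mul_smul]; exact congrArg _ hk))
      exact (mul_mem_cancel_left (k1 ⟨_, rfl⟩)).1 ((mul_mem_cancel_right (inv_mem (k1 ⟨_, rfl⟩))).1 this)
    · exact k1 (mem_j1 hk)
  refine gen_four hσ fun g hg => ?_
  have k4 : ∀ t, t * t = 1 → t * ((γ g)⁻¹ * β g) = (γ g)⁻¹ * β g * t := fun t ht => by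
    obtain ⟨t, rfl⟩ := hγ t
    replace ht : t * t = 1 := Finite.injective_iff_surjective.2 hγ (by rw [map_mul, ht, map_one])
    have := k3 (g * t * g⁻¹) (by rw [conj_mul, ht]; simp)
    simp only [map_mul, map_inv, k3 t ht] at this
    rw [mul_assoc, eq_mul_of_mul_inv_eq this]; group
  obtain ⟨x, a1, a2, a3⟩ := exists_delta hσ
  have hw : wy σ * wy σ = 1 := SU.ext (by
    ext i j; fin_cases i <;> fin_cases j <;> simp [SU.mul_val, wy, mul_apply, CharTwo.neg_eq])
  have hw' : wy σ * dg a1 * (wy σ * dg a1) = 1 := SU.ext (by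
    ext i j; fin_cases i <;> fin_cases j <;>
      simp [SU.mul_val, wy, dg, mul_apply, CharTwo.neg_eq, a1, mul_comm x])
  have b1 := k4 (j2 σ (wy σ)) (by rw [← map_mul, hw, map_one])
  have b2 := k4 (j2 σ (wy σ * dg a1)) (by rw [← map_mul, hw', map_one])
  obtain ⟨r, hr⟩ := scalar_of_comm hσ a1 a2 a3 (z := (γ g)⁻¹ * β g) (by
    rw [map_mul, mul_assoc, ← mul_assoc _ (j2 σ (wy σ)), ← b1, mul_assoc] at b2
    exact mul_left_cancel b2) (k4 _ (by rw [← map_mul, hw, map_one])) b1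
  have h3 : β g = γ g * ((γ g)⁻¹ * β g) := (mul_inv_cancel_left _ _).symm
  change β g = γ g
  generalize (γ g)⁻¹ * β g = z at hr h3
  have h4 := (show Commute (γ g) z from SU.ext (by simp [SU.mul_val, hr])).mul_pow 4
  rw [← h3, ← map_pow, ← map_pow, hg, map_one, map_one, one_mul] at h4
  have h5 : r ^ 3 = 1 := by simpa [hr] using z.1.2
  have h6 : z ^ 3 = 1 := SU.ext (by simp [pow_three', SU.mul_val, hr, smul_smul, ← pow_three r, h5])
  rw [pow_succ, h6, one_mul] at h4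
  rw [h3, ← h4, mul_one]

omit hF in
theorem aut3 (β : SU σ (Fin 3) ≃* SU σ (Fin 3)) (h1 : ∀ s, β (j1 σ s) ∈ (j1 σ).range)
    (h2 : ∀ s, β (j2 σ s) ∈ (j2 σ).range) : ∃ (ρ : F →+* F) (hρ : ∀ x, σ (ρ x) = ρ (σ x))
      (d : Fin 3 → F) (hd : ∀ i, σ (d i) * d i = 1), ∀ g, β g = dmap hσ hρ hd g := by
  obtain ⟨α, hα⟩ := exists_restrict (emb_inj _) β h1
  obtain ⟨α', hα'⟩ := exists_restrict (emb_inj _) β h2
  change ∀ s, j1 σ (α s) = β (j1 σ s) at hα
  change ∀ s, j2 σ (α' s) = β (j2 σ s) at hα'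
  obtain ⟨x, a1, a2, a3⟩ := exists_delta hσ
  have b1 : (α (dg a1)).1.1 1 0 = 0 := by
    obtain ⟨n, hn⟩ := range_j2.ge (Blk.conj (j1_dg a1) (range_j2.le ⟨α'.symm (wy σ), rfl⟩))
    rw [mul_assoc, eq_inv_mul_iff_mul_eq] at hn
    have := congrArg β hn
    simp only [map_mul, ← hα, ← hα', MulEquiv.apply_symm_apply] at this
    simpa [SU.mul_val, j1_val, j2_val, wy, mul_apply, Fin.sum_univ_three] using
      congrArg (fun y : SU σ (Fin 3) => y.1.1 2 0) this
  have b2 : (α' (dg a1)).1.1 0 1 = 0 := by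
    obtain ⟨n, hn⟩ := range_j1.ge (Blk.conj (j2_dg a1) (range_j1.le ⟨α.symm (wy σ), rfl⟩))
    rw [mul_assoc, eq_inv_mul_iff_mul_eq] at hn
    have := congrArg β hn
    simp only [map_mul, ← hα, ← hα', MulEquiv.apply_symm_apply] at this
    simpa [SU.mul_val, j1_val, j2_val, wy, mul_apply, Fin.sum_univ_three] using
      congrArg (fun y : SU σ (Fin 3) => y.1.1 0 2) this.symm
  obtain ⟨ρ, d, hρ, hd, h3⟩ := aut_SU2_diag hσ α a1 a3
    (by simpa [b1] using (SU.two (α (dg a1))).2.2.1) b1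
  obtain ⟨ρ', d', -, hd', h4⟩ := aut_SU2_diag hσ α' a1 a3 b2
    (by simpa [b2] using (SU.two (α' (dg a1))).2.1)
  obtain rfl : ρ = ρ' := hom_ext_norm hσ fun y hy => by
    have e : j2 σ (wy σ) * j1 σ (dg hy) = j1 σ (dg hy) * j2 σ (dg hy * wy σ) := SU.ext (by
      ext i j; fin_cases i <;> fin_cases j <;>
        simp [SU.mul_val, j1_val, j2_val, wy, dg, mul_apply, Fin.sum_univ_three, hy])
    have := congrArg β e
    rw [map_mul, map_mul, ← hα, ← hα', ← hα'] at this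
    replace this := congrArg (fun y : SU σ (Fin 3) => y.1.1 1 2) this
    simp [SU.mul_val, j1_val, j2_val, mul_apply, Fin.sum_univ_three, h3, h4, wy, dg,
      -mul_eq_mul_left_iff, -mul_eq_mul_right_iff] at this
    have c1 := congrArg ρ hy
    rw [map_mul, map_one] at c1
    have c2 := (right_eq_mul₀ (mul_ne_zero (right_ne_zero_of_mul_eq_one (hd' 0))
      (left_ne_zero_of_mul_eq_one (hd' 1)))).1 (this.trans (mul_assoc _ _ _).symm)
    linear_combination -ρ y * c2 + ρ' y * ρ (σ y) * ρ y * (σ (d 1) * d 1) * hd' 0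
      + ρ' y * ρ (σ y) * ρ y * hd 1 + ρ' y * c1
  have hd'' : ∀ i : Fin 3, σ (![d 0 * σ (d 1), 1, d' 1 * σ (d' 0)] i) *
      ![d 0 * σ (d 1), 1, d' 1 * σ (d' 0)] i = 1 := fun i => by
    fin_cases i <;> simp [hσ.invol]
    · linear_combination σ (d 1) * d 1 * hd 0 + hd 1
    · linear_combination σ (d' 0) * d' 0 * hd' 1 + hd' 0
  refine ⟨ρ, hρ, _, hd'', DFunLike.congr_fun (hom_ext3 hσ hσ.card_eq_sq (β := β.toMonoidHom)
    (Finite.injective_iff_surjective.1 (dmap_inj hσ hρ hd'')) (fun s => ?_) fun s => ?_)⟩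
  · refine (hα s).symm.trans ((congrArg _ (SU.ext ?_)).trans (dmap_emb hσ hρ hd'' _ s).symm)
    ext i j
    rw [dmap_apply, h3]
    fin_cases i <;> fin_cases j <;> simp [hσ.invol]
    · linear_combination -d 0 * ρ (s.1.1 0 0) * σ (d 0) * hd 1
    · ring
    · ring
    · linear_combination ρ (s.1.1 1 1) * hd 1
  · refine (hα' s).symm.trans ((congrArg _ (SU.ext ?_)).trans (dmap_emb hσ hρ hd'' _ s).symm)
    ext i j
    rw [dmap_apply, h4]
    fin_cases i <;> fin_cases j <;> simp [hσ.invol]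
    · linear_combination ρ (s.1.1 0 0) * hd' 0
    · ring
    · ring
    · linear_combination -d' 1 * ρ (s.1.1 1 1) * σ (d' 1) * hd' 0

end Cfsg.Agent.Phan
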