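import Mathlib
import Cfsg.Agent.Phan.Aut3

/-!
Phan's theorem for the unitary groups from rank three data.
-/

set_option autoImplicit false
set_option backward.isDefEq.respectTransparency false

namespace Cfsg.Agent.Phan

open Matrix Herm Subgroup

variable {F : Type*} [Field F] {σ : F →+* F} {ι κ : Type*} [Fintype ι] [DecidableEq ι]
  [Fintype κ] [DecidableEq κ] {G : Type*} [Group G]

/-- faithful standard pairs -/
structure StdV (θ : SU σ (Fin 3) →* G) (A B V : Subgroup G) : Prop where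
  inj : Function.Injective θ
  left : (θ.comp (j1 σ)).range = A
  right : (θ.comp (j2 σ)).range = B
  range : θ.range = V

theorem rg4 (f : Fin 4 ↪ ι) : Set.range f = {f 0, f 1, f 2, f 3} := by
  ext i; simp [Fin.exists_fin_succ, eq_comm]

theorem range_comp_le {H K : Type*} [Group H] [Group K] (f : K →* G) (g : H →* K) :
    (f.comp g).range ≤ f.range := by rintro _ ⟨x, rfl⟩; exact ⟨_, rfl⟩

theorem range_comp_eq {H K : Type*} [Group H] [Group K] (f : K →* G) {g : H →* K}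
    (h : Function.Surjective g) : (f.comp g).range = f.range := by
  rw [MonoidHom.range_comp, MonoidHom.range_eq_top.2 h, ← MonoidHom.range_eq_map]

variable [Finite F] (hσ : Inv σ)
include hσ

theorem StdV.dmap {θ : SU σ (Fin 3) →* G} {A B V : Subgroup G} (h : StdV θ A B V) {ρ : F →+* F}
    (hρ : ∀ x, σ (ρ x) = ρ (σ x)) {d : Fin 3 → F} (hd : ∀ i, σ (d i) * d i = 1) :
    StdV (θ.comp (dmap hσ hρ hd)) A B V := by
  have key : ∀ f : Fin 2 ↪ Fin 3, ((θ.comp (Phan.dmap hσ hρ hd)).comp (emb σ f)).range =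
      (θ.comp (emb σ f)).range := fun f => by
    rw [← range_comp_eq (θ.comp (emb σ f)) (Finite.injective_iff_surjective.1
      (dmap_inj hσ hρ (d := d ∘ f) fun i => hd (f i)))]
    exact congrArg _ (MonoidHom.ext fun s => congrArg θ (dmap_emb hσ hρ hd f s))
  exact ⟨h.inj.comp (dmap_inj hσ hρ hd), (key _).trans h.left, (key _).trans h.right,
    (range_comp_eq _ (Finite.injective_iff_surjective.1 (dmap_inj hσ hρ hd))).trans h.range⟩

theorem align {θ : SU σ (Fin 3) →* G} {χ : SU σ (Fin 4) →* G} {A B C V W : Subgroup G}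
    (h : StdV θ A B V) (h1 : StdV (χ.comp (emb σ Fin.castSuccEmb)) A B V)
    (h2 : StdV (χ.comp (emb σ (Fin.succEmb 3))) B C W) : ∃ χ' : SU σ (Fin 4) →* G,
      χ'.comp (emb σ Fin.castSuccEmb) = θ ∧ StdV (χ'.comp (emb σ (Fin.succEmb 3))) B C W := by
  obtain ⟨β, hβ⟩ : ∃ β : SU σ (Fin 3) ≃* SU σ (Fin 3),
      ∀ s, χ.comp (emb σ Fin.castSuccEmb) (β s) = θ s :=
    ⟨(MonoidHom.ofInjective h.inj).trans ((MulEquiv.subgroupCongr (h.range.trans h1.range.symm)).trans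
      (MonoidHom.ofInjective h1.inj).symm), fun s => MonoidHom.apply_ofInjective_symm h1.inj _⟩
  obtain ⟨ρ, hρ, d, hd, h3⟩ := aut3 hσ β (fun s => by
      obtain ⟨t, ht⟩ := (h.left.trans h1.left.symm).le ⟨s, rfl⟩
      exact ⟨t, h1.inj (ht.trans (hβ _).symm)⟩) fun s => by
      obtain ⟨t, ht⟩ := (h.right.trans h1.right.symm).le ⟨s, rfl⟩
      exact ⟨t, h1.inj (ht.trans (hβ _).symm)⟩
  have hd' : ∀ i : Fin 4, σ (![d 0, d 1, d 2, 1] i) * ![d 0, d 1, d 2, 1] i = 1 := fun i => by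
    fin_cases i <;> simp [hd]
  refine ⟨χ.comp (dmap hσ hρ hd'), MonoidHom.ext fun s => ?_, ?_⟩
  · rw [← hβ, h3]
    refine congrArg χ ((dmap_emb hσ hρ hd' _ s).trans (congrArg _ (SU.ext ?_)))
    ext i j
    rw [dmap_apply, dmap_apply]
    fin_cases i <;> fin_cases j <;> rfl
  · convert h2.dmap hσ hρ fun i => hd' (Fin.succEmb 3 i) using 1
    exact MonoidHom.ext fun s => congrArg χ (dmap_emb hσ hρ hd' _ s)

theorem path4 {n : ℕ} {U V : ℕ → Subgroup G}
    (h1 : ∀ j, 2 ≤ j → j < n → ∀ x ∈ U 0, ∀ y ∈ U j, x * y = y * x)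
    (h5 : ∀ j, 2 ≤ j → j + 1 < n → ∀ x ∈ U 0, ∀ y ∈ V j, x * y = y * x)
    (h5' : ∀ i j, i + 3 ≤ j → j < n → ∀ x ∈ V i, ∀ y ∈ U j, x * y = y * x)
    (h6 : ∀ i j, i + 3 ≤ j → j + 1 < n → ∀ x ∈ V i, ∀ y ∈ V j, x * y = y * x)
    (hs : ∀ i, i + 2 < n → ∃ χ : SU σ (Fin 4) →* G,
      StdV (χ.comp (emb σ Fin.castSuccEmb)) (U i) (U (i + 1)) (V i) ∧
      StdV (χ.comp (emb σ (Fin.succEmb 3))) (U (i + 1)) (U (i + 2)) (V (i + 1))) (k : ℕ)
    (hk : k + 2 < n) : ∃ ψ : SU σ (Fin (k + 4)) →* G, (∀ i < k + 2, V i ≤ ψ.range) ∧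
      (ψ.comp (emb σ Fin.castSuccEmb)).range ≤ U 0 ⊔ ⨆ i < k + 1, V i ∧
      ((ψ.comp (emb σ Fin.castSuccEmb)).comp (emb σ Fin.castSuccEmb)).range ≤ U 0 ⊔ ⨆ i < k, V i ∧
      StdV (ψ.comp (emb σ (Fin.natAddEmb (k + 1)))) (U (k + 1)) (U (k + 2)) (V (k + 1)) := by
  induction k with
  | zero =>
    obtain ⟨χ, a1, a2⟩ := hs 0 hk
    refine ⟨χ, fun i hi => ?_, a1.range.le.trans (le_sup_of_le_right
      (le_iSup₂_of_le 0 one_pos le_rfl)), a1.left.le.trans le_sup_left, ?_⟩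
    · interval_cases i
      · exact a1.range.ge.trans (range_comp_le _ _)
      · exact a2.range.ge.trans (range_comp_le _ _)
    · convert a2 using 3
      ext i; exact Nat.add_comm 1 i
  | succ k ih =>
    obtain ⟨ψ, a1, a2, a3, a4⟩ := ih (by omega)
    obtain ⟨χ₀, a5, a6⟩ := hs (k + 1) hk
    obtain ⟨χ, a7, a8⟩ := align hσ a4 a5 a6
    let f : Fin 4 ↪ Fin (k + 4 + 1) := Fin.natAddEmb (k + 1)
    have hl : f 3 = Fin.last _ := rfl
    obtain ⟨φ, h7, h8⟩ := glue (emb_inj (σ := σ) Fin.castSuccEmb) (emb_inj f) (ψ := ψ) (χ := χ)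
      fun x y h => by
        obtain ⟨s, rfl⟩ := (range_emb Fin.castSuccEmb).ge (Blk.of_emb (h ▸ emb_mem _ x)
          fun i hi => by rw [rgc, ← hl] at hi; rw [rgc]; rintro rfl; exact hi rfl)
        rw [← MonoidHom.comp_apply, a7, MonoidHom.comp_apply]
        refine congrArg ψ (emb_inj Fin.castSuccEmb ?_)
        rw [h, emb_emb, emb_emb]
        rfl
    have k1 : ∀ s ∈ Blk σ {f 1, f 2, f 3}, ∃ t, emb σ f (emb σ (Fin.succEmb 3) t) = s :=
      fun s hs => by simp only [emb_emb]; exact (range_emb _).ge (by rw [rg3]; exact hs)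
    have k2 : ∀ x ∈ Blk σ ({f 2, f 3} : Set _)ᶜ,
        ∃ y, emb σ Fin.castSuccEmb (emb σ Fin.castSuccEmb y) = x := fun x hx => by
      obtain ⟨x, rfl⟩ := (range_emb Fin.castSuccEmb).ge
        (by rw [rgc, ← hl]; exact Blk.mono (by simp) hx)
      obtain ⟨x, rfl⟩ := (range_emb Fin.castSuccEmb).ge (Blk.of_emb hx fun i hi => by
        rw [rgc]; rintro rfl; exact hi (.inl rfl))
      exact ⟨x, rfl⟩
    obtain ⟨ω, h9, h10⟩ := ext4 hσ (a' := f 0) (a := f 1) (b := f 2) (c := f 3) (φ := φ)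
      (by simp) (by simp) (by simp) (by simp) (by simp) (by simp) (by simp)
      (by rw [hl, ← rgc, ← range_emb]; exact mulOn_range _ _ h7)
      (by rw [← rg4, ← range_emb]; exact mulOn_range _ _ h8)
      (fun x hx s hs => by
        obtain ⟨x, rfl⟩ := k2 x hx
        obtain ⟨s, rfl⟩ := mem_j2 ((Fin.succEmb 3).trans f) hs
        rw [← emb_emb, h7, h8]
        have : U 0 ⊔ ⨆ i < k + 1, V i ≤ centralizer (U (k + 3)) :=
          sup_le (fun x hx y hy => (h1 _ (by omega) hk x hx y hy).symm)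
            (iSup₂_le fun i hi x hx y hy => (h5' i _ (by omega) hk x hx y hy).symm)
        exact (this (a2 ⟨x, rfl⟩) _ (a8.right.le ⟨s, rfl⟩)).symm)
      (fun x hx s hs => by
        obtain ⟨x, rfl⟩ := k2 x (Blk.mono (Set.compl_subset_compl.2 (Set.subset_insert _ _)) hx)
        obtain ⟨x, rfl⟩ := (range_emb Fin.castSuccEmb).ge (Blk.of_emb (Blk.of_emb hx fun _ h => h)
          fun i hi => by rw [rgc]; rintro rfl; exact hi (.inl rfl))
        obtain ⟨s, rfl⟩ := k1 s hs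
        rw [h7, h8]
        have : U 0 ⊔ ⨆ i < k, V i ≤ centralizer (V (k + 2)) :=
          sup_le (fun x hx y hy => (h5 _ (by omega) hk x hx y hy).symm)
            (iSup₂_le fun i hi x hx y hy => (h6 i _ (by omega) hk x hx y hy).symm)
        exact (this (a3 ⟨x, rfl⟩) _ (a8.range.le ⟨s, rfl⟩)).symm)
    have e1 : ω.comp (emb σ Fin.castSuccEmb) = ψ := MonoidHom.ext fun x =>
      (h9 _ (by rw [hl, ← rgc]; exact emb_mem _ x)).trans (h7 x)
    have e2 : ω.comp (emb σ (Fin.natAddEmb (k + 1 + 1))) = χ.comp (emb σ (Fin.succEmb 3)) :=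
      MonoidHom.ext fun x => by
        rw [MonoidHom.comp_apply, MonoidHom.comp_apply, ← h8, ← h10 _ (by
          rw [← rg4]; exact emb_mem _ _), emb_emb]
        congr 3
    refine ⟨ω, fun i hi => ?_, e1.symm ▸ ?_, e1.symm ▸ a2, e2.symm ▸ a8⟩
    · rcases Nat.lt_succ_iff_lt_or_eq.1 hi with hi | rfl
      · exact (a1 i hi).trans (e1 ▸ range_comp_le _ _)
      · exact a8.range.ge.trans (e2 ▸ range_comp_le _ _)
    · rw [MonoidHom.range_eq_map, map_le_iff_le_comap, top_le_iff]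
      let g : Fin 3 ↪ Fin (k + 3 + 1) := Fin.natAddEmb (k + 1)
      refine gen3 hσ (a := g 0) (b := g 1) (c := g 2) (by simp) (by simp) (by simp) (by simp)
        (fun x hx => ?_) fun x hx => ?_
      · obtain ⟨x, rfl⟩ := (range_emb Fin.castSuccEmb).ge (by rwa [rgc])
        exact (a2.trans (sup_le_sup_left (biSup_mono fun i hi => by omega) _)) ⟨x, rfl⟩
      · obtain ⟨x, rfl⟩ := (range_emb g).ge (by rwa [rg3])
        exact (a4.range.le.trans (le_sup_of_le_right (le_iSup₂_of_le (k + 1) (by omega) le_rfl)))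
          ⟨x, rfl⟩

omit hσ in
theorem phan4 {q : ℕ} (hF : Nat.card F = q ^ 2) {n : ℕ} (hn : 3 ≤ n) {U : Fin n → Subgroup G}
    {V : Fin n → Fin n → Subgroup G}
    (h1 : ∀ i j : Fin n, (i : ℕ) + 2 ≤ j → ∀ x ∈ U i, ∀ y ∈ U j, x * y = y * x)
    (hgen : (⨆ i, U i) ⊔ (⨆ (i : Fin n) (j : Fin n) (_ : (i : ℕ) + 1 = j), V i j) = ⊤)
    (h4 : ∀ i j k : Fin n, (i : ℕ) + 1 = j → (j : ℕ) + 1 = k →
      ∃ χ : SU (frob hF) (Fin 4) →* G,
        StdV (χ.comp (emb _ Fin.castSuccEmb)) (U i) (U j) (V i j) ∧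
        StdV (χ.comp (emb _ (Fin.succEmb 3))) (U j) (U k) (V j k))
    (h5 : ∀ i j k : Fin n, (j : ℕ) + 1 = k → ((i : ℕ) + 2 ≤ j ∨ (k : ℕ) + 2 ≤ i) →
      ∀ x ∈ U i, ∀ y ∈ V j k, x * y = y * x)
    (h6 : ∀ i j k l : Fin n, (i : ℕ) + 1 = j → (k : ℕ) + 1 = l → (j : ℕ) + 2 ≤ k →
      ∀ x ∈ V i j, ∀ y ∈ V k l, x * y = y * x) :
    ∃ f : Cfsg.SU (n + 1) F q →* G, Function.Surjective f := by
  obtain ⟨k, rfl⟩ : ∃ k, n = k + 3 := ⟨n - 3, by omega⟩
  obtain ⟨ψ, h, -⟩ := path4 (inv_frob hF) (n := k + 3)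
    (U := fun i => if h : i < k + 3 then U ⟨i, h⟩ else ⊥)
    (V := fun i => if h : i + 1 < k + 3 then V ⟨i, by omega⟩ ⟨i + 1, h⟩ else ⊥)
    (fun j a1 a2 => by rw [dif_pos a2, dif_pos (by omega)]; exact h1 _ _ a1)
    (fun j a1 a2 => by rw [dif_pos a2, dif_pos (by omega)]; exact h5 _ _ _ rfl (.inl a1))
    (fun i j a1 a2 => by
      rw [dif_pos a2, dif_pos (by omega)]
      exact fun x hx y hy => (h5 _ _ _ rfl (.inr a1) y hy x hx).symm)
    (fun i j a1 a2 => by rw [dif_pos a2, dif_pos (by omega)]; exact h6 _ _ _ _ rfl rfl a1)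
    (fun i h => by
      simp only [dif_pos h, dif_pos (show i + 1 < k + 3 by omega), dif_pos (show i < k + 3 by omega)]
      exact h4 _ _ _ rfl rfl) k (by omega)
  have h7 : ∀ i j : Fin (k + 3), (i : ℕ) + 1 = j → V i j ≤ ψ.range := fun i j e => by
    obtain ⟨j, hj⟩ := j
    obtain rfl : i + 1 = j := e
    simpa [hj] using h i (by omega)
  refine ⟨ψ.comp (toSU hF _).symm.toMonoidHom, Function.Surjective.comp (g := ψ)
    (MonoidHom.range_eq_top.1 (eq_top_iff.2 (hgen.ge.trans (sup_le (iSup_le fun i => ?_)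
      (iSup_le fun i => iSup_le fun j => iSup_le (h7 i j)))))) (toSU hF _).symm.surjective⟩
  have hi := i.2
  by_cases a1 : (i : ℕ) < 2
  · obtain ⟨χ, a2, a3⟩ := h4 ⟨0, by omega⟩ ⟨1, by omega⟩ ⟨2, by omega⟩ rfl rfl
    refine le_trans ?_ (h7 ⟨0, by omega⟩ ⟨1, by omega⟩ rfl)
    obtain ⟨i, _⟩ := i
    change i < 2 at a1
    interval_cases i
    · exact a2.left.ge.trans ((range_comp_le _ _).trans a2.range.le)
    · exact a2.right.ge.trans ((range_comp_le _ _).trans a2.range.le)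
  · obtain ⟨χ, -, a3⟩ := h4 ⟨i - 2, by omega⟩ ⟨i - 1, by omega⟩ i (by simp only; omega)
      (by simp only; omega)
    exact (a3.right.ge.trans ((range_comp_le _ _).trans a3.range.le)).trans
      (h7 _ _ (by simp only; omega))

end Cfsg.Agent.Phan
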