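import Mathlib
import Cfsg.Agent.Phan.Path4

/-!
Common tools for recognising standard triples in quotients of `SU₄(q)`.
-/

set_option autoImplicit false
set_option backward.isDefEq.respectTransparency false

namespace Cfsg.Agent.Phan

open Matrix Herm Subgroup

variable {F : Type*} [Field F] {σ : F →+* F} {ι κ : Type*} [Fintype ι] [DecidableEq ι]
  [Fintype κ] [DecidableEq κ] {G : Type*} [Group G]

theorem range_eq_of_le {H : Type*} [Group H] [Finite H] {f g : H →* G} (hf : Function.Injective f)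
    (h : f.range ≤ g.range) : g.range = f.range := by
  have : Finite g.range := Finite.of_surjective _ g.rangeRestrict_surjective
  refine (eq_of_le_of_card_ge h ?_).symm
  rw [← Nat.card_congr (MonoidHom.ofInjective hf).toEquiv]
  exact Nat.card_le_card_of_surjective _ g.rangeRestrict_surjective

/-- scalar kernel -/
def ScK (π : SU σ ι →* G) : Prop := ∀ g, π g = 1 → ∃ r : F, g.1.1 = r • 1

theorem ScK.emb {π : SU σ ι →* G} (h : ScK π) (f : κ ↪ ι) {k : ι} (hk : k ∉ Set.range f) :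
    Function.Injective (π.comp (emb σ f)) := (injective_iff_map_eq_one _).2 fun s hs => by
  obtain ⟨r, hr⟩ := h _ hs
  have h1 : r = 1 := by
    simpa [emb_val, embM_left _ _ hk] using (congrFun (congrFun hr k) k).symm
  exact emb_inj f (SU.ext (hr.trans (by rw [h1, one_smul, map_one]; rfl)))

theorem ScK.conj {π : SU σ ι →* G} (h : ScK π) (k : SU σ ι) :
    ScK (π.comp (MulAut.conj k).toMonoidHom) := fun g hg => by
  have : π g = 1 := by simpa using hg
  exact h g this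

theorem le_range_emb {π : SU σ ι →* G} {A : Subgroup G} {T : Set ι} (f : κ ↪ ι)
    (hf : Set.range f = T) (h : A ≤ (Blk σ T).map π) : A ≤ (π.comp (emb σ f)).range := by
  rwa [MonoidHom.range_comp, range_emb, hf]

variable (σ) in
/-- the cyclic permutation matrix -/
def cyc : SU σ (Fin 3) :=
  ⟨⟨!![0, 0, 1; 1, 0, 0; 0, 1, 0], by simp [det_fin_three]⟩, by
    ext i j; fin_cases i <;> fin_cases j <;> simp [ct_apply, mul_apply, Fin.sum_univ_three]⟩

theorem cyc_j1 (s : SU σ (Fin 2)) : cyc σ * j1 σ s = j2 σ s * cyc σ := SU.ext (by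
  ext i j; fin_cases i <;> fin_cases j <;>
    simp [SU.mul_val, cyc, j1_val, j2_val, mul_apply, Fin.sum_univ_three])

theorem wy_ne : wy σ ≠ 1 := fun h => by
  simpa [wy] using congrArg (fun s : SU σ (Fin 2) => s.1.1 0 1) h

theorem Blk.conj_compl {T : Set ι} {k l x : SU σ ι} (hk : k ∈ Blk σ T) (hl : l ∈ Blk σ Tᶜ)
    (hx : x ∈ Blk σ T) : k * l * x * (k * l)⁻¹ ∈ Blk σ T := by
  rw [mul_assoc k, ← Blk.comm hx hl, show k * (x * l) * (k * l)⁻¹ = k * x * k⁻¹ by group]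
  exact mul_mem (mul_mem hk hx) (inv_mem hk)

theorem cpl1 : ({0, 1} : Set (Fin 4))ᶜ = {2, 3} := by ext i; fin_cases i <;> simp
theorem cpl2 : ({2, 3} : Set (Fin 4))ᶜ = {0, 1} := by rw [← cpl1, compl_compl]

variable [Finite F] (hσ : Inv σ)
include hσ

theorem scK {q : ℕ} (hF : Nat.card F = q ^ 2) (hι : 3 < Fintype.card ι) {π : SU σ ι →* G}
    {g₀ : SU σ ι} (h : π g₀ ≠ 1) : ScK π := fun g hg => by
  have hn : 3 < Module.finrank F (ι → F) := by rwa [Module.finrank_fintype_fun_eq_card]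
  rcases (hσ.hf_stdB ι).normal_SUG_cases' hF (by omega) (by omega)
    (π.comp (toA hσ).symm.toMonoidHom).ker inferInstance with h1 | h1
  · obtain ⟨a, ha⟩ := ((hσ.hf_stdB ι).mem_center_SUG (by omega) _).1
      (h1 (x := toA hσ g) (by simpa using hg))
    refine ⟨a.1, ?_⟩
    ext i j
    have : g • (Pi.single j 1 : ι → F) = (a.1 : F) • Pi.single j 1 := by
      rw [← toA_apply hσ, ha]; rfl
    simpa [SU.smul_def, one_apply, Pi.single_apply] using congrFun this i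
  · rw [(hσ.hf_stdB ι).SUG_perfect hF (by omega) (by omega)] at h1
    exact absurd (by simpa using h1 (mem_top (toA hσ g₀))) h

theorem exists_proj {M : Matrix ι ι F} (h1 : ct σ M = M) {c : F} (hc : c ≠ 0) (h2 : M * M = c • M)
    (h0 : M ≠ 0) : ∃ x, ∃ a : F, stdB σ ι (a • M *ᵥ x) (a • M *ᵥ x) = 1 := by
  obtain ⟨x, hx⟩ : ∃ x, stdB σ ι x (M *ᵥ x) ≠ 0 := by
    by_contra! H
    obtain ⟨θ, hθ⟩ := hσ.ne
    exact h0 (toLin'.map_eq_zero_iff.1 (LinearMap.ext fun y => (hσ.hf_stdB _).nd' _ fun x =>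
      zero_of_self (B := (stdB σ _).compl₂ (toLin' M)) hθ H x y))
  refine ⟨x, exists_unit hσ ?_⟩
  rw [stdB_mulVec_left, h1, mulVec_mulVec, h2, smul_mulVec, map_smul]
  exact mul_ne_zero hc hx

theorem fin_conj {π : SU σ (Fin 4) →* G} {θ : SU σ (Fin 3) →* G} {C : Subgroup G}
    (h1 : (θ.comp (j1 σ)).range ≤ (Blk σ {0, 1}).map π) (h2 : C ≤ (Blk σ {2, 3}).map π)
    {g : SU σ (Fin 4)} (hg : π g = θ (cyc σ)) {u v : Fin 4 → F}
    (u1 : ∀ i ∉ ({0, 1} : Set (Fin 4)), u i = 0) (v1 : ∀ i ∉ ({2, 3} : Set (Fin 4)), v i = 0)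
    (u2 : stdB σ _ u u = 1) (v2 : stdB σ _ v v = 1)
    (u3 : ∀ i ∈ ({0, 1} : Set (Fin 4)), (g⁻¹ • u) i = 0)
    (v3 : ∀ i ∈ ({0, 1} : Set (Fin 4)), (g⁻¹ • v) i = 0) : ∃ k : SU σ (Fin 4),
      (θ.comp (j1 σ)).range ≤ (Blk σ {0, 1}).map (π.comp (MulAut.conj k).toMonoidHom) ∧
      (θ.comp (j2 σ)).range ≤ (Blk σ {1, 2}).map (π.comp (MulAut.conj k).toMonoidHom) ∧
      C ≤ (Blk σ {2, 3}).map (π.comp (MulAut.conj k).toMonoidHom) := by
  obtain ⟨k, hk, k1⟩ := Blk.trans hσ (Set.nontrivial_pair (by decide)) u1 (v := Pi.single 0 1)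
    (by simp +contextual [Pi.single_apply]) (by simp [u2]) (by rw [u2, b_ee])
  obtain ⟨l, hl, l1⟩ := Blk.trans hσ (Set.nontrivial_pair (by decide)) v1 (v := Pi.single 3 1)
    (by simp +contextual [Pi.single_apply]) (by simp [v2]) (by rw [v2, b_ee])
  have hl' : l ∈ Blk σ ({0, 1} : Set (Fin 4))ᶜ := cpl1.symm ▸ hl
  refine ⟨(k * l)⁻¹, fun a ha => ?_, ?_, fun a ha => ?_⟩
  · obtain ⟨x, hx, rfl⟩ := h1 ha
    exact ⟨_, Blk.conj_compl hk hl' hx, by simp [mul_assoc]⟩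
  · rintro _ ⟨s, rfl⟩
    obtain ⟨x, hx, e⟩ := h1 ⟨s, rfl⟩
    refine ⟨k * l * (g * x * g⁻¹) * (k * l)⁻¹, fun i hi => ?_, ?_⟩
    · obtain ⟨w, w1, w2⟩ : ∃ w : Fin 4 → F, (k * l) • w = Pi.single i 1 ∧
          ∀ i ∈ ({0, 1} : Set (Fin 4)), (g⁻¹ • w) i = 0 := by
        fin_cases i
        · exact ⟨u, by rw [mul_smul, Blk.fix hl' u1, k1]; rfl, u3⟩
        · simp at hi
        · simp at hi
        · exact ⟨v, by rw [mul_smul, l1]; exact hk 3 (by simp), v3⟩
      rw [← w1, mul_smul, inv_smul_smul, mul_smul, mul_smul (g * x), mul_smul g, Blk.fix hx w2,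
        smul_inv_smul]
    · have := congrArg θ (cyc_j1 s)
      simp only [map_mul, ← hg] at this
      simp [mul_assoc, e, ← mul_assoc (π g), this]
  · obtain ⟨x, hx, rfl⟩ := h2 ha
    refine ⟨_, Blk.conj_compl hl (cpl2.symm ▸ hk) hx, ?_⟩
    rw [← Blk.comm hk hl']; simp [mul_assoc]

omit hσ in
theorem fin4 {π : SU σ (Fin 4) →* G} (hπ : ScK π) {θ θ' : SU σ (Fin 3) →* G} {A B C V W : Subgroup G}
    (h : StdV θ A B V) (h' : StdV θ' B C W) (hA : A ≤ (Blk σ {0, 1}).map π)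
    (hB : B ≤ (Blk σ {1, 2}).map π) (hC : C ≤ (Blk σ {2, 3}).map π)
    (hV : V ≤ (Blk σ {0, 1, 2}).map π) (hW : W ≤ (Blk σ {1, 2, 3}).map π) :
    StdV (π.comp (emb σ Fin.castSuccEmb)) A B V ∧ StdV (π.comp (emb σ (Fin.succEmb 3))) B C W := by
  have key : ∀ {θ : SU σ (Fin 3) →* G} {A : Subgroup G} (f : Fin 3 ↪ Fin 4) (g : Fin 2 ↪ Fin 3)
      {T : Set (Fin 4)}, Function.Injective θ → (θ.comp (emb σ g)).range = A →
      Set.range (g.trans f) = T → A ≤ (Blk σ T).map π →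
      ((π.comp (emb σ f)).comp (emb σ g)).range = A := fun f g T h1 h2 h3 h4 => by
    rw [← h2] at h4 ⊢
    refine range_eq_of_le (h1.comp (emb_inj g)) ((le_range_emb _ h3 h4).trans_eq ?_)
    exact congrArg _ (MonoidHom.ext fun s => congrArg π (emb_emb f g s).symm)
  have r2 : ∀ f : Fin 2 ↪ Fin 4, Set.range f = {f 0, f 1} := fun f => by
    ext i; simp [eq_comm]
  refine ⟨⟨hπ.emb _ (k := 3) ?_, key _ _ h.inj h.left ?_ hA, key _ _ h.inj h.right ?_ hB,
    (range_eq_of_le h.inj (le_range_emb _ ?_ (h.range.le.trans hV))).trans h.range⟩,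
    ⟨hπ.emb _ (k := 0) ?_, key _ _ h'.inj h'.left ?_ hB, key _ _ h'.inj h'.right ?_ hC,
    (range_eq_of_le h'.inj (le_range_emb _ ?_ (h'.range.le.trans hW))).trans h'.range⟩⟩
  · rw [rg3]; decide
  · exact r2 _
  · exact r2 _
  · exact rg3 _
  · rw [rg3]; decide
  · exact r2 _
  · exact r2 _
  · exact rg3 _

end Cfsg.Agent.Phan
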