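import Mathlib
import Cfsg.Agent.Phan.Std0

/-!
Elements of order three in unitary groups over the field with four elements.
-/

set_option autoImplicit false
set_option backward.isDefEq.respectTransparency false

namespace Cfsg.Agent.Phan

open Matrix Herm Subgroup

variable {F : Type*} [Field F] {σ : F →+* F} {G : Type*} [Group G] {ι κ : Type*} [Fintype ι]
  [DecidableEq ι] [Fintype κ] [DecidableEq κ]

theorem diag_comm {D g : SU σ ι} (hD : D.1.1.IsDiag) (h : D * g = g * D) {i k : ι}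
    (hne : D.1.1 i i ≠ D.1.1 k k) : g.1.1 i k = 0 := by
  have := congrArg (fun x : SU σ ι => x.1.1 i k) h
  simp only [SU.mul_val] at this
  rw [← hD.diagonal_diag, diagonal_mul, mul_diagonal, diag_apply, diag_apply, mul_comm] at this
  exact by_contra fun h0 => hne (mul_left_cancel₀ h0 this)

theorem diag_fix {D : SU σ ι} (hD : D.1.1.IsDiag) {w : ι → F} (h : D • w = w) {i : ι}
    (hi : D.1.1 i i ≠ 1) : w i = 0 := by
  have := congrFun h i
  rw [SU.smul_def, ← hD.diagonal_diag, mulVec_diagonal, diag_apply] at this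
  exact by_contra fun h0 => hi (mul_right_cancel₀ h0 (this.trans (one_mul _).symm))

theorem fix_four [CharP F 2] {g : SU σ ι} (hg : g ^ 4 = 1) {k : ι} (h : ∀ i ≠ k, g.1.1 i k = 0) :
    g • (Pi.single k 1 : ι → F) = Pi.single k 1 := by
  have h1 : g • (Pi.single k 1 : ι → F) = g.1.1 k k • Pi.single k 1 := by
    ext i; by_cases e : i = k <;> simp [SU.smul_def, e, h]
  have h2 : (g ^ 2) • (Pi.single k 1 : ι → F) = _ :=
    eq_one_of_pow (p := 2) (by rwa [← pow_mul]) (c := g.1.1 k k * g.1.1 k k)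
      (by rw [sq, mul_smul, h1, SU.smul_c, h1, smul_smul])
  rw [sq, mul_smul, h1, SU.smul_c, h1, smul_smul] at h2
  have h3 : g.1.1 k k * g.1.1 k k = 1 := by simpa using congrFun h2 k
  rw [h1, mul_self_eq_one_iff.1 h3 |>.elim id fun h => h.trans (CharTwo.neg_eq 1), one_smul]

theorem trace_emb (f : κ ↪ ι) (s : SU σ κ) :
    (emb σ f s).1.1.trace = s.1.1.trace + Fintype.card ι - Fintype.card κ := by
  rw [emb_val, embM, trace_add, trace_mul_cycle, inc_mul, Matrix.one_mul, trace_sub, trace_one,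
    trace_one]
  ring

theorem trace_conj (k g : SU σ ι) : (k * g * k⁻¹).1.1.trace = g.1.1.trace := by
  rw [SU.mul_val, SU.mul_val, trace_mul_cycle, ← SU.mul_val, inv_mul_cancel]
  exact congrArg trace (Matrix.one_mul _)

/-- fixed point free elements of order three -/
def TB (g : SU σ ι) : Prop := g.1.1 * g.1.1 + g.1.1 + 1 = 0

theorem TB.conj {g : SU σ ι} (h : TB g) (k : SU σ ι) : TB (k * g * k⁻¹) := by
  have h1 : k.1.1 * (k⁻¹).1.1 = 1 := congrArg (·.1.1) (mul_inv_cancel k)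
  rw [TB, ← SU.mul_val, conj_mul, ← h1]
  simp only [SU.mul_val]
  calc _ = k.1.1 * (g.1.1 * g.1.1 + g.1.1 + 1) * (k⁻¹).1.1 := by noncomm_ring
    _ = 0 := by rw [h, Matrix.mul_zero, Matrix.zero_mul]

theorem TB.eq [CharP F 2] {g h : SU σ ι} (e : g * h = h * g) (h1 : TB g) (h2 : TB h)
    (h3 : TB (g * h)) : g = h := by
  rw [TB, ← SU.mul_val, show g * h * (g * h) = g * g * (h * h) by
    rw [mul_assoc, ← mul_assoc h, ← e]; group] at h3
  simp only [SU.mul_val] at h3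
  have h4 : ∀ X : Matrix ι ι F, X + X = 0 := fun X => by ext; exact CharTwo.add_self_eq_zero _
  rw [eq_neg_of_add_eq_zero_left ((add_assoc _ _ _).symm.trans h1),
    eq_neg_of_add_eq_zero_left ((add_assoc _ _ _).symm.trans h2)] at h3
  refine SU.ext (sub_eq_zero.1 ?_)
  rw [← h3, ← sub_eq_zero, ← neg_eq_zero, ← h4 (g.1.1 * h.1.1 + h.1.1 + 1)]
  noncomm_ring

theorem StdV.map {H : Type*} [Group H] {θ : SU σ (Fin 3) →* G} {A B V : Subgroup G}
    (h : StdV θ A B V) {π : G →* H} (hπ : Function.Injective π) :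
    StdV (π.comp θ) (A.map π) (B.map π) (V.map π) :=
  ⟨hπ.comp h.inj, by rw [MonoidHom.comp_assoc, MonoidHom.range_comp, h.left],
    by rw [MonoidHom.comp_assoc, MonoidHom.range_comp, h.right],
    by rw [MonoidHom.range_comp, h.range]⟩

theorem lift_hom {H K : Type*} [Group H] [Group K] {π : G →* H} (hπ : Function.Injective π)
    {θ : K →* H} (h : θ.range ≤ π.range) : ∃ θ' : K →* G, π.comp θ' = θ :=
  ⟨(MonoidHom.ofInjective hπ).symm.toMonoidHom.comp (θ.codRestrict _ fun x => h ⟨x, rfl⟩),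
    MonoidHom.ext fun _ => MonoidHom.apply_ofInjective_symm hπ _⟩

theorem rg_two {i j : ι} (h : i ≠ j) : Set.range (Function.Embedding.embFinTwo h) = {i, j} := by
  ext x; simp [eq_comm, Function.Embedding.embFinTwo_apply_zero,
    Function.Embedding.embFinTwo_apply_one]

variable [Finite F] (hσ : Inv σ)
include hσ

theorem fix_three [CharP F 2] {g : SU σ ι} (hg : g ^ 3 = 1) (h : ¬ TB g) :
    ∃ v : ι → F, stdB σ ι v v = 1 ∧ g • v = v := by
  have h1 : g.1.1 * (g.1.1 * g.1.1) = 1 := congrArg (·.1.1) ((pow_three g).symm.trans hg)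
  have h2 : ct σ g.1.1 = g.1.1 * g.1.1 := by
    rw [← SU.inv_val, inv_eq_of_mul_eq_one_right ((pow_three g).symm.trans hg)]; rfl
  have h3 : g.1.1 * (g.1.1 * g.1.1 + g.1.1 + 1) = g.1.1 * g.1.1 + g.1.1 + 1 := by
    rw [Matrix.mul_add, Matrix.mul_add, h1, Matrix.mul_one]; abel
  obtain ⟨x, a, ha⟩ := exists_proj hσ (M := g.1.1 * g.1.1 + g.1.1 + 1) (c := 3)
    (by
      rw [map_add, map_add, ct_mul, ct_one, h2, Matrix.mul_assoc, h1, Matrix.mul_one, add_comm g.1.1])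
    (fun h => one_ne_zero (by linear_combination h - CharTwo.two_eq_zero (R := F) : (1 : F) = 0))
    (by
      rw [Matrix.add_mul, Matrix.add_mul, Matrix.mul_assoc, h3, h3, Matrix.one_mul,
        show (3 : F) = 1 + 1 + 1 by norm_num, add_smul, add_smul, one_smul]) h
  exact ⟨_, ha, by rw [SU.smul_c, SU.smul_def, mulVec_mulVec, h3]⟩

theorem conj_blk [CharP F 2] {g w : SU σ (Fin 4)} (hg : g ^ 3 = 1) (h : ¬ TB g)
    (hw : w * g * w⁻¹ = g * g) : ∃ k, k * g * k⁻¹ ∈ Blk σ {0, 1} := by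
  obtain ⟨v, h1, h3⟩ := fix_three hσ hg h
  obtain ⟨k, hk⟩ := SU_trans hσ (u := v) (v := Pi.single 3 1) (by simp [h1]) (by rw [h1, b_ee])
  obtain ⟨y, hy⟩ := (range_emb Fin.castSuccEmb).ge (x := k * g * k⁻¹) (by
    rw [rgc]; exact mem_stab.2 (by
      change _ • Pi.single 3 1 = Pi.single 3 1
      rw [← hk, mul_smul, inv_smul_smul, mul_smul, h3]))
  have h4 : y ^ 3 = 1 := emb_inj Fin.castSuccEmb (by rw [map_pow, hy, conj_pow, hg]; simp)
  obtain ⟨u, h5, h6⟩ := fix_three hσ h4 fun H => by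
    have a1 := trace_emb Fin.castSuccEmb (y * y)
    rw [map_mul, hy, conj_mul, trace_conj, ← hw, trace_conj, ← trace_conj k, ← hy, trace_emb] at a1
    have a2 := congrArg trace H
    rw [trace_add, trace_add, trace_one, trace_zero, ← SU.mul_val] at a2
    simp only [Fintype.card_fin, Nat.cast_ofNat] at a2
    exact one_ne_zero (by
      linear_combination a1 + a2 - (y.1.1.trace + 1) * CharTwo.two_eq_zero (R := F) : (1 : F) = 0)
  obtain ⟨l, hl⟩ := SU_trans hσ (u := u) (v := Pi.single 2 1) (by simp [h5]) (by rw [h5, b_ee])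
  obtain ⟨m, hm⟩ := mem_j1 (g := l * y * l⁻¹) (by rw [← hl, mul_smul, inv_smul_smul, mul_smul, h6])
  refine ⟨emb σ Fin.castSuccEmb l * k, ?_⟩
  rw [show ∀ a : SU σ (Fin 4), a * k * g * (a * k)⁻¹ = a * (k * g * k⁻¹) * a⁻¹ from
    fun a => by group, ← hy, ← map_inv, ← map_mul, ← map_mul, ← hm, j1, emb_emb]
  refine Blk.mono ?_ (emb_mem _ _)
  rintro _ ⟨i, rfl⟩
  fin_cases i <;> simp

variable (hF : Nat.card F = 2 ^ 2)
include hF

theorem two_cases (s : SU σ (Fin 2)) : s.1.1.IsDiag ∨ s * s = 1 := by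
  have := char_two hF
  obtain ⟨a1, a2, -, -⟩ := SU.two s
  have a3 := SU.det2 s
  by_cases h : s.1.1 0 0 = 0
  · refine .inr (SU.ext ?_)
    rw [h, map_zero] at a1
    rw [h, zero_mul, zero_sub, CharTwo.neg_eq] at a3
    ext i j; fin_cases i <;> fin_cases j <;> simp [SU.mul_val, mul_apply, h, ← a1, a3, mul_comm]
  · have a4 : s.1.1 0 1 = 0 := by
      have := norm_two hσ hF h
      rw [a1] at this
      refine by_contra fun h0 => one_ne_zero (α := F) ?_
      have a5 := norm_two hσ hF h0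
      rw [a2] at a5
      linear_combination a3 - this - a5
    rw [a4, map_zero, zero_eq_neg] at a2
    refine .inl fun i j hij => ?_
    fin_cases i <;> fin_cases j <;> simp [a2, a4] at hij ⊢

theorem gen_two {K : Subgroup (SU σ (Fin 2))} (h : ∀ g, g * g = 1 → g ∈ K) : K = ⊤ := by
  have := char_two hF
  refine eq_top_iff.2 fun s _ => (two_cases hσ hF s).elim (fun H => ?_) (h s)
  have a1 : s.1.1 0 1 = 0 := H (by decide)
  have a2 : s.1.1 1 0 = 0 := H (by decide)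
  have a3 := SU.det2 s
  rw [a1, zero_mul, sub_zero] at a3
  refine (K.mul_mem_cancel_left (h (wy σ) (SU.ext ?_))).1 (h _ (SU.ext ?_)) <;>
    ext i j <;> fin_cases i <;> fin_cases j <;>
    simp [SU.mul_val, wy, mul_apply, vecMul, dotProduct, a1, a2, a3, mul_comm (s.1.1 1 1),
      CharTwo.neg_eq]

theorem ord_three {s : SU σ (Fin 2)} (h : s ^ 3 = 1) (h1 : s ≠ 1) :
    s.1.1.IsDiag ∧ s.1.1 0 0 ^ 2 + s.1.1 0 0 + 1 = 0 ∧ s.1.1 1 1 = s.1.1 0 0 ^ 2 := by
  rcases two_cases hσ hF s with H | H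
  · have a1 : s.1.1 0 1 = 0 := H (by decide)
    have a2 : s.1.1 1 0 = 0 := H (by decide)
    have a3 := SU.det2 s
    have a4 := (SU.two s).1
    rw [hσ.apply_pow hF] at a4
    refine ⟨H, mul_left_cancel₀ (a := s.1.1 0 0 - 1) (fun h0 => h1 (SU.ext ?_)) ?_, a4.symm⟩
    · rw [sub_eq_zero.1 h0, one_pow] at a4
      ext i j; fin_cases i <;> fin_cases j <;> simp [a1, a2, ← a4, sub_eq_zero.1 h0]
    · rw [a1, ← a4] at a3
      linear_combination a3
  · rw [pow_three, H, mul_one] at h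
    exact absurd h h1

theorem blk_three {i j : ι} (hij : i ≠ j) {g : SU σ ι} (hg : g ∈ Blk σ {i, j}) (h : g ^ 3 = 1)
    (h1 : g ≠ 1) : g.1.1.IsDiag ∧ g.1.1 i i ^ 2 + g.1.1 i i + 1 = 0 ∧ g.1.1 j j = g.1.1 i i ^ 2 := by
  have hr := rg_two hij
  obtain ⟨s, rfl⟩ := (range_emb _).ge (hr.symm ▸ hg)
  obtain ⟨a1, a2, a3⟩ := ord_three hσ hF (s := s)
    (emb_inj (Function.Embedding.embFinTwo hij) (by rw [map_pow, h, map_one]))
    (by rintro rfl; exact h1 (map_one _))
  have e := embM_apply (Function.Embedding.embFinTwo hij) s.1.1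
  rw [← e 0 0] at a2 a3
  refine ⟨fun x y hxy => ?_, a2, (e 1 1).trans a3⟩
  by_cases hx : x ∈ Set.range (Function.Embedding.embFinTwo hij)
  · by_cases hy : y ∈ Set.range (Function.Embedding.embFinTwo hij)
    · obtain ⟨x, rfl⟩ := hx
      obtain ⟨y, rfl⟩ := hy
      exact (e x y).trans (a1 fun h => hxy (congrArg _ h))
    · exact (Blk.col (emb_mem _ s) hy x).trans (one_apply_ne hxy)
  · exact (Blk.row (emb_mem _ s) hx y).trans (one_apply_ne hxy)

theorem col_zero {i j : ι} (hij : i ≠ j) {D : SU σ ι} (hD : D ∈ Blk σ {i, j}) (h : D ^ 3 = 1)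
    (h1 : D ≠ 1) {g : SU σ ι} (hg : D * g = g * D) :
    ∀ k ∈ ({i, j} : Set ι), ∀ x ≠ k, g.1.1 x k = 0 := fun k hk x hx => by
  have := char_two hF
  obtain ⟨a1, a2, a3⟩ := blk_three hσ hF hij hD h h1
  have h2 := CharTwo.two_eq_zero (R := F)
  have b1 : D.1.1 i i ≠ 1 := fun h => one_ne_zero (by rw [h] at a2; linear_combination a2 - h2)
  have b2 : D.1.1 j j ≠ 1 := fun h => one_ne_zero (by
    rw [h] at a3; linear_combination a3 + D.1.1 i i * (a2 + a3 - h2))
  have b3 : D.1.1 i i ≠ D.1.1 j j := fun h => one_ne_zero (by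
    rw [a3] at h; linear_combination a2 + h - D.1.1 i i * h2)
  refine diag_comm a1 hg ?_
  by_cases hx' : x ∈ ({i, j} : Set ι)
  · rcases hx' with rfl | rfl <;> rcases hk with rfl | rfl
    exacts [absurd rfl hx, b3, b3.symm, absurd rfl hx]
  · rw [Blk.col hD hx', one_apply_eq]
    rcases hk with rfl | rfl
    exacts [b1.symm, b2.symm]

theorem exists_omega : ∃ ω : F, σ ω * ω = 1 ∧ ω ^ 2 + ω + 1 = 0 ∧ σ ω = ω ^ 2 := by
  obtain ⟨x, h1, h2, -⟩ := exists_delta hσ
  refine ⟨x, h1, mul_left_cancel₀ (sub_ne_zero.2 h2) ?_, hσ.apply_pow hF x⟩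
  rw [hσ.apply_pow hF] at h1
  linear_combination h1

theorem conj_three {ω : F} (h1 : σ ω * ω = 1) (h2 : ω ^ 2 + ω + 1 = 0) (g : SU σ (Fin 3))
    (b1 : g ^ 3 = 1) (b2 : g ≠ 1) (v : Fin 3 → F) (b3 : stdB σ _ v v = 1) (b4 : g • v = v) :
    ∃ k, k * j1 σ (dg h1) * k⁻¹ = g := by
  have h3 := hσ.apply_pow hF ω
  have h4 : ω ^ 3 = 1 := by linear_combination (ω - 1) * h2
  obtain ⟨l, hl⟩ := SU_trans hσ (u := v) (v := Pi.single 2 1) (by simp [b3]) (by rw [b3, b_ee])
  obtain ⟨m, hm⟩ := mem_j1 (g := l * g * l⁻¹) (by rw [← hl, mul_smul, inv_smul_smul, mul_smul, b4])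
  obtain ⟨a1, a2, a3⟩ := ord_three hσ hF (s := m)
    (emb_inj _ (show j1 σ _ = j1 σ _ by rw [map_pow, hm, conj_pow, b1]; simp))
    (by rintro rfl; rw [map_one, eq_comm, conj_eq_one_iff] at hm; exact b2 hm)
  have a4 : m.1.1 0 1 = 0 := a1 (by decide)
  have a5 : m.1.1 1 0 = 0 := a1 (by decide)
  have a6 : (m.1.1 0 0 - ω) * (m.1.1 0 0 - ω ^ 2) = 0 := by
    linear_combination a2 - m.1.1 0 0 * h2 + h4
  obtain ⟨w, hw⟩ : ∃ w, m = w * dg h1 * w⁻¹ := by
    rcases mul_eq_zero.1 a6 with a6 | a6 <;> rw [sub_eq_zero] at a6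
    · refine ⟨1, SU.ext ?_⟩
      ext i j; fin_cases i <;> fin_cases j <;> simp [dg, a3, a4, a5, a6, h3]
    · refine ⟨wy σ, eq_mul_inv_of_mul_eq (SU.ext ?_)⟩
      ext i j; fin_cases i <;> fin_cases j <;>
        simp [SU.mul_val, mul_apply, dg, wy, a3, a4, a5, a6, h3]
      linear_combination ω * h4
  refine ⟨l⁻¹ * j1 σ w, ?_⟩
  rw [show ∀ a b : SU σ (Fin 3), l⁻¹ * a * b * (l⁻¹ * a)⁻¹ = l⁻¹ * (a * b * a⁻¹) * l from
    fun a b => by group, ← map_inv, ← map_mul, ← map_mul, ← hw, hm]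
  group

omit [Finite F] hσ hF in
theorem cyc_cube {ω : F} (h1 : σ ω * ω = 1) : cyc σ ^ 3 = 1 ∧ (cyc σ * j1 σ (dg h1)) ^ 3 = 1 := by
  constructor <;> refine SU.ext ?_ <;> ext i j <;> fin_cases i <;> fin_cases j <;>
    simp [pow_three, SU.mul_val, cyc, j1_val, dg, mul_apply, Fin.sum_univ_three, h1, mul_comm ω]

omit [Finite F] hσ hF in
theorem dg_comm {ω : F} (h1 : σ ω * ω = 1) :
    j1 σ (dg h1) * j2 σ (dg h1) = j2 σ (dg h1) * j1 σ (dg h1) := SU.ext (by
  ext i j; fin_cases i <;> fin_cases j <;>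
    simp [SU.mul_val, j1_val, j2_val, dg, mul_apply, Fin.sum_univ_three, mul_comm])

theorem not_TB {ω : F} (h1 : σ ω * ω = 1) (h2 : ω ^ 2 + ω + 1 = 0) {θ : SU σ (Fin 3) →* SU σ ι}
    (hθ : θ.ker ≤ center _) : ¬ TB (θ (j1 σ (dg h1))) := fun H => by
  have := char_two hF
  have c2 := CharTwo.two_eq_zero (R := F)
  have h3 := hσ.apply_pow hF ω
  have h0 : ω ≠ 1 := fun h => one_ne_zero (by rw [h] at h2; linear_combination h2 - c2)
  have h4 : ω ^ 3 = 1 := by linear_combination (ω - 1) * h2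
  have key : ∀ g : SU σ (Fin 3), g ^ 3 = 1 → g ≠ 1 → ∀ v : Fin 3 → F, stdB σ _ v v = 1 →
      g • v = v → TB (θ g) := fun g b1 b2 v b3 b4 => by
    obtain ⟨k, rfl⟩ := conj_three hσ hF h1 h2 g b1 b2 v b3 b4
    simpa using H.conj (θ k)
  have b1 : TB (θ (j2 σ (dg h1))) := by
    have := H.conj (θ (cyc σ))
    rwa [← map_mul, cyc_j1, map_mul, mul_inv_cancel_right] at this
  have b2 : θ (j1 σ (dg h1)) = θ (j2 σ (dg h1)) := by
    refine TB.eq ?_ H b1 ?_ <;> rw [← map_mul]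
    · rw [← map_mul, dg_comm]
    · have e : (j1 σ (dg h1) * j2 σ (dg h1)).1.1 = diagonal ![ω, 1, ω ^ 2] := by
        ext i j; fin_cases i <;> fin_cases j <;>
          simp [SU.mul_val, j1_val, j2_val, dg, mul_apply, Fin.sum_univ_three, h1, h3.symm]
      refine key _ (SU.ext ?_) (fun h => h0 ?_) (Pi.single 1 1) (b_ee _) ?_
      · change (j1 σ (dg h1) * j2 σ (dg h1)).1.1 ^ 3 = 1
        rw [e, diagonal_pow]
        ext i j; fin_cases i <;> fin_cases j <;> simp [h4]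
        linear_combination (ω ^ 3 + 1) * h4
      · rw [h] at e
        simpa using (congrFun (congrFun e 0) 0).symm
      · rw [SU.smul_def, e]; ext i; fin_cases i <;> simp
  have b3 : θ (cyc σ) = θ (j1 σ (dg h1)) := by
    refine TB.eq (by rw [← map_mul, cyc_j1, map_mul, b2]) (key _ (cyc_cube h1).1 (fun h => ?_)
      ![1, 1, 1] ?_ ?_) H (map_mul θ _ _ ▸ key _ (cyc_cube h1).2 (fun h => ?_) ![1, ω, 1] ?_ ?_)
    · simpa [cyc] using congrArg (fun s : SU σ (Fin 3) => s.1.1 0 0) h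
    · simp [stdB_apply, Fin.sum_univ_three]; linear_combination c2
    · ext i; fin_cases i <;> simp [SU.smul_def, cyc, mulVec, dotProduct, Fin.sum_univ_three]
    · simpa [cyc, SU.mul_val, j1_val, mul_apply, Fin.sum_univ_three] using
        congrArg (fun s : SU σ (Fin 3) => s.1.1 0 0) h
    · simp [stdB_apply, Fin.sum_univ_three, h1]; linear_combination c2
    · ext i; fin_cases i <;>
        simp [SU.smul_def, SU.mul_val, cyc, j1_val, dg, mul_apply, mulVec, dotProduct,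
          Fin.sum_univ_three, h1]
  obtain ⟨r, hr⟩ := center_scalar hσ (hθ (x := cyc σ * (j1 σ (dg h1))⁻¹) (by simp [b3]))
  have := congrArg (fun s : SU σ (Fin 3) => s.1.1 1 0) (inv_mul_cancel_right (cyc σ) (j1 σ (dg h1)))
  simp only [SU.mul_val (_ * _), hr] at this
  simp [cyc, j1_val, dg] at this

end Cfsg.Agent.Phan
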