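import Mathlib
import Cfsg.Agent.Phan.Std2

/-!
Standard triples in `SU₄(2)`.
-/

set_option autoImplicit false
set_option backward.isDefEq.respectTransparency false

namespace Cfsg.Agent.Phan

open Matrix Herm Subgroup

variable {F : Type*} [Field F] {σ : F →+* F} {G : Type*} [Group G] {ι : Type*} [Fintype ι]
  [DecidableEq ι]

theorem two_ones [CharP F 2] {a b c d : F} (ha : a ^ 3 = 1) (hb : b ^ 3 = 1) (hc : c ^ 3 = 1)
    (hd : d ^ 3 = 1) (h1 : a * b * c * d = 1) (h2 : a + b + c + d = 1) (h3 : a ≠ 1) (h4 : b ≠ 1) :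
    c = 1 ∧ d = 1 := by
  have c2 := CharTwo.two_eq_zero (R := F)
  have a1 : a ^ 2 + a + 1 = 0 := mul_left_cancel₀ (sub_ne_zero.2 h3) (by linear_combination ha)
  have a2 : b ^ 2 + b + 1 = 0 := mul_left_cancel₀ (sub_ne_zero.2 h4) (by linear_combination hb)
  have a3 : (b - a) * (b + a + 1) = 0 := by linear_combination a2 - a1
  rcases mul_eq_zero.1 a3 with a3 | a3
  · obtain rfl : b = a := sub_eq_zero.1 a3
    obtain rfl : d = c + 1 := by linear_combination h2 - (b + c) * c2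
    have a4 : c * (c + 1) = 1 := by linear_combination hd - hc - (c ^ 2 + c + 1) * c2
    have a5 : b * b = 1 := by linear_combination h1 - b * b * a4
    exact absurd ((mul_self_eq_one_iff.1 a5).elim id fun h => h.trans (CharTwo.neg_eq 1)) h3
  · obtain rfl : d = c := by linear_combination h2 - a3 + (1 - c) * c2
    have a4 : a * b = 1 := by linear_combination a * a3 - a1
    have a5 : d * d = 1 := by linear_combination h1 - d * d * a4
    have := (mul_self_eq_one_iff.1 a5).elim id fun h => h.trans (CharTwo.neg_eq 1)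
    exact ⟨this, this⟩

theorem diag_cube {D : SU σ ι} (hD : D.1.1.IsDiag) (h : D ^ 3 = 1) (i : ι) : D.1.1 i i ^ 3 = 1 := by
  have h1 : D.1.1 ^ 3 = 1 := congrArg (·.1.1) h
  rw [← hD.diagonal_diag, diagonal_pow] at h1
  simpa using congrFun (congrFun h1 i) i

theorem dg_cube {ω : F} (h1 : σ ω * ω = 1) (h2 : ω ^ 2 + ω + 1 = 0) : dg h1 ^ 3 = 1 := by
  have h4 : ω ^ 3 = 1 := by linear_combination (ω - 1) * h2
  have h5 : σ ω ^ 3 = 1 := by rw [← map_pow, h4, map_one]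
  refine SU.ext ?_
  rw [pow_three] at h4 h5
  ext i j; fin_cases i <;> fin_cases j <;> simp [pow_three, SU.mul_val, dg, h4, h5]

theorem dg_ne [CharP F 2] {ω : F} (h1 : σ ω * ω = 1) (h2 : ω ^ 2 + ω + 1 = 0) : dg h1 ≠ 1 :=
  fun h => one_ne_zero (by
    have : ω = 1 := by simpa [dg] using congrArg (fun s : SU σ (Fin 2) => s.1.1 0 0) h
    rw [this] at h2; linear_combination h2 - CharTwo.two_eq_zero (R := F) : (1 : F) = 0)

variable [Finite F] (hσ : Inv σ) (hF : Nat.card F = 2 ^ 2)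
include hσ hF

theorem stageB {θ : SU σ (Fin 3) →* SU σ ι} (hθ : θ.ker ≤ center _) {i j l k : ι} (hij : i ≠ j)
    (hjl : j ≠ l) (hil : i ≠ l) (hk : ∀ x, x = k ↔ x ∉ ({i, j, l} : Set ι))
    (h1 : ∀ s, θ (j1 σ s) ∈ Blk σ {i, j}) (h2 : ∀ s, θ (j2 σ s) ∈ Blk σ {j, l}) :
    Function.Injective θ ∧ ∀ g, θ g ∈ Blk σ {i, j, l} := by
  have := char_two hF
  have c2 := CharTwo.two_eq_zero (R := F)
  obtain ⟨ω, w1, w2, w3⟩ := exists_omega hσ hF
  have w4 : ω ^ 3 = 1 := by linear_combination (ω - 1) * w2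
  have d1 := dg_cube w1 w2
  obtain ⟨a1, a2, a3⟩ := blk_three hσ hF hij (h1 (dg w1)) (by simp [← map_pow, d1])
    fun h => dg_ne w1 w2 (j1_central hσ (hθ h))
  obtain ⟨b1, b2, b3⟩ := blk_three hσ hF hjl (h2 (dg w1)) (by simp [← map_pow, d1])
    fun h => dg_ne w1 w2 (j2_central hσ (hθ h))
  have z1 : (j1 σ (dg w1) * j2 σ (dg w1) * j2 σ (dg w1)).1.1 = ω • 1 := by
    ext i j; fin_cases i <;> fin_cases j <;>
      simp [SU.mul_val, j1_val, j2_val, dg, mul_apply, Fin.sum_univ_three, w3]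
    · linear_combination ω * w4
    · linear_combination ω * w4
  have z2 : (θ (j1 σ (dg w1) * j2 σ (dg w1) * j2 σ (dg w1))).1.1 = diagonal fun x =>
      (θ (j1 σ (dg w1))).1.1 x x * (θ (j2 σ (dg w1))).1.1 x x * (θ (j2 σ (dg w1))).1.1 x x := by
    rw [map_mul, map_mul, SU.mul_val, SU.mul_val, ← a1.diagonal_diag, ← b1.diagonal_diag,
      diagonal_mul_diagonal, diagonal_mul_diagonal]
    simp
  have z3 : (θ (j1 σ (dg w1) * j2 σ (dg w1) * j2 σ (dg w1))).1.1 i i ≠ 1 := by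
    rw [z2, diagonal_apply_eq, Blk.col (h2 _) (k := i) (by simp [hij, hil]), one_apply_eq, mul_one,
      mul_one]
    exact fun h => one_ne_zero (by rw [h] at a2; linear_combination a2 - c2)
  have z4 : (θ (j1 σ (dg w1) * j2 σ (dg w1) * j2 σ (dg w1))).1.1 l l ≠ 1 := by
    rw [z2, diagonal_apply_eq, Blk.col (h1 _) (k := l) (by simp [hjl.symm, hil.symm]), one_apply_eq,
      one_mul, b3]
    generalize (θ (j2 σ (dg w1))).1.1 j j = b at b2
    exact fun h => one_ne_zero (by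
      have : b = 1 := by linear_combination h - (b - 1) * b * b2
      rw [this] at b2; linear_combination b2 - c2)
  have hk' := (hk k).1 rfl
  have z5 : (θ (j1 σ (dg w1) * j2 σ (dg w1) * j2 σ (dg w1))).1.1 k k = 1 := by
    rw [z2, diagonal_apply_eq, Blk.col (h1 _) (k := k) fun h => hk' (h.imp_right .inl),
      Blk.col (h2 _) (k := k) fun h => hk' (.inr h), one_apply_eq, mul_one, mul_one]
  have z6 : (θ (j1 σ (dg w1) * j2 σ (dg w1) * j2 σ (dg w1))).1.1.IsDiag := z2 ▸ isDiag_diagonal _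
  generalize j1 σ (dg w1) * j2 σ (dg w1) * j2 σ (dg w1) = z at z1 z3 z4 z5 z6
  have z7 : ∀ g, θ z * θ g = θ g * θ z := fun g => by
    rw [← map_mul, ← map_mul]
    exact congrArg θ (SU.ext (by simp [SU.mul_val, z1]))
  have z8 : (θ z).1.1 j j ≠ 1 := by
    obtain ⟨s, hs⟩ := (range_eq_of_le (f := θ.comp (j1 σ))
      (g := emb σ (Function.Embedding.embFinTwo hij)) ((injective_iff_map_eq_one _).2 fun s hs =>
        j1_central hσ (hθ hs)) (by
          rw [range_emb, rg_two]; rintro _ ⟨s, rfl⟩; exact h1 s)).le ⟨wy σ, rfl⟩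
    have := embM_apply (Function.Embedding.embFinTwo hij) (wy σ).1.1 0 1
    rw [← emb_val, ← hs] at this
    exact fun h => one_ne_zero (this.symm.trans
      (diag_comm (i := i) (k := j) z6 (z7 _) fun h' => z3 (h'.trans h)))
  refine ⟨(injective_iff_map_eq_one _).2 fun g hg => ?_, fun g x hx => ?_⟩
  · obtain ⟨r, hr⟩ := center_scalar hσ (hθ hg)
    have r1 := g.1.2
    rw [hr, det_smul, det_one, mul_one, Fintype.card_fin] at r1
    have r2 : (r - 1) * (r - ω) * (r - ω * ω) = 0 := by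
      linear_combination r1 - (r ^ 2 - r * ω) * w2 - w4
    rcases mul_eq_zero.1 r2 with r2 | r2
    · rcases mul_eq_zero.1 r2 with r2 | r2 <;> rw [sub_eq_zero] at r2
      · exact SU.ext (by rw [hr, r2, one_smul]; rfl)
      · rw [show z = g from SU.ext (by rw [z1, hr, r2]), hg] at z3
        exact absurd (one_apply_eq i) z3
    · rw [show z = g * g from SU.ext (by
        rw [z1, SU.mul_val, hr, sub_eq_zero.1 r2]
        simp [smul_smul, show ω * ω * (ω * ω) = ω by linear_combination ω * w4]),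
        map_mul, hg, mul_one] at z3
      exact absurd (one_apply_eq i) z3
  · obtain rfl := (hk x).2 hx
    refine mem_stab.1 ((gen_four hσ (K := (Blk σ {x}ᶜ).comap θ) fun g hg => ?_).ge (mem_top g))
    refine mem_stab.2 (fix_four (by rw [← map_pow, hg, map_one]) fun y hy =>
      diag_comm z6 (z7 g) ?_)
    rw [z5]
    rcases not_not.1 (mt (hk y).2 hy) with rfl | rfl | rfl
    exacts [z3, z8, z4]

theorem stageA {θ θ' : SU σ (Fin 3) →* SU σ (Fin 4)} (hθ : θ.ker ≤ center _)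
    (hθ' : θ'.ker ≤ center _) (e : ∀ s, θ' (j1 σ s) = θ (j2 σ s))
    (hc : ∀ s t, θ (j1 σ s) * θ' (j2 σ t) = θ' (j2 σ t) * θ (j1 σ s)) {ω : F} (w1 : σ ω * ω = 1)
    (w2 : ω ^ 2 + ω + 1 = 0) (hD : θ (j1 σ (dg w1)) ∈ Blk σ {0, 1}) : ∃ k : SU σ (Fin 4),
      (θ.comp (j1 σ)).range ≤
        (Blk σ {0, 1}).map ((MonoidHom.id _).comp (MulAut.conj k).toMonoidHom) ∧
      (θ.comp (j2 σ)).range ≤
        (Blk σ {1, 2}).map ((MonoidHom.id _).comp (MulAut.conj k).toMonoidHom) ∧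
      (θ'.comp (j2 σ)).range ≤
        (Blk σ {2, 3}).map ((MonoidHom.id _).comp (MulAut.conj k).toMonoidHom) := by
  have := char_two hF
  have c2 := CharTwo.two_eq_zero (R := F)
  have d1 := dg_cube w1 w2
  have d2 : θ (j1 σ (dg w1)) ^ 3 = 1 := by simp [← map_pow, d1]
  have d3 : θ (j1 σ (dg w1)) ≠ 1 := fun h => dg_ne w1 w2 (j1_central hσ (hθ h))
  have d4 : θ' (j2 σ (dg w1)) ^ 3 = 1 := by simp [← map_pow, d1]
  have d5 : θ' (j2 σ (dg w1)) ≠ 1 := fun h => dg_ne w1 w2 (j2_central hσ (hθ' h))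
  have p4 : ∀ g : SU σ (Fin 2), g * g = 1 → g ^ 4 = 1 := fun g h => by
    rw [show 4 = 2 * 2 from rfl, pow_mul, sq g, h, one_pow]
  have lC : ∀ s, θ' (j2 σ s) ∈ Blk σ {2, 3} := fun s =>
    (gen_two hσ hF (K := (Blk σ {2, 3}).comap (θ'.comp (j2 σ))) fun g hg k hk =>
      fix_four (by rw [← map_pow, p4 g hg, map_one])
        (col_zero hσ hF (by decide) hD d2 d3 (hc _ g) k (cpl2.le hk))).ge (mem_top s)
  have lA : ∀ s, θ (j1 σ s) ∈ Blk σ {0, 1} := fun s =>
    (gen_two hσ hF (K := (Blk σ {0, 1}).comap (θ.comp (j1 σ))) fun g hg k hk =>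
      fix_four (by rw [← map_pow, p4 g hg, map_one])
        (col_zero hσ hF (by decide) (lC _) d4 d5 (hc g _).symm k (cpl1.le hk))).ge (mem_top s)
  obtain ⟨a1, a2, a3⟩ := blk_three hσ hF (by decide) hD d2 d3
  have b1 : (θ (j2 σ (dg w1))).1.1.IsDiag := fun x k hx => by
    by_cases hk : k ∈ ({0, 1} : Set (Fin 4))
    · exact col_zero hσ hF (by decide) hD d2 d3 (by rw [← map_mul, dg_comm, map_mul]) k hk x hx
    · exact col_zero hσ hF (by decide) (lC _) d4 d5 (by rw [← e, ← map_mul, ← dg_comm, map_mul])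
        k (cpl1.le hk) x hx
  have b2 : θ (cyc σ) * θ (j1 σ (dg w1)) * (θ (cyc σ))⁻¹ = θ (j2 σ (dg w1)) := by
    rw [← map_mul, cyc_j1, map_mul, mul_inv_cancel_right]
  have b3 := diag_cube b1 (by simp [← map_pow, d1])
  have b4 := (θ (j2 σ (dg w1))).1.2
  rw [← b1.diagonal_diag, det_diagonal, Fin.prod_univ_four] at b4
  have b5 := trace_conj (θ (cyc σ)) (θ (j1 σ (dg w1)))
  rw [b2, trace, trace, Fin.sum_univ_four, Fin.sum_univ_four] at b5
  simp only [diag_apply] at b4 b5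
  rw [a3, Blk.col hD (k := 2) (by decide), Blk.col hD (k := 3) (by decide), one_apply_eq,
    one_apply_eq, show ∀ a : F, a ^ 2 + a + 1 = 0 → a + a ^ 2 + 1 + 1 = 1 from
      fun a h => by linear_combination h] at b5
  swap
  · exact a2
  have b6 : ∀ T : Set (Fin 4), (∀ k ∉ T, (θ (j2 σ (dg w1))).1.1 k k = 1) →
      θ (j2 σ (dg w1)) ∈ Blk σ T := fun T h => mem_Blk fun k hk i => by
    by_cases e : i = k
    · rw [e, h k hk, one_apply_eq]
    · rw [b1 e, one_apply_ne e]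
  have b7 : ∀ k, (θ (j2 σ (dg w1))).1.1 k k = 1 → ∀ i ∈ ({0, 1} : Set (Fin 4)),
      ((θ (cyc σ))⁻¹ • (Pi.single k 1 : Fin 4 → F)) i = 0 := fun k hk i hi => by
    refine diag_fix a1 ?_ ?_
    · rw [← mul_smul, eq_inv_smul_iff, ← mul_smul, ← mul_assoc, b2]
      exact b6 {k}ᶜ (fun x hx => not_not.1 hx ▸ hk) k (by simp)
    · rcases hi with rfl | rfl
      · exact fun h => one_ne_zero (by rw [h] at a2; linear_combination a2 - c2)
      · rw [a3]
        exact fun h => one_ne_zero (by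
          linear_combination -h + (θ (j1 σ (dg w1))).1.1 0 0 * (a2 - h - c2))
  obtain ⟨u, u1, u2⟩ : ∃ u ∈ ({0, 1} : Set (Fin 4)), (θ (j2 σ (dg w1))).1.1 u u = 1 := by
    by_contra! H
    obtain ⟨b8, b9⟩ := two_ones (b3 0) (b3 1) (b3 2) (b3 3) b4 b5 (H 0 (by simp)) (H 1 (by simp))
    have := Blk.comm (b6 {0, 1} fun k hk => by rcases cpl1.le hk with rfl | rfl <;> assumption)
      (cpl1.symm ▸ lC (wy σ))
    rw [← e, ← map_mul, ← map_mul] at this
    obtain ⟨r, hr⟩ := center_scalar hσ (hθ' ((MonoidHom.eq_iff _).1 this))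
    have e := fun i j => congrArg (fun s : SU σ (Fin 3) => s.1.1 i j)
      (mul_inv_cancel_left (j2 σ (wy σ) * j1 σ (dg w1)) (j1 σ (dg w1) * j2 σ (wy σ)))
    have e1 := e 0 0
    have e2 := e 2 1
    simp only [SU.mul_val (_ * _) (_ * _), hr] at e1 e2
    simp [SU.mul_val, j1_val, j2_val, dg, wy, mul_apply, Fin.sum_univ_three] at e1 e2
    have e3 : ω ≠ 0 := by rintro rfl; simp at w2
    rw [mul_right_eq_self₀.1 e1 |>.resolve_right e3, mul_one] at e2
    rw [e2, one_mul] at w1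
    rw [w1] at w2
    exact one_ne_zero (by linear_combination w2 - c2 : (1 : F) = 0)
  obtain ⟨v, v1, v2⟩ : ∃ u ∈ ({2, 3} : Set (Fin 4)), (θ (j2 σ (dg w1))).1.1 u u = 1 := by
    by_contra! H
    obtain ⟨b8, b9⟩ := two_ones (b3 2) (b3 3) (b3 0) (b3 1) (by linear_combination b4)
      (by linear_combination b5) (H 2 (by simp)) (H 3 (by simp))
    have := Blk.comm (b6 {2, 3} fun k hk => by rcases cpl2.le hk with rfl | rfl <;> assumption)
      (cpl2.symm ▸ lA (wy σ))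
    rw [← map_mul, ← map_mul, ← mul_inv_eq_one, ← map_inv, ← map_mul] at this
    exact dg_ne w1 w2 (cj hσ (hθ this) (inv_mul_cancel_right _ _).symm)
  exact fin_conj hσ (π := MonoidHom.id _) (by rintro _ ⟨s, rfl⟩; exact ⟨_, lA s, rfl⟩)
    (by rintro _ ⟨s, rfl⟩; exact ⟨_, lC s, rfl⟩) rfl
    (fun i hi => Pi.single_eq_of_ne (by rintro rfl; exact hi u1) _)
    (fun i hi => Pi.single_eq_of_ne (by rintro rfl; exact hi v1) _) (b_ee u) (b_ee v)
    (b7 u u2) (b7 v v2)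

theorem std2 {π : SU σ (Fin 4) →* G} {θ θ' : SU σ (Fin 3) →* G}
    {A B C : Subgroup G} (h : Std θ A B) (h' : Std θ' B C)
    (hc : ∀ x ∈ A, ∀ y ∈ C, x * y = y * x) (hV : θ.range ≤ π.range) (hW : θ'.range ≤ π.range) :
    ∃ χ : SU σ (Fin 4) →* G, StdV (χ.comp (emb σ Fin.castSuccEmb)) A B θ.range ∧
      StdV (χ.comp (emb σ (Fin.succEmb 3))) B C θ'.range := by
  have := char_two hF
  obtain ⟨θ'', k1, k2, k3⟩ := loc hσ h h' hc
  rw [← k2] at hW ⊢
  clear k2 h' θ'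
  obtain ⟨ω, w1, w2, w3⟩ := exists_omega hσ hF
  have hπ : Function.Injective π := by
    obtain ⟨g₀, hg⟩ := hV ⟨j1 σ (wy σ), rfl⟩
    refine (injective_iff_map_eq_one _).2 fun g e => ?_
    obtain ⟨r, hr⟩ := scK hσ hF (by simp) (g₀ := g₀)
      (fun H => wy_ne (j1_central hσ (h.ker (hg.symm.trans H)))) g e
    have r1 := g.1.2
    rw [hr, det_smul, det_one, mul_one, Fintype.card_fin] at r1
    have r2 : r ≠ 0 := by rintro rfl; simp at r1
    have r3 := norm_two hσ hF r2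
    rw [hσ.apply_pow hF] at r3
    exact SU.ext (by rw [hr, show r = 1 by linear_combination r1 - r * r3, one_smul]; rfl)
  have conj : ∀ k : SU σ (Fin 4), Function.Injective (π.comp (MulAut.conj k).toMonoidHom) ∧
      (π.comp (MulAut.conj k).toMonoidHom).range = π.range :=
    fun k => ⟨hπ.comp (MulAut.conj k).injective, range_comp_eq _ (MulAut.conj k).surjective⟩
  have ker : ∀ {π : SU σ (Fin 4) →* G} {θ : SU σ (Fin 3) →* SU σ (Fin 4)} {A B : Subgroup G},
      Std (π.comp θ) A B → θ.ker ≤ center _ := fun h g hg => h.ker (by simp [show _ = _ from hg])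
  obtain ⟨k, hk⟩ : ∃ k D, D ∈ Blk σ {0, 1} ∧
      π.comp (MulAut.conj k).toMonoidHom D = θ (j1 σ (dg w1)) := by
    obtain ⟨θ, rfl⟩ := lift_hom hπ hV
    obtain ⟨k, hk⟩ := conj_blk hσ (w := θ (j1 σ (wy σ))) (by simp [← map_pow, dg_cube w1 w2])
      (not_TB hσ hF w1 w2 (ker h)) (by
        simp only [← map_inv, ← map_mul]
        congr 2
        refine mul_inv_eq_of_eq_mul (SU.ext ?_)
        ext i j; fin_cases i <;> fin_cases j <;> simp [SU.mul_val, dg, wy, w3, mul_apply, sq]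
        linear_combination (1 - ω) * ω * w2)
    exact ⟨k⁻¹, _, hk, by simp [mul_assoc]⟩
  obtain ⟨hπ, hr⟩ := conj k
  rw [← hr] at hV hW
  generalize π.comp (MulAut.conj k).toMonoidHom = π at *
  obtain ⟨θ, rfl⟩ := lift_hom hπ hV
  obtain ⟨θ', rfl⟩ := lift_hom hπ hW
  obtain ⟨D, hD, e⟩ := hk
  obtain ⟨k, b1, b2, b3⟩ := stageA hσ hF (ker h) (ker k1) (fun s => hπ (k3 s))
    (fun s t => hπ (by simpa using hc _ (h.left.le ⟨s, rfl⟩) _ (k1.right.le ⟨t, rfl⟩))) w1 w2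
    (hπ e ▸ hD)
  have b4 : (θ'.comp (j1 σ)).range = (θ.comp (j2 σ)).range :=
    congrArg _ (MonoidHom.ext fun s => hπ (k3 s))
  have key : ∀ {T : Set (Fin 4)} {x : SU σ (Fin 4)},
      x ∈ (Blk σ T).map ((MonoidHom.id _).comp (MulAut.conj k).toMonoidHom) ↔
        (MulAut.conj k⁻¹).toMonoidHom x ∈ Blk σ T :=
    ⟨by rintro ⟨x, hx, rfl⟩; simpa [mul_assoc] using hx, fun h => ⟨_, h, by simp [mul_assoc]⟩⟩
  obtain ⟨c1, c2⟩ := stageB hσ hF (θ := (MulAut.conj k⁻¹).toMonoidHom.comp θ)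
    (fun g hg => ker h ((map_eq_one_iff _ (MulAut.conj k⁻¹).injective).1 hg)) (i := 0) (j := 1)
    (l := 2) (k := 3) (by decide) (by decide) (by decide) (fun x => by fin_cases x <;> simp)
    (fun s => key.1 (b1 ⟨s, rfl⟩)) fun s => key.1 (b2 ⟨s, rfl⟩)
  obtain ⟨c3, c4⟩ := stageB hσ hF (θ := (MulAut.conj k⁻¹).toMonoidHom.comp θ')
    (fun g hg => ker k1 ((map_eq_one_iff _ (MulAut.conj k⁻¹).injective).1 hg)) (i := 1) (j := 2)
    (l := 3) (k := 0) (by decide) (by decide) (by decide) (fun x => by fin_cases x <;> simp)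
    (fun s => key.1 (b2 (b4.le ⟨s, rfl⟩))) fun s => key.1 (b3 ⟨s, rfl⟩)
  obtain ⟨c5, c6⟩ := fin4 (ScK.conj (fun g hg => ⟨1, by rw [show g = 1 from hg, one_smul]; rfl⟩) k)
    ⟨.of_comp (f := MulAut.conj k⁻¹) c1, rfl, rfl, rfl⟩
    ⟨.of_comp (f := MulAut.conj k⁻¹) c3, b4, rfl, rfl⟩ b1 b2 b3
    (by rintro _ ⟨s, rfl⟩; exact key.2 (c2 s)) (by rintro _ ⟨s, rfl⟩; exact key.2 (c4 s))
  have c7 := c5.map hπ
  have c8 := c6.map hπ
  simp only [← MonoidHom.range_comp, ← MonoidHom.comp_assoc, h.left, h.right, k1.right] at c7 c8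
  exact ⟨_, c7, c8⟩

end Cfsg.Agent.Phan
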